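import Cfsg.Agent.Lib.Blocks.PrimeDefect.Stable

/-!
# Relative traces of endomorphisms at a trivial intersection subgroup

`H ≤ Γ`, `P ≤ H` and an idempotent `c` fixed by `H`, a relative trace from `P`, orthogonal to its
conjugates by elements of `Nz ∖ H`, where two conjugates of `P` by elements of `Γ` and of `H` meet
trivially unless the first element is in `Nz`.  Then the restriction of a trace from `H` of an
`H`-endomorphism `π` under `c` is `π` up to a trace from the trivial subgroup.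
-/

set_option autoImplicit false
set_option linter.unusedSectionVars false

namespace CfsgLib.Blocks.CyclicDefect

variable {Γ k A : Type*} [Group Γ] [Fintype Γ] [Field k] [Ring A] [Algebra k A]

/-- Conjugation. -/
def cj (ρ : Γ →* A) (g : Γ) : A →+ A :=
  (AddMonoidHom.mulLeft (ρ g)).comp (AddMonoidHom.mulRight (ρ g⁻¹))

variable (ρ : Γ →* A)

theorem cj_apply (g : Γ) (a : A) : cj ρ g a = ρ g * a * ρ g⁻¹ := (mul_assoc _ _ _).symm

theorem cj_cj (g h : Γ) (a : A) : cj ρ g (cj ρ h a) = cj ρ (g * h) a := by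
  simp [cj_apply, mul_assoc]

theorem cj_one (a : A) : cj ρ 1 a = a := by simp [cj_apply]

theorem cj_mul (g : Γ) (a b : A) : cj ρ g (a * b) = cj ρ g a * cj ρ g b := by
  simp [cj_apply, mul_assoc, ← mul_assoc (ρ g⁻¹), ← map_mul]

theorem cj_eq_iff {g : Γ} {a : A} : cj ρ g a = a ↔ a * ρ g = ρ g * a := by
  rw [cj_apply]
  constructor <;> intro h
  · conv_lhs => rw [← h]
    simp [mul_assoc, ← map_mul]
  · rw [← h]
    simp [mul_assoc, ← map_mul]

variable {S : Subgroup Γ}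

/-- The conjugate by a coset. -/
noncomputable def cjQ (a : A) (q : Γ ⧸ S) : A := cj ρ (Quotient.out q) a

theorem cjQ_mk {a : A} (ha : ∀ s ∈ S, a * ρ s = ρ s * a) (g : Γ) :
    cjQ ρ a (g : Γ ⧸ S) = cj ρ g a := by
  obtain ⟨s, hs⟩ := QuotientGroup.mk_out_eq_mul S g
  rw [cjQ, hs, ← cj_cj, (cj_eq_iff ρ).mpr (ha _ s.2)]

theorem cj_cjQ {a : A} (ha : ∀ s ∈ S, a * ρ s = ρ s * a) (g : Γ) (q : Γ ⧸ S) :
    cj ρ g (cjQ ρ a q) = cjQ ρ a (g • q) := by
  conv_rhs => rw [← QuotientGroup.out_eq' q]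
  rw [cjQ, cj_cj]
  exact (cjQ_mk ρ ha _).symm

variable (S) in
/-- The trace from a subgroup. -/
noncomputable def trQ (a : A) : A :=
  letI := Fintype.ofFinite (Γ ⧸ S)
  ∑ q : Γ ⧸ S, cjQ ρ a q

theorem trQ_eq [Fintype (Γ ⧸ S)] (a : A) : trQ ρ S a = ∑ q : Γ ⧸ S, cjQ ρ a q := by
  rw [trQ]
  convert rfl

theorem trQ_commute {a : A} (ha : ∀ s ∈ S, a * ρ s = ρ s * a) (g : Γ) :
    trQ ρ S a * ρ g = ρ g * trQ ρ S a := by
  let := Fintype.ofFinite (Γ ⧸ S)
  rw [← cj_eq_iff, trQ_eq, map_sum]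
  exact Fintype.sum_equiv (MulAction.toPerm g) _ _ fun q => cj_cjQ ρ ha g q

open Classical in
/-- The cosets of `P` in `H`. -/
noncomputable def inH (H P : Subgroup Γ) : Finset (Γ ⧸ P) :=
  letI := Fintype.ofFinite (Γ ⧸ P)
  Finset.univ.filter fun q : Γ ⧸ P => Quotient.out q ∈ H

theorem mem_inH {H P : Subgroup Γ} {q : Γ ⧸ P} : q ∈ inH H P ↔ Quotient.out q ∈ H := by
  simp [inH]

variable (H P Nz : Subgroup Γ) (c β : A)

/-- The hypotheses. -/
structure TraceData : Prop where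
  PH : P ≤ H
  HN : H ≤ Nz
  inter : ∀ g t : Γ, t ∈ H → ∀ x ∈ P, x ≠ 1 → t⁻¹ * (g * x * g⁻¹) * t ∈ P → g ∈ Nz
  idem : c * c = c
  fixβ : ∀ s ∈ P, β * ρ s = ρ s * β
  fixc : ∀ h ∈ H, c * ρ h = ρ h * c
  trace : ∑ q ∈ inH H P, cjQ ρ β q = c
  orth : ∀ g ∈ Nz, g ∉ H → c * cj ρ g c = 0

variable {ρ H P Nz c β}

/-- The restriction of a trace. -/
theorem TraceData.exists_trace (k : Type*) [Field k] [Algebra k A] (D : TraceData ρ H P Nz c β) [DecidablePred (· ∈ H)]
    {π : A} (hπ : ∀ h ∈ H, π * ρ h = ρ h * π) (hcπ : c * π = π) (hπc : π * c = π) :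
    ∃ a : A, c * trQ ρ H π * c = π + ∑ h : Γ with h ∈ H, cj ρ h a := by
  classical
  let : Fintype (Γ ⧸ H) := Fintype.ofFinite _
  let : Fintype (Γ ⧸ P) := Fintype.ofFinite _
  set E := π * β with hE
  have hEP : ∀ s ∈ P, E * ρ s = ρ s * E := fun s hs => by
    rw [hE, mul_assoc, D.fixβ s hs, ← mul_assoc, hπ s (D.PH hs), mul_assoc]
  have hout : ∀ (g : Γ) (K : Subgroup Γ), P ≤ K →
      (Quotient.out (g : Γ ⧸ P) ∈ K ↔ g ∈ K) := fun g K hK => by
    obtain ⟨s, hs⟩ := QuotientGroup.mk_out_eq_mul P g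
    rw [hs]
    exact K.mul_mem_cancel_right (hK s.2)
  have hsmulmem : ∀ (g : Γ) (K : Subgroup Γ) (q : Γ ⧸ P), P ≤ K → g ∈ K →
      (Quotient.out (g • q) ∈ K ↔ Quotient.out q ∈ K) := fun g K q hK hg => by
    conv_lhs => rw [← QuotientGroup.out_eq' q]
    exact (hout _ K hK).trans (K.mul_mem_cancel_left hg)
  have hπeq : ∑ q ∈ inH H P, cjQ ρ E q = π := by
    rw [Finset.sum_congr rfl (g := fun q => π * cjQ ρ β q) fun q hq => ?_, ← Finset.mul_sum,
      D.trace, hπc]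
    rw [cjQ, cjQ, hE, cj_mul, (cj_eq_iff ρ).mpr (hπ _ (mem_inH.mp hq))]
  -- the trace from `H` is the one from `P`
  have htr : trQ ρ H π = ∑ q : Γ ⧸ P, cjQ ρ E q := by
    rw [trQ_eq]
    conv_lhs => rw [← hπeq]
    simp only [cjQ, map_sum, cj_cj]
    rw [← Finset.sum_product']
    refine Finset.sum_bij (fun x _ => Quotient.out x.1 • x.2) (fun x _ => Finset.mem_univ _) ?_ ?_ ?_
    · intro a ha b hb hab
      obtain ⟨-, ha2⟩ := Finset.mem_product.mp ha
      obtain ⟨-, hb2⟩ := Finset.mem_product.mp hb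
      have haH := mem_inH.mp ha2
      have hbH := mem_inH.mp hb2
      rw [← QuotientGroup.out_eq' a.2, ← QuotientGroup.out_eq' b.2] at hab
      have h1 : (Quotient.out a.1 * Quotient.out a.2)⁻¹ * (Quotient.out b.1 * Quotient.out b.2) ∈ P :=
        QuotientGroup.eq.mp hab
      have h2 : (Quotient.out a.1)⁻¹ * Quotient.out b.1 ∈ H := by
        have := mul_mem (mul_mem haH (D.PH h1)) (inv_mem hbH)
        simpa [mul_assoc] using this
      have h3 : a.1 = b.1 := by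
        rw [← QuotientGroup.out_eq' a.1, ← QuotientGroup.out_eq' b.1]
        exact QuotientGroup.eq.mpr h2
      refine Prod.ext h3 ?_
      rw [← QuotientGroup.out_eq' a.2, ← QuotientGroup.out_eq' b.2]
      refine QuotientGroup.eq.mpr ?_
      rw [h3] at h1
      simpa [mul_assoc] using h1
    · intro q _
      obtain ⟨s, hs⟩ := QuotientGroup.mk_out_eq_mul H (Quotient.out q)
      refine ⟨(((Quotient.out q : Γ) : Γ ⧸ H),
        (Quotient.out ((Quotient.out q : Γ) : Γ ⧸ H))⁻¹ • q), Finset.mem_product.mpr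
          ⟨Finset.mem_univ _, mem_inH.mpr ?_⟩, smul_inv_smul _ _⟩
      conv => rw [← QuotientGroup.out_eq' q]
      refine (hout _ H D.PH).mpr ?_
      rw [QuotientGroup.out_eq', hs]
      simp
    · intro x _
      conv_rhs => rw [← QuotientGroup.out_eq' x.2]
      exact (cjQ_mk ρ hEP _).symm
  -- the part outside `Nz`
  set S : Finset ((Γ ⧸ P) × (Γ ⧸ P)) :=
    (Finset.univ.filter fun q : Γ ⧸ P => Quotient.out q ∉ Nz) ×ˢ
      inH H P
  set F : (Γ ⧸ P) × (Γ ⧸ P) → A := fun x => c * cjQ ρ E x.1 * c * cjQ ρ β x.2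
  obtain ⟨a₀, hA⟩ := PrimeDefect.exists_orbit_trace (K := H) (κ := k)
    (fun h : H => (LinearMap.mulLeft k (ρ h)).comp (LinearMap.mulRight k (ρ (h : Γ)⁻¹))) F
    (fun h x => by
      show cj ρ (h : Γ) (F x) = _
      simp only [F, cj_mul, (cj_eq_iff ρ).mpr (D.fixc _ h.2), cj_cjQ ρ hEP, cj_cjQ ρ D.fixβ]
      rfl) S
    (fun h x hx => by
      obtain ⟨h1, h2⟩ := Finset.mem_product.mp hx
      refine Finset.mem_product.mpr ⟨Finset.mem_filter.mpr ⟨Finset.mem_univ _, ?_⟩,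
        mem_inH.mpr ?_⟩
      · exact fun hm => (Finset.mem_filter.mp h1).2
          ((hsmulmem _ Nz x.1 (D.PH.trans D.HN) (D.HN h.2)).mp hm)
      · exact (hsmulmem _ H x.2 D.PH h.2).mpr (mem_inH.mp h2))
    (fun x hx => by
      have hbot : MulAction.stabilizer H x = ⊥ := by
        rw [Subgroup.eq_bot_iff_forall]
        intro h hh
        have hh' := MulAction.mem_stabilizer_iff.mp hh
        have h1 : (h : Γ) • x.1 = x.1 := congrArg Prod.fst hh'
        have h2 : (h : Γ) • x.2 = x.2 := congrArg Prod.snd hh'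
        have key : ∀ q : Γ ⧸ P, (h : Γ) • q = q →
            (Quotient.out q)⁻¹ * (h : Γ) * Quotient.out q ∈ P := fun q hq => by
          conv_lhs at hq => rw [← QuotientGroup.out_eq' q]
          rw [mul_assoc]
          exact QuotientGroup.eq.mp ((QuotientGroup.out_eq' q).trans hq.symm)
        by_contra hne
        obtain ⟨hg, ht⟩ := Finset.mem_product.mp hx
        refine (Finset.mem_filter.mp hg).2 (D.inter (Quotient.out x.1) (Quotient.out x.2)
          (mem_inH.mp ht) _ (key _ h1) (fun e => hne (Subtype.ext ?_)) ?_)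
        · have := congrArg (fun z => Quotient.out x.1 * z * (Quotient.out x.1)⁻¹) e
          simpa [mul_assoc] using this
        · simpa [mul_assoc] using key _ h2
      rw [hbot]
      simp)
  refine ⟨a₀, ?_⟩
  have hS : ∑ x ∈ S, F x = ∑ q : Γ ⧸ P with Quotient.out q ∉ Nz, c * cjQ ρ E q * c := by
    rw [Finset.sum_product]
    refine Finset.sum_congr rfl fun q _ => ?_
    simp only [F, ← Finset.mul_sum, D.trace]
    simp [mul_assoc, D.idem]
  change ∑ q ∈ S, F q = ∑ h : H, cj ρ (h : Γ) a₀ at hA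
  rw [Finset.sum_subtype (p := (· ∈ H)) _ (fun h => by simp) fun h => cj ρ h a₀, ← hA, hS, htr,
    Finset.mul_sum, Finset.sum_mul,
    ← Finset.sum_filter_not_add_sum_filter Finset.univ (fun q : Γ ⧸ P => Quotient.out q ∈ Nz),
    add_comm π]
  congr 1
  rw [← Finset.sum_filter_add_sum_filter_not (Finset.univ.filter fun q : Γ ⧸ P => Quotient.out q ∈ Nz)
    (fun q => Quotient.out q ∈ H), Finset.filter_filter, Finset.filter_filter,
    Finset.sum_eq_zero (s := Finset.univ.filter fun q : Γ ⧸ P =>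
      Quotient.out q ∈ Nz ∧ Quotient.out q ∉ H) fun q hq => ?_, add_zero]
  · rw [show (Finset.univ.filter fun q : Γ ⧸ P => Quotient.out q ∈ Nz ∧ Quotient.out q ∈ H) =
      inH H P from Finset.ext fun q => by simpa [mem_inH] using fun h => D.HN h,
      ← Finset.sum_mul, ← Finset.mul_sum, hπeq, hcπ, hπc]
  · obtain ⟨-, h1, h2⟩ := Finset.mem_filter.mp hq
    rw [cjQ, hE, cj_mul]
    conv_lhs => rw [← hcπ, cj_mul]
    simp only [← mul_assoc, D.orth _ h1 h2, zero_mul]

/-- Transport of traces. -/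
theorem map_cj {B : Type*} [Ring B] [Algebra k B] (ψ : A →ₐ[k] B) (g : Γ) (a : A) :
    cj ((ψ : A →* B).comp ρ) g (ψ a) = ψ (cj ρ g a) := by
  simp [cj_apply]

theorem map_trQ {B : Type*} [Ring B] [Algebra k B] (ψ : A →ₐ[k] B) (S : Subgroup Γ) (a : A) :
    trQ ((ψ : A →* B).comp ρ) S (ψ a) = ψ (trQ ρ S a) := by
  let : Fintype (Γ ⧸ S) := Fintype.ofFinite _
  rw [trQ_eq, trQ_eq, map_sum]
  exact Finset.sum_congr rfl fun q _ => map_cj ψ _ a

theorem TraceData.map {B : Type*} [Ring B] [Algebra k B] (D : TraceData ρ H P Nz c β)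
    (ψ : A →ₐ[k] B) : TraceData ((ψ : A →* B).comp ρ) H P Nz (ψ c) (ψ β) where
  PH := D.PH
  HN := D.HN
  inter := D.inter
  idem := by rw [← map_mul, D.idem]
  fixβ s hs := by simp only [MonoidHom.comp_apply, MonoidHom.coe_coe,
    ← map_mul, D.fixβ s hs]
  fixc s hs := by simp only [MonoidHom.comp_apply, MonoidHom.coe_coe,
    ← map_mul, D.fixc s hs]
  trace := by
    simp only [cjQ, map_cj, ← map_sum]
    exact congrArg ψ D.trace
  orth g hg hgH := by rw [map_cj, ← map_mul, D.orth g hg hgH, map_zero]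

/-- An equivariant map with a partial section over `H` splits, when the trace of `c` is invertible. -/
theorem exists_equivariant_section {X Y : Type*} [AddCommGroup X] [Module k X] [AddCommGroup Y]
    [Module k Y] {ρ : Γ →* Module.End k X} {c : Module.End k X}
    (σ : Γ →* Module.End k Y) (f : Y →ₗ[k] X) (hf : ∀ g, f ∘ₗ σ g = ρ g ∘ₗ f)
    {s : X →ₗ[k] Y} (hs : ∀ h ∈ H, s ∘ₗ ρ h = σ h ∘ₗ s) (hfs : f ∘ₗ s = c)
    (hunit : IsUnit (trQ ρ H c)) :
    ∃ s' : X →ₗ[k] Y, (∀ g, s' ∘ₗ ρ g = σ g ∘ₗ s') ∧ f ∘ₗ s' = LinearMap.id := by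
  let : Fintype (Γ ⧸ H) := Fintype.ofFinite _
  have hcc : ∀ h ∈ H, c * ρ h = ρ h * c := fun h hh => by
    rw [← hfs]
    show (f ∘ₗ s) ∘ₗ ρ h = ρ h ∘ₗ (f ∘ₗ s)
    rw [LinearMap.comp_assoc, hs h hh, ← LinearMap.comp_assoc, hf, LinearMap.comp_assoc]
  set cjm : Γ → (X →ₗ[k] Y) → (X →ₗ[k] Y) := fun g u => σ g ∘ₗ u ∘ₗ ρ g⁻¹
  have hmul : ∀ g g' u, cjm g (cjm g' u) = cjm (g * g') u := fun g g' u => by
    refine LinearMap.ext fun x => ?_
    simp [cjm]
  have hfix : ∀ h ∈ H, cjm h s = s := fun h hh => by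
    show σ h ∘ₗ s ∘ₗ ρ h⁻¹ = s
    rw [← LinearMap.comp_assoc, ← hs h hh, LinearMap.comp_assoc,
      show ρ h ∘ₗ ρ h⁻¹ = LinearMap.id by
        rw [← Module.End.mul_eq_comp, ← map_mul, mul_inv_cancel, map_one]; rfl,
      LinearMap.comp_id]
  set S := ∑ q : Γ ⧸ H, cjm (Quotient.out q) s with hS
  have hSg : ∀ g, cjm g S = S := fun g => by
    simp only [hS]
    rw [show cjm g (∑ q : Γ ⧸ H, cjm (Quotient.out q) s) =
      ∑ q : Γ ⧸ H, cjm g (cjm (Quotient.out q) s) from LinearMap.ext fun x => by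
        simp [cjm, LinearMap.sum_apply]]
    refine Fintype.sum_equiv (MulAction.toPerm g) _ _ fun q => ?_
    show cjm g (cjm (Quotient.out q) s) = cjm (Quotient.out (g • q)) s
    obtain ⟨t, ht⟩ := QuotientGroup.mk_out_eq_mul H (g * Quotient.out q)
    rw [show g • q = ((g * Quotient.out q : Γ) : Γ ⧸ H) by
      conv_lhs => rw [← QuotientGroup.out_eq' q]
      rfl, ht, ← hmul (g * _), hfix _ t.2, hmul]
  have hfS : f ∘ₗ S = trQ ρ H c := by
    rw [trQ_eq, hS, show f ∘ₗ (∑ q : Γ ⧸ H, cjm (Quotient.out q) s) =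
      ∑ q : Γ ⧸ H, f ∘ₗ cjm (Quotient.out q) s from LinearMap.ext fun x => by
        simp [LinearMap.sum_apply]]
    refine Finset.sum_congr rfl fun q _ => ?_
    rw [cjQ, cj_apply, ← hfs]
    refine LinearMap.ext fun x => ?_
    show f (σ _ (s (ρ _ x))) = _
    exact LinearMap.congr_fun (hf _) _
  obtain ⟨z, hz⟩ := hunit
  have hzcomm : ∀ g, ((z⁻¹ : (Module.End k X)ˣ) : Module.End k X) * ρ g =
      ρ g * ((z⁻¹ : (Module.End k X)ˣ) : Module.End k X) := fun g =>
    (show Commute (z : Module.End k X) (ρ g) from hz ▸ trQ_commute ρ hcc g).units_inv_left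
  refine ⟨S ∘ₗ ((z⁻¹ : (Module.End k X)ˣ) : Module.End k X), fun g => ?_, ?_⟩
  · rw [LinearMap.comp_assoc, ← Module.End.mul_eq_comp, hzcomm, Module.End.mul_eq_comp,
      ← LinearMap.comp_assoc, ← LinearMap.comp_assoc]
    congr 1
    refine LinearMap.ext fun x => ?_
    have := LinearMap.congr_fun (hSg g) (ρ g x)
    simp only [cjm, LinearMap.comp_apply] at this
    rw [← Module.End.mul_apply (ρ g⁻¹), ← map_mul, inv_mul_cancel, map_one,
      Module.End.one_apply] at this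
    exact this.symm
  · rw [← LinearMap.comp_assoc, hfS, ← hz, ← Module.End.mul_eq_comp, Units.mul_inv]
    rfl

end CfsgLib.Blocks.CyclicDefect
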