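import Cfsg.Agent.Lib.Blocks.PairLocalization
import Cfsg.Agent.Lib.Blocks.CyclicDefect.LocalTrace
import Mathlib.Algebra.MonoidAlgebra.MapDomain

/-!
# The idempotent of a block in the group algebra over the residue field

It is central, a relative trace from a defect group, maps to the idempotent of a block of a
subgroup, and its truncation at a defect group is not zero.
-/

set_option autoImplicit false
set_option linter.unusedSectionVars false

noncomputable section

namespace CfsgLib.Blocks.CyclicDefect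

open Cfsg CfsgLib.GrpRing
open MonoidAlgebra (of)
open scoped ComplexConjugate CfsgLib.Char

variable {p : ℕ} {M : Ideal AlgInt} [M.IsPrime] {G : Type*} [Group G] [Fintype G]
  {B : Set (IrrCharacter G)}

variable (M) in
/-- The idempotent of a block. -/
def eB (B : Set (IrrCharacter G)) : KG M G := ofFun fun g => res M (blockCoeff B g)

theorem coeff_eB (g : G) : (eB M B).coeff g = res M (blockCoeff B g) := coeff_ofFun _ _

variable (M) in
/-- The map on group algebras of a homomorphism. -/
def mapK {G' : Type*} [Group G'] (f : G →* G') : KG M G →ₐ[ResField M] KG M G' :=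
  MonoidAlgebra.mapDomainAlgHom (ResField M) (ResField M) f

theorem mapK_of {G' : Type*} [Group G'] (f : G →* G') (g : G) :
    mapK M f (of (ResField M) G g) = of (ResField M) G' (f g) := by
  simp [mapK, of]

open Classical in
theorem coeff_mapK {G' : Type*} [Group G'] (f : G →* G') (a : KG M G) (y : G') :
    (mapK M f a).coeff y = ∑ g : G with f g = y, a.coeff g := by
  induction a using MonoidAlgebra.induction_on with
  | of g =>
    rw [mapK_of]
    simp [of, MonoidAlgebra.coeff_single, Finsupp.single_apply, Finset.sum_filter,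
      Finset.sum_ite_eq', eq_comm]
  | add a b ha hb =>
    rw [map_add, MonoidAlgebra.coeff_add, Finsupp.add_apply, ha, hb, ← Finset.sum_add_distrib]
    simp
  | smul r a ha =>
    rw [map_smul, MonoidAlgebra.coeff_smul, Finsupp.smul_apply, ha, Finset.smul_sum]
    simp

theorem isIdempotentElem_eB (hB : IsPBlock M B) : IsIdempotentElem (eB M B) := by
  refine MonoidAlgebra.ext (Finsupp.ext fun g => ?_)
  rw [coeff_mul_fintype, coeff_eB]
  simp only [coeff_eB]
  conv_rhs => rw [← conv_blockCoeff_self B]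
  rw [conv, res_sum _ _ fun y _ => memLocalRing_mul (IsPBlock.memLocalRing_blockCoeff hB y)
    (IsPBlock.memLocalRing_blockCoeff hB _)]
  exact Finset.sum_congr rfl fun y _ =>
    (res_mul (IsPBlock.memLocalRing_blockCoeff hB y) (IsPBlock.memLocalRing_blockCoeff hB _)).symm

theorem eB_mem_fixAlg (B : Set (IrrCharacter G)) (S : Set G) :
    eB M B ∈ fixAlg (ResField M) S :=
  mem_fixAlg_iff.mpr fun s _ g => by
    rw [coeff_eB, coeff_eB, isClassFunction_blockCoeff B g s]

theorem eB_comm (B : Set (IrrCharacter G)) (a : KG M G) : eB M B * a = a * eB M B :=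
  commute_of_support (S := (Set.univ : Set G)) (fun g hg => absurd (Set.mem_univ g) hg)
    (eB_mem_fixAlg B _)

/-- The idempotent of a block of a subgroup. -/
theorem mapK_eB {K : Subgroup G} [Fintype K] (b : Set (IrrCharacter K)) :
    mapK M K.subtype (eB M b) = blkK M K b := by
  classical
  refine MonoidAlgebra.ext (Finsupp.ext fun g => ?_)
  rw [coeff_mapK, blkK, coeff_ofFun, subgroupBlockCoeff_eq]
  by_cases hg : g ∈ K
  · rw [Finset.sum_eq_single ⟨g, hg⟩, coeff_eB]
    · exact congrArg _ (extendByZero_apply K (blockCoeff b) ⟨g, hg⟩).symm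
    · exact fun z hz hne => absurd (Subtype.ext (Finset.mem_filter.mp hz).2) hne
    · exact fun h => absurd (Finset.mem_filter.mpr ⟨Finset.mem_univ (⟨g, hg⟩ : K), (rfl : K.subtype ⟨g, hg⟩ = g)⟩) h
  · rw [extendByZero_eq_zero _ _ hg, res_zero]
    exact Finset.sum_eq_zero fun z hz => absurd ((Finset.mem_filter.mp hz).2 ▸ z.2) hg

/-- The truncation of the idempotent times that of a pair of the block. -/
theorem trunc_eB_mul (hM : IsPModular p M) {Q : Subgroup G}
    {f : Set (IrrCharacter (Subgroup.centralizer (Q : Set G)))} (h : IsBrauerPairOf p M B Q f) :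
    trunc Q (eB M B) * blkK M (Subgroup.centralizer (Q : Set G)) f =
      blkK M (Subgroup.centralizer (Q : Set G)) f := by
  classical
  obtain ⟨η, hη⟩ := IsPBlock.nonempty h.1.2
  have hl := IsPBlock.memLocalRing_blockCoeff h.2.1
  have hγl := fun z => memLocalRing_subgroupBlockCoeff (M := M) h.1.2 z
  rcases conv_subgroupBlockCoeff_congr hM h.1.1 h.1.2 (isStableFun_blockCoeff h.2.1 Q)
    (conv_blockCoeff_self B) hη with ⟨-, hc1⟩ | ⟨h0, -⟩
  swap
  · exact absurd ((IsBrauerPairOf.res_eq_one h hη).symm.trans h0) one_ne_zero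
  refine MonoidAlgebra.ext (Finsupp.ext fun c => ?_)
  rw [coeff_mul_fintype]
  by_cases hc : c ∈ Subgroup.centralizer (Q : Set G)
  · conv_rhs => rw [blkK, coeff_ofFun, ← (res_eq_iff (memLocalRing_sum _ _ fun y _ =>
      memLocalRing_mul (hl y) (hγl _)) (hγl c)).mpr (hc1 c hc)]
    rw [res_sum _ _ fun y _ => memLocalRing_mul (hl y) (hγl _)]
    refine Finset.sum_congr rfl fun y _ => ?_
    rw [res_mul (hl y) (hγl _)]
    by_cases hy : y ∈ Subgroup.centralizer (Q : Set G)
    · rw [coeff_trunc_of_mem _ hy, coeff_eB, blkK, coeff_ofFun]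
    · have hz : y⁻¹ * c ∉ Subgroup.centralizer (Q : Set G) := fun hh =>
        hy (by simpa using mul_mem hc (inv_mem hh))
      rw [coeff_blkK_of_notMem f hz, mul_zero, subgroupBlockCoeff_eq, extendByZero_eq_zero _ _ hz,
        res_zero, mul_zero]
  · rw [coeff_blkK_of_notMem f hc]
    refine Finset.sum_eq_zero fun y _ => ?_
    by_cases hy : y ∈ Subgroup.centralizer (Q : Set G)
    · rw [coeff_blkK_of_notMem f fun hh => hc (by simpa using mul_mem hy hh), mul_zero]
    · rw [coeff_trunc_of_notMem _ hy, zero_mul]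

/-- The truncation at a defect group is not zero. -/
theorem trunc_eB_ne_zero (hM : IsPModular p M) {P : Subgroup G} (hP : IsDefectGroup p M B P) :
    trunc P (eB M B) ≠ 0 := by
  have : Fact p.Prime := ⟨hM.1⟩
  obtain ⟨g, hg, hsyl⟩ := isDefectGroup_iff.mp hP
  intro h
  refine hg.2.1 ((res_eq_zero_iff hg.1).mp ?_)
  have hgP : g ∈ Subgroup.centralizer (P : Set G) := Subgroup.mem_centralizer_iff.mpr fun x hx =>
    Subgroup.mem_centralizer_singleton_iff.mp (hsyl.1 hx)
  rw [← coeff_eB, ← coeff_trunc_of_mem _ hgP, h]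
  rfl

open Classical in
theorem coeff_trQ (P : Subgroup G) [Fintype (G ⧸ P)] (a : KG M G) (h : G) :
    (trQ (of (ResField M) G) P a).coeff h =
      ∑ q : G ⧸ P, a.coeff ((Quotient.out q)⁻¹ * h * Quotient.out q) := by
  rw [trQ_eq, MonoidAlgebra.coeff_sum, Finsupp.finsetSum_apply]
  refine Finset.sum_congr rfl fun q _ => ?_
  rw [cjQ, cj_apply]
  simp [of, mul_assoc]

/-- The idempotent of a block is a relative trace from a defect group. -/
theorem exists_trQ_eq_eB (hM : IsPModular p M) (hB : IsPBlock M B) {P : Subgroup G}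
    (hP : IsDefectGroup p M B P) :
    ∃ β : KG M G, (∀ s ∈ P, β * of (ResField M) G s = of (ResField M) G s * β) ∧
      trQ (of (ResField M) G) P β = eB M B := by
  classical
  have : Fact p.Prime := ⟨hM.1⟩
  have := charP_resField hM
  let : Fintype (G ⧸ P) := Fintype.ofFinite _
  have : Fintype (ConjClasses G) := Fintype.ofFinite _
  let S : Submodule (ResField M) (KG M G) :=
    { carrier := {a | ∃ β : KG M G, (∀ s ∈ P, β * of (ResField M) G s =
        of (ResField M) G s * β) ∧ trQ (of (ResField M) G) P β = a}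
      add_mem' := by
        rintro a a' ⟨β, hβ, rfl⟩ ⟨β', hβ', rfl⟩
        refine ⟨β + β', fun s hs => by rw [add_mul, mul_add, hβ s hs, hβ' s hs], ?_⟩
        simp only [trQ_eq, cjQ, map_add, Finset.sum_add_distrib]
      zero_mem' := ⟨0, fun s _ => by rw [zero_mul, mul_zero], by simp [trQ_eq, cjQ]⟩
      smul_mem' := by
        rintro t a ⟨β, hβ, rfl⟩
        refine ⟨t • β, fun s hs => by rw [smul_mul_assoc, mul_smul_comm, hβ s hs], ?_⟩
        simp only [trQ_eq, cjQ, cj_apply, mul_smul_comm, smul_mul_assoc, Finset.smul_sum] }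
  suffices hmem : eB M B ∈ S by exact hmem
  have hcls : ∀ K : ConjClasses G,
      (ofFun fun g => if ConjClasses.mk g = K then res M (blockCoeff B g) else 0 : KG M G) ∈ S := by
    intro K
    obtain ⟨g₀, rfl⟩ : ∃ g₀, ConjClasses.mk g₀ = K := Quotient.exists_rep K
    by_cases h0 : MemLocalIdeal M (blockCoeff B g₀)
    · convert S.zero_mem using 1
      refine MonoidAlgebra.ext (Finsupp.ext fun g => ?_)
      rw [coeff_ofFun]
      split_ifs with hg
      · obtain ⟨x, rfl⟩ := isConj_iff.mp (ConjClasses.mk_eq_mk_iff_isConj.mp hg.symm)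
        rw [isClassFunction_blockCoeff B g₀ x, res_eq_zero h0]
        rfl
      · rfl
    obtain ⟨Q, hQ⟩ := exists_isSylowCent (p := p) g₀
    obtain ⟨x, hx⟩ := IsDefectGroup.exists_le_conj_of_support hM hB hP h0 hQ.isPGroup hQ.1
    set g := x⁻¹ * g₀ * x with hg
    set Cg := Subgroup.centralizer ({g} : Set G) with hCg
    set O : Finset G := Finset.univ.filter fun y => ∃ s ∈ P, s * g * s⁻¹ = y with hO
    have hOP : ∀ s ∈ P, ∀ y, s * y * s⁻¹ ∈ O ↔ y ∈ O := fun s hs y => by
      simp only [hO, Finset.mem_filter, Finset.mem_univ, true_and]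
      constructor
      · rintro ⟨t, ht, e⟩
        exact ⟨s⁻¹ * t, mul_mem (inv_mem hs) ht, by
          calc s⁻¹ * t * g * (s⁻¹ * t)⁻¹ = s⁻¹ * (t * g * t⁻¹) * s := by group
            _ = y := by rw [e]; group⟩
      · rintro ⟨t, ht, e⟩
        exact ⟨s * t, mul_mem hs ht, by rw [← e]; group⟩
    set β : KG M G := ofFun fun y => if y ∈ O then 1 else 0 with hβ
    have hβP : ∀ s ∈ P, β * of (ResField M) G s = of (ResField M) G s * β := fun s hs => by
      refine ((show Commute (dlt (ResField M) s) β from commute_dlt_iff.mpr fun y => ?_).eq).symm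
      simp only [hβ, coeff_ofFun, hOP s hs y]
    -- counting
    have hfib : ∀ h : G, IsConj g h →
        Nat.card {y : G // y⁻¹ * h * y ∈ O} = O.card * Nat.card Cg := by
      intro h hgh
      have : ∀ y ∈ O, Nat.card {z : G // z⁻¹ * h * z = y} = Nat.card Cg := fun y hy => by
        obtain ⟨s, -, hs⟩ := (Finset.mem_filter.mp hy).2
        obtain ⟨u, hu⟩ := isConj_iff.mp hgh
        refine Nat.card_congr (((Equiv.mulLeft u⁻¹).trans (Equiv.mulRight s)).subtypeEquiv fun z => ?_)
        show _ ↔ u⁻¹ * z * s ∈ Cg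
        rw [hCg, Subgroup.mem_centralizer_singleton_iff, ← hu, ← hs]
        constructor
        · intro e
          calc u⁻¹ * z * s * g = u⁻¹ * z * (s * g * s⁻¹) * s := by group
            _ = _ := by rw [← e]; group
        · intro e
          calc z⁻¹ * (u * g * u⁻¹) * z = s * ((u⁻¹ * z * s)⁻¹ * (g * (u⁻¹ * z * s))) * s⁻¹ := by
                group
            _ = s * g * s⁻¹ := by rw [← e]; group
      calc Nat.card {y : G // y⁻¹ * h * y ∈ O}
          = Nat.card (Σ y : O, {z : G // z⁻¹ * h * z = (y : G)}) := Nat.card_congr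
            { toFun := fun z => ⟨⟨_, z.2⟩, ⟨z.1, rfl⟩⟩
              invFun := fun z => ⟨z.2.1, by rw [z.2.2]; exact z.1.2⟩
              left_inv := fun z => rfl
              right_inv := fun ⟨⟨y, hy⟩, ⟨z, (hz : z⁻¹ * h * z = y)⟩⟩ => by subst hz; rfl }
        _ = _ := by
          rw [Nat.card_sigma, Finset.sum_congr rfl fun y _ => this y.1 y.2, Finset.sum_const,
            Finset.card_univ, Fintype.card_coe, smul_eq_mul]
    have hcoset : ∀ h : G, Nat.card P * Nat.card {q : G ⧸ P //
        (Quotient.out q)⁻¹ * h * Quotient.out q ∈ O} = Nat.card {y : G // y⁻¹ * h * y ∈ O} := by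
      intro h
      rw [← Nat.card_prod]
      symm
      refine Nat.card_congr
        { toFun := fun y => (⟨(Quotient.out ((y.1 : G) : G ⧸ P))⁻¹ * y.1,
            QuotientGroup.eq.mp (QuotientGroup.out_eq' _)⟩, ⟨(y.1 : G ⧸ P), ?_⟩)
          invFun := fun z => ⟨Quotient.out z.2.1 * (z.1 : G), ?_⟩
          left_inv := fun y => Subtype.ext (mul_inv_cancel_left _ _)
          right_inv := fun ⟨⟨s, hs⟩, ⟨q, hq⟩⟩ => ?_ }
      · have h1 := QuotientGroup.mk_out_eq_mul P y.1
        obtain ⟨s, hs⟩ := h1
        rw [hs]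
        have h2 := (hOP _ (inv_mem s.2) _).mpr y.2
        rw [inv_inv] at h2
        convert h2 using 1
        group
      · have h2 := (hOP _ (inv_mem z.1.2) _).mpr z.2.2
        rw [inv_inv] at h2
        convert h2 using 1
        group
      · have e : ((Quotient.out q * s : G) : G ⧸ P) = q := by
          rw [QuotientGroup.mk_mul_of_mem _ hs, QuotientGroup.out_eq']
        refine Prod.ext (Subtype.ext ?_) (Subtype.ext e)
        show (Quotient.out ((Quotient.out q * s : G) : G ⧸ P))⁻¹ * (Quotient.out q * s) = s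
        rw [e, inv_mul_cancel_left]
    -- the orbit of `g`
    have hQ' : Nat.card (Cg ⊓ P : Subgroup G) = p ^ (Nat.card Cg).factorization p := by
      obtain ⟨n, hn⟩ := IsPGroup.iff_card.mp
        ((IsDefectGroup.isPGroup hM hP).to_le (inf_le_right : Cg ⊓ P ≤ P))
      have hle : n ≤ (Nat.card Cg).factorization p :=
        (hM.1.pow_dvd_iff_le_factorization Nat.card_pos.ne').mp
          (hn ▸ Subgroup.card_dvd_of_le inf_le_left)
      have hQle : Q.map (MulAut.conj x⁻¹).toMonoidHom ≤ Cg ⊓ P := by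
        rintro _ ⟨z, hz, rfl⟩
        refine ⟨Subgroup.mem_centralizer_singleton_iff.mpr ?_, ?_⟩
        · have := Subgroup.mem_centralizer_singleton_iff.mp (hQ.1 hz)
          show x⁻¹ * z * x⁻¹⁻¹ * g = g * (x⁻¹ * z * x⁻¹⁻¹)
          rw [hg, inv_inv]
          calc x⁻¹ * z * x * (x⁻¹ * g₀ * x) = x⁻¹ * (z * g₀) * x := by group
            _ = x⁻¹ * (g₀ * z) * x := by rw [this]
            _ = _ := by group
        · obtain ⟨w, hw, hwz⟩ := hx hz
          show x⁻¹ * z * x⁻¹⁻¹ ∈ P
          rw [← hwz]
          simpa [mul_assoc] using hw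
      have hcardC : Nat.card Cg = Nat.card (Subgroup.centralizer ({g₀} : Set G)) := by
        refine Nat.card_congr ((MulAut.conj x).toEquiv.subtypeEquiv fun z => ?_)
        simp only [hCg, hg, Subgroup.mem_centralizer_singleton_iff, MulEquiv.toEquiv_eq_coe,
          EquivLike.coe_coe, MulAut.conj_apply]
        constructor <;> intro e
        · calc x * z * x⁻¹ * g₀ = x * (z * (x⁻¹ * g₀ * x)) * x⁻¹ := by group
            _ = _ := by rw [e]; group
        · calc z * (x⁻¹ * g₀ * x) = x⁻¹ * ((x * z * x⁻¹) * g₀) * x := by group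
            _ = _ := by rw [e]; group
      refine le_antisymm (hn ▸ Nat.pow_le_pow_right hM.1.pos hle) ?_
      rw [hcardC, ← hQ.2, ← card_map_conj Q x⁻¹]
      exact Subgroup.card_le_of_le hQle
    have hOcard : O.card * Nat.card (Cg ⊓ P : Subgroup G) = Nat.card P := by
      rw [← Fintype.card_coe, ← Nat.card_eq_fintype_card]
      let act : MulAction P G := MulAction.compHom G ((MulAut.conj : G →* MulAut G).comp P.subtype)
      have horb : MulAction.orbit P g = (O : Set G) := by
        ext y
        simp only [hO, MulAction.mem_orbit_iff, Finset.coe_filter, Finset.mem_univ, true_and]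
        exact ⟨fun ⟨s, hs⟩ => ⟨s, s.2, hs⟩, fun ⟨s, hs, e⟩ => ⟨⟨s, hs⟩, e⟩⟩
      have hstab : Nat.card (MulAction.stabilizer P g) = Nat.card (Cg ⊓ P : Subgroup G) :=
        Nat.card_congr
          { toFun := fun s => ⟨s.1.1, Subgroup.mem_centralizer_singleton_iff.mpr
              (mul_inv_eq_iff_eq_mul.mp s.2), s.1.2⟩
            invFun := fun s => ⟨⟨s.1, s.2.2⟩, mul_inv_eq_iff_eq_mul.mpr
              (Subgroup.mem_centralizer_singleton_iff.mp s.2.1)⟩
            left_inv := fun s => rfl
            right_inv := fun s => rfl }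
      rw [← hstab, show Nat.card ↥O = Nat.card (MulAction.orbit P g) from
        (Nat.card_congr (Equiv.setCongr horb)).symm, ← Nat.card_prod]
      exact Nat.card_congr (MulAction.orbitProdStabilizerEquivGroup P g)
    obtain ⟨d, hd⟩ : Nat.card (Cg ⊓ P : Subgroup G) ∣ Nat.card Cg :=
      Subgroup.card_dvd_of_le inf_le_left
    have hd0 : (d : ResField M) ≠ 0 := by
      intro hd'
      obtain ⟨d', rfl⟩ := (CharP.cast_eq_zero_iff (ResField M) p d).mp hd'
      have h1 : p ^ ((Nat.card Cg).factorization p + 1) ∣ Nat.card Cg :=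
        ⟨d', by rw [pow_succ, ← hQ', mul_assoc, ← hd]⟩
      have := (hM.1.pow_dvd_iff_le_factorization Nat.card_pos.ne').mp h1
      omega
    refine ⟨((d : ResField M)⁻¹ * res M (blockCoeff B g₀)) • β,
      fun s hs => by rw [smul_mul_assoc, mul_smul_comm, hβP s hs], ?_⟩
    refine MonoidAlgebra.ext (Finsupp.ext fun h => ?_)
    rw [coeff_trQ, coeff_ofFun]
    simp only [MonoidAlgebra.coeff_smul, Finsupp.smul_apply, smul_eq_mul, hβ, coeff_ofFun,
      mul_ite, mul_one, mul_zero]
    rw [← Finset.sum_filter, Finset.sum_const, ← Fintype.card_subtype, ← Nat.card_eq_fintype_card,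
      nsmul_eq_mul]
    by_cases hh : ConjClasses.mk h = ConjClasses.mk g₀
    · have hgh : IsConj g h :=
        (isConj_iff.mpr ⟨x, by rw [hg]; group⟩).trans (ConjClasses.mk_eq_mk_iff_isConj.mp hh).symm
      have hk : Nat.card {q : G ⧸ P // (Quotient.out q)⁻¹ * h * Quotient.out q ∈ O} = d := by
        refine Nat.eq_of_mul_eq_mul_left (Nat.card_pos (α := P)) ?_
        rw [hcoset, hfib h hgh]
        conv_lhs => rw [hd, ← mul_assoc, hOcard]
      obtain ⟨y, hy⟩ := isConj_iff.mp (ConjClasses.mk_eq_mk_iff_isConj.mp hh).symm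
      rw [if_pos hh, hk, ← hy, isClassFunction_blockCoeff B g₀ y, ← mul_assoc,
        mul_inv_cancel₀ hd0, one_mul]
    · have : IsEmpty {q : G ⧸ P // (Quotient.out q)⁻¹ * h * Quotient.out q ∈ O} := ⟨fun q => hh (by
        obtain ⟨s, -, hs⟩ := (Finset.mem_filter.mp q.2).2
        exact ConjClasses.mk_eq_mk_iff_isConj.mpr ((isConj_iff.mpr
          ⟨x * (s⁻¹ * (Quotient.out q.1)⁻¹), by
            rw [hg] at hs
            calc _ = x * s⁻¹ * ((Quotient.out q.1)⁻¹ * h * Quotient.out q.1) * s * x⁻¹ := by group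
              _ = _ := by rw [← hs]; group⟩)))⟩
      rw [if_neg hh, Nat.card_of_isEmpty, Nat.cast_zero, zero_mul]
  have hsum : eB M B = ∑ K : ConjClasses G,
      (ofFun fun g => if ConjClasses.mk g = K then res M (blockCoeff B g) else 0 : KG M G) := by
    refine MonoidAlgebra.ext (Finsupp.ext fun g => ?_)
    rw [MonoidAlgebra.coeff_sum, Finsupp.finsetSum_apply]
    simp [coeff_ofFun, coeff_eB]
  rw [hsum]
  exact Submodule.sum_mem _ fun K _ => hcls K

variable {k A : Type*} [Field k] [Ring A] [Algebra k A]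

/-- The sum over the cosets in a larger subgroup. -/
theorem sum_inH (ρ : G →* A) {H K P : Subgroup G} (hPK : P ≤ K) (hKH : K ≤ H) {β c : A}
    (hβ : ∀ s ∈ P, β * ρ s = ρ s * β) (hc : ∀ h ∈ H, c * ρ h = ρ h * c)
    (hsum : ∑ q ∈ inH K P, cjQ ρ β q = c) :
    ∑ q ∈ inH H P, cjQ ρ β q = K.relIndex H • c := by
  classical
  let : Fintype (G ⧸ P) := Fintype.ofFinite _
  let : Fintype (G ⧸ K) := Fintype.ofFinite _
  have hout : ∀ (g : G) (L S : Subgroup G), S ≤ L → (Quotient.out (g : G ⧸ S) ∈ L ↔ g ∈ L) :=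
    fun g L S hS => by
      obtain ⟨s, hs⟩ := QuotientGroup.mk_out_eq_mul S g
      rw [hs]
      exact L.mul_mem_cancel_right (hS s.2)
  set π : G ⧸ P → G ⧸ K := fun q => ((Quotient.out q : G) : G ⧸ K)
  rw [← Finset.sum_fiberwise_of_maps_to (g := π) (t := inH H K) fun q hq => by
    rw [mem_inH, hout _ H K hKH]
    exact mem_inH.mp hq]
  rw [Finset.sum_congr rfl (g := fun _ => c) fun r hr => ?_, Finset.sum_const]
  · congr 1
    rw [← Nat.card_eq_finsetCard, Subgroup.relIndex, Subgroup.index]
    refine Nat.card_congr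
      { toFun := fun r => ((⟨Quotient.out r.1, mem_inH.mp r.2⟩ : H) : H ⧸ K.subgroupOf H)
        invFun := fun r => ⟨((Quotient.out r : H) : G), mem_inH.mpr
          ((hout _ H K hKH).mpr (Quotient.out r).2)⟩
        left_inv := fun r => ?_
        right_inv := fun r => ?_ }
    · obtain ⟨s, hs⟩ := QuotientGroup.mk_out_eq_mul (K.subgroupOf H)
        (⟨Quotient.out r.1, mem_inH.mp r.2⟩ : H)
      refine Subtype.ext ?_
      dsimp only
      rw [hs, Subgroup.coe_mul, QuotientGroup.mk_mul_of_mem _ (Subgroup.mem_subgroupOf.mp s.2)]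
      exact QuotientGroup.out_eq' _
    · obtain ⟨s, hs⟩ := QuotientGroup.mk_out_eq_mul K ((Quotient.out r : H) : G)
      conv_rhs => rw [← QuotientGroup.out_eq' r]
      refine QuotientGroup.eq.mpr (Subgroup.mem_subgroupOf.mpr ?_)
      simp only [Subgroup.coe_mul, Subgroup.coe_inv]
      rw [hs]
      simpa using inv_mem s.2
  · have hH := mem_inH.mp hr
    rw [← (cj_eq_iff ρ).mpr (hc _ hH)]
    conv_rhs => rw [← hsum, map_sum]
    refine Finset.sum_bij' (fun q _ => (Quotient.out r)⁻¹ • q) (fun q _ => Quotient.out r • q)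
      (fun q hq => ?_) (fun q hq => ?_) (fun q _ => smul_inv_smul _ _)
      (fun q _ => inv_smul_smul _ _) fun q hq => ?_
    · obtain ⟨-, hπ⟩ := Finset.mem_filter.mp hq
      rw [mem_inH]
      conv => rw [← QuotientGroup.out_eq' q]
      refine (hout _ K P hPK).mpr ?_
      have := QuotientGroup.eq.mp ((QuotientGroup.out_eq' r).trans hπ.symm)
      exact this
    · have hq' := mem_inH.mp hq
      have e : Quotient.out r • q = ((Quotient.out r * Quotient.out q : G) : G ⧸ P) := by
        conv_lhs => rw [← QuotientGroup.out_eq' q]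
        rfl
      refine Finset.mem_filter.mpr ⟨?_, ?_⟩
      · rw [mem_inH, e, hout _ H P (hPK.trans hKH)]
        exact mul_mem hH (hKH hq')
      · show ((Quotient.out (Quotient.out r • q) : G) : G ⧸ K) = r
        rw [e]
        obtain ⟨s, hs⟩ := QuotientGroup.mk_out_eq_mul P (Quotient.out r * Quotient.out q)
        rw [hs, QuotientGroup.mk_mul_of_mem _ (hPK s.2), QuotientGroup.mk_mul_of_mem _ hq']
        exact QuotientGroup.out_eq' r
    · rw [cj_cjQ ρ hβ, smul_inv_smul]

end CfsgLib.Blocks.CyclicDefect
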