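import Cfsg.Agent.Lib.Blocks.CyclicDefect.CornerRadical
import Mathlib.Algebra.CharP.Lemmas
import Mathlib.Algebra.MonoidAlgebra.Module

/-!
# Lifting a uniserial corner through a central cyclic quotient

`u` is central, the quotient corner modulo `u` is generated by one nilpotent element, and `u` is a
`p`-power power of an element commuting with an element of order prime to `p` whose trace is not
zero: the corner is generated by one nilpotent element.
-/

set_option autoImplicit false
set_option linter.unusedSectionVars false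

noncomputable section

namespace CfsgLib.Blocks.CyclicDefect

open MonoidAlgebra (of)

variable {k Γ Γ₂ : Type*} [Field k] [IsAlgClosed k] [Group Γ] [Fintype Γ] [Group Γ₂]

/-- The kernel of the map to a quotient by a cyclic subgroup. -/
theorem mem_kernel_mapDomain {π : Γ →* Γ₂} {u : Γ} (hu : ∀ g, π g = 1 → g ∈ Subgroup.zpowers u)
    (hu1 : π u = 1) {a : MonoidAlgebra k Γ}
    (ha : MonoidAlgebra.mapDomainAlgHom k k π a = 0) :
    ∃ b, a = (of k Γ u - 1) * b ∨ a = b * (of k Γ u - 1) := by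
  classical
  set I : Submodule k (MonoidAlgebra k Γ) :=
    LinearMap.range (LinearMap.mulRight k (of k Γ u - 1))
  let sec : Γ₂ → Γ := fun x => if h : ∃ g, π g = x then h.choose else 1
  let lift : MonoidAlgebra k Γ₂ →ₗ[k] MonoidAlgebra k Γ := MonoidAlgebra.mapDomainLinearMap k k sec
  have hlift : ∀ x : Γ₂, lift (of k Γ₂ x) = of k Γ (sec x) := fun x => by
    simp [lift, of]
  suffices h : ∀ f : MonoidAlgebra k Γ,
      f - lift (MonoidAlgebra.mapDomainAlgHom k k π f) ∈ I by
    have := h a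
    rw [ha, map_zero, sub_zero] at this
    obtain ⟨b, hb⟩ := this
    exact ⟨b, Or.inr hb.symm⟩
  intro f
  induction f using MonoidAlgebra.induction_on with
  | of g =>
    have hπ : π (sec (π g)) = π g := by
      simp only [sec, dif_pos (⟨g, rfl⟩ : ∃ g', π g' = π g)]
      exact (⟨g, rfl⟩ : ∃ g', π g' = π g).choose_spec
    obtain ⟨i, hi⟩ : ∃ i : ℕ, u ^ i = (sec (π g))⁻¹ * g := by
      have h1 := hu ((sec (π g))⁻¹ * g) (by rw [map_mul, map_inv, hπ, inv_mul_cancel])
      rwa [← mem_powers_iff_mem_zpowers, Submonoid.mem_powers_iff] at h1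
    rw [show MonoidAlgebra.mapDomainAlgHom k k π (of k Γ g) = of k Γ₂ (π g) by simp [of], hlift]
    refine ⟨of k Γ (sec (π g)) * ∑ j ∈ Finset.range i, of k Γ u ^ j, ?_⟩
    rw [LinearMap.mulRight_apply, mul_assoc, geom_sum_mul, mul_sub, mul_one, ← map_pow, ← map_mul,
      hi, mul_inv_cancel_left]
  | add f₁ f₂ h₁ h₂ =>
    rw [map_add, map_add, add_sub_add_comm]
    exact add_mem h₁ h₂
  | smul r f h =>
    rw [map_smul, map_smul, ← smul_sub]
    exact I.smul_mem r h

variable {e : MonoidAlgebra k Γ} (U : MatUnits k e) (hc : ∀ a, e * a = a * e)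

/-- A derivation of the corner kills `u - 1`. -/
theorem deriv_central_eq_zero {p : ℕ} [CharP k p] [Fact p.Prime] {r : ℕ} (hr : 0 < r) {u w g : Γ}
    (hu : u ∈ Subgroup.center Γ) (hun : ∃ j : ℕ, u ^ p ^ j = 1) (hw : w ^ p ^ r = u)
    (hwg : Commute w g) (hg : ¬ p ∣ orderOf g)
    (htr : (U.rep hc (of k Γ g)).trace ≠ 0) {d : MonoidAlgebra k Γ →ₗ[k] k}
    (hd : U.IsEpsDeriv d) : d ((of k Γ u - 1) * U.eps) = 0 := by
  have hp : p.Prime := Fact.out
  have : CharP (MonoidAlgebra k Γ) p :=
    charP_of_injective_algebraMap (algebraMap k (MonoidAlgebra k Γ)).injective p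
  set R := U.rep hc
  set DM := U.derivMat d
  have hprod := U.derivMat_mul hc hd
  have hpow : ∀ (z : MonoidAlgebra k Γ) (n : ℕ),
      (DM (z ^ (n + 1))).trace = ((n + 1 : ℕ) : k) * (R (z ^ n) * DM z).trace := fun z n => by
    have key : ∀ (n : ℕ) (j : ℕ), (R (z ^ j) * DM (z ^ (n + 1))).trace =
        ((n + 1 : ℕ) : k) * (R (z ^ (j + n)) * DM z).trace := by
      intro n
      induction n with
      | zero => intro j; simp
      | succ n ih =>
        intro j
        rw [pow_succ z (n + 1), hprod, mul_add, Matrix.trace_add, ← mul_assoc, ← map_mul,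
          ← pow_add, ← mul_assoc, Matrix.trace_mul_comm (R (z ^ j) * DM (z ^ (n + 1))), ← mul_assoc,
          ← map_mul, ← pow_succ', ih, show j + 1 + n = j + (n + 1) by omega]
        push_cast
        ring
    have := key n 0
    simpa using this
  have hq0 : ((p ^ r : ℕ) : k) = 0 := by
    rw [CharP.cast_eq_zero_iff k p]; exact dvd_pow_self p hr.ne'
  have hzero : ∀ z : MonoidAlgebra k Γ, (DM (z ^ p ^ r)).trace = 0 := fun z => by
    obtain ⟨n, hn⟩ := Nat.exists_eq_succ_of_ne_zero (pow_ne_zero r hp.ne_zero)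
    rw [hn, Nat.succ_eq_add_one, hpow, show n + 1 = p ^ r from hn.symm, hq0, zero_mul]
  obtain ⟨s, hs⟩ : ∃ s : ℕ, (g ^ s) ^ p ^ r = g := by
    obtain ⟨s, hs⟩ := exists_pow_eq_self_of_coprime (n := p ^ r) (x := g)
      (Nat.Coprime.pow_left r ((hp.coprime_iff_not_dvd).mpr hg))
    exact ⟨s, by rwa [← pow_mul, mul_comm, pow_mul]⟩
  have hcu : ∀ a, of k Γ u * a = a * of k Γ u := fun a => by
    induction a using MonoidAlgebra.induction_on with
    | of g' => rw [← map_mul, ← map_mul, Subgroup.mem_center_iff.mp hu g']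
    | add f₁ f₂ h₁ h₂ => rw [mul_add, add_mul, h₁, h₂]
    | smul t f h => rw [mul_smul_comm, smul_mul_assoc, h]
  set x := (of k Γ u - 1) * U.eps with hx
  have hxc : U.eps * (of k Γ u * U.eps) = of k Γ u * U.eps ∧
      of k Γ u * U.eps * U.eps = of k Γ u * U.eps :=
    ⟨by rw [← mul_assoc, ← hcu, mul_assoc, U.eps_idem], by rw [mul_assoc, U.eps_idem]⟩
  have hxnil : IsNilpotent x := by
    obtain ⟨j, hj⟩ := hun
    refine ⟨p ^ j, ?_⟩
    have hcomm : Commute (of k Γ u - 1) U.eps :=
      (show Commute (of k Γ u) U.eps from hcu _).sub_left (Commute.one_left _)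
    rw [hcomm.mul_pow, sub_pow_char_pow_of_commute _ _ (Commute.one_right _), ← map_pow, hj,
      map_one, one_pow, sub_self, zero_mul]
  have hcoord : ∀ i j, U.coord (of k Γ u) i j = if i = j then of k Γ u * U.eps else 0 := fun i j => by
    rw [CornerSys.coord, ← hcu, mul_assoc, U.mul]
    split_ifs
    · rfl
    · rw [mul_zero]
  have hRu : R (of k Γ u) = 1 := by
    ext i j
    rw [U.rep_apply, hcoord, Matrix.one_apply]
    split_ifs
    · have h1 : U.sc x = 0 := U.sc_of_isNilpotent
        ⟨by rw [hx, sub_mul, one_mul, mul_sub, hxc.1, U.eps_idem],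
          by rw [hx, mul_assoc, U.eps_idem]⟩ hxnil
      rw [hx, sub_mul, one_mul, sub_eq_add_neg, U.sc_add, ← neg_one_smul k U.eps, U.sc_smul,
        U.sc_eps, neg_one_mul, add_neg_eq_zero] at h1
      exact h1
    · exact U.sc_zero
  have hDu : DM (of k Γ u) = d x • 1 := by
    ext i j
    simp only [DM, MatUnits.derivMat, LinearMap.coe_mk, AddHom.coe_mk, Matrix.of_apply, hcoord,
      Matrix.smul_apply, Matrix.one_apply]
    split_ifs
    · rw [smul_eq_mul, mul_one, hx, sub_mul, one_mul, map_sub, hd.eps, sub_zero]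
    · simp
  have hbig : of k Γ (w * g ^ s) ^ p ^ r = of k Γ u * of k Γ g := by
    rw [← map_pow, (hwg.pow_right s).mul_pow, hw, hs, map_mul]
  have h1 := hzero (of k Γ (w * g ^ s))
  rw [hbig, hprod, hRu, hDu, one_mul, Matrix.smul_mul, one_mul, Matrix.trace_add,
    Matrix.trace_smul, smul_eq_mul] at h1
  have h2 : (DM (of k Γ g)).trace = 0 := by
    have := hzero (of k Γ (g ^ s))
    rwa [← map_pow, hs] at this
  rw [h2, zero_add, mul_eq_zero] at h1
  exact h1.resolve_right htr

/-- The corner through the quotient. -/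
theorem exists_gen_of_quotient [Fintype Γ₂] {π : Γ →* Γ₂} {u : Γ}
    (hker : ∀ g, π g = 1 → g ∈ Subgroup.zpowers u) (hu1 : π u = 1) (huc : u ∈ Subgroup.center Γ)
    {p : ℕ} [CharP k p] [Fact p.Prime] (hun : ∃ j : ℕ, u ^ p ^ j = 1)
    {y₂ : MonoidAlgebra k Γ₂} (hy₂n : IsNilpotent y₂) (hπs : Function.Surjective π)
    (hy₂ : MonoidAlgebra.mapDomainAlgHom k k π U.eps * y₂ = y₂ ∧
      y₂ * MonoidAlgebra.mapDomainAlgHom k k π U.eps = y₂)
    (hgen : ∀ a, MonoidAlgebra.mapDomainAlgHom k k π (U.eps * a * U.eps) ∈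
      Submodule.span k (Set.range fun r : ℕ =>
        MonoidAlgebra.mapDomainAlgHom k k π U.eps * y₂ ^ r))
    (hψne : MonoidAlgebra.mapDomainAlgHom k k π U.eps ≠ 0)
    (hx : y₂ = 0 ∨ ∀ d, U.IsEpsDeriv d → d ((of k Γ u - 1) * U.eps) = 0) :
    ∃ y ∈ U.rad, U.rad ≤ Submodule.span k {y} ⊔ U.rad * U.rad := by
  classical
  set ψ := MonoidAlgebra.mapDomainAlgHom k k π
  obtain ⟨a₀, ha₀⟩ : ∃ a, ψ a = y₂ := by
    clear hy₂ hgen hx hy₂n
    induction y₂ using MonoidAlgebra.induction_on with
    | of g₂ =>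
      obtain ⟨g, rfl⟩ := hπs g₂
      exact ⟨of k Γ g, by simp [ψ, of]⟩
    | add f₁ f₂ h₁ h₂ =>
      obtain ⟨a₁, rfl⟩ := h₁
      obtain ⟨a₂, rfl⟩ := h₂
      exact ⟨a₁ + a₂, map_add _ _ _⟩
    | smul t f h =>
      obtain ⟨a, rfl⟩ := h
      exact ⟨t • a, map_smul _ _ _⟩
  set y₁ := U.eps * a₀ * U.eps
  have hy₁ : ψ y₁ = y₂ := by rw [map_mul, map_mul, ha₀, hy₂.1, hy₂.2]
  have hcu : ∀ a, of k Γ u * a = a * of k Γ u := fun a => by
    induction a using MonoidAlgebra.induction_on with
    | of g' => rw [← map_mul, ← map_mul, Subgroup.mem_center_iff.mp huc g']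
    | add f₁ f₂ h₁ h₂ => rw [mul_add, add_mul, h₁, h₂]
    | smul t f h => rw [mul_smul_comm, smul_mul_assoc, h]
  set x := (of k Γ u - 1) * U.eps with hxdef
  have hxmem : x ∈ U.rad := by
    have hcomm : Commute (of k Γ u - 1) U.eps :=
      (show Commute (of k Γ u) U.eps from hcu _).sub_left (Commute.one_left _)
    have hcor : U.eps * x = x ∧ x * U.eps = x :=
      ⟨by rw [hxdef, hcomm.eq, ← mul_assoc, U.eps_idem], by rw [hxdef, mul_assoc, U.eps_idem]⟩
    refine ⟨hcor, U.sc_of_isNilpotent hcor ?_⟩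
    have : CharP (MonoidAlgebra k Γ) p :=
      charP_of_injective_algebraMap (algebraMap k (MonoidAlgebra k Γ)).injective p
    obtain ⟨j, hj⟩ := hun
    refine ⟨p ^ j, ?_⟩
    rw [hcomm.mul_pow, sub_pow_char_pow_of_commute _ _ (Commute.one_right _), ← map_pow, hj,
      map_one, one_pow, sub_self, zero_mul]
  have hy₁c : U.eps * y₁ = y₁ ∧ y₁ * U.eps = y₁ := U.corner_eps a₀
  have hy₁r : y₁ ∈ U.rad := by
    refine ⟨hy₁c, ?_⟩
    by_contra hne
    have h1 := (U.isNilpotent_sub hy₁c).map ψ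
    rw [map_sub, map_smul, hy₁] at h1
    have h2 : Commute (y₂ - U.sc y₁ • ψ U.eps) y₂ :=
      (Commute.refl y₂).sub_left (Commute.smul_left (hy₂.1.trans hy₂.2.symm) _)
    have h3 : IsNilpotent ((y₂ - U.sc y₁ • ψ U.eps) - y₂) := h2.isNilpotent_sub h1 hy₂n
    rw [sub_sub_cancel_left, isNilpotent_neg_iff] at h3
    obtain ⟨m, hm⟩ := h3
    have hid : IsIdempotentElem (ψ U.eps) := by rw [IsIdempotentElem, ← map_mul, U.eps_idem]
    have h4 : (U.sc y₁ • ψ U.eps) ^ (m + 1) = 0 := by rw [pow_succ, hm, zero_mul]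
    rw [_root_.smul_pow, hid.pow_succ_eq m, smul_eq_zero] at h4
    exact h4.elim (fun h => hne (eq_zero_of_pow_eq_zero h)) hψne
  have hsq : U.rad * U.rad ≤ U.rad := U.rad_mul_le
  have hgen' : U.rad ≤ Submodule.span k {y₁} ⊔ Submodule.span k {x} ⊔ U.rad * U.rad := by
    intro a ha
    have hy := hgen a
    rw [ha.1.1, ha.1.2] at hy
    obtain ⟨cf, hcf⟩ := Finsupp.mem_span_range_iff_exists_finsupp.mp hy
    set poly := cf.sum fun r t => t • (U.eps * y₁ ^ r)
    have hψpoly : ψ (a - poly) = 0 := by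
      rw [map_sub, ← hcf, sub_eq_zero]
      simp only [poly, Finsupp.sum, map_sum, map_smul, map_mul, map_pow, hy₁]
    have hpc : ∀ r : ℕ, U.eps * (U.eps * y₁ ^ r) = U.eps * y₁ ^ r ∧
        U.eps * y₁ ^ r * U.eps = U.eps * y₁ ^ r := fun r => by
      refine ⟨by rw [← mul_assoc, U.eps_idem], ?_⟩
      rcases r with - | r
      · rw [pow_zero, mul_one, U.eps_idem]
      · rw [pow_succ, mul_assoc, mul_assoc, hy₁c.2]
    have hpolyc : U.eps * (a - poly) = a - poly ∧ (a - poly) * U.eps = a - poly := by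
      constructor
      · simp only [mul_sub, ha.1.1, poly, Finsupp.sum, Finset.mul_sum, mul_smul_comm, (hpc _).1]
      · simp only [sub_mul, ha.1.2, poly, Finsupp.sum, Finset.sum_mul, smul_mul_assoc, (hpc _).2]
    obtain ⟨b, hb⟩ := mem_kernel_mapDomain hker hu1 hψpoly
    have hb' : a - poly = x * (U.eps * b * U.eps) := by
      have e1 : a - poly = U.eps * (a - poly) * U.eps := by rw [hpolyc.1, hpolyc.2]
      have hcc : Commute (of k Γ u - 1) b :=
        (show Commute (of k Γ u) b from hcu _).sub_left (Commute.one_left _)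
      have hce : Commute (of k Γ u - 1) U.eps :=
        (show Commute (of k Γ u) U.eps from hcu _).sub_left (Commute.one_left _)
      have e2 : a - poly = (of k Γ u - 1) * b := hb.elim id fun h => h.trans hcc.eq.symm
      rw [e1, e2, hxdef, ← mul_assoc U.eps (of k Γ u - 1) b, ← hce.eq]
      simp only [← mul_assoc, mul_assoc (of k Γ u - 1) U.eps U.eps, U.eps_idem]
    obtain ⟨lam, hlam⟩ : ∃ lam, lam = U.sc (U.eps * b * U.eps) := ⟨_, rfl⟩
    have h1 : a - poly ∈ Submodule.span k {x} ⊔ U.rad * U.rad := by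
      rw [hb', show U.eps * b * U.eps = lam • U.eps + (U.eps * b * U.eps - lam • U.eps) by abel,
        mul_add, mul_smul_comm, hxmem.1.2]
      exact add_mem (Submodule.mem_sup_left (Submodule.smul_mem _ _ (Submodule.subset_span rfl)))
        (Submodule.mem_sup_right (Submodule.mul_mem_mul hxmem (hlam ▸ U.sub_mem_rad b)))
    have hterm : ∀ r : ℕ, 2 ≤ r → U.eps * y₁ ^ r ∈ U.rad * U.rad := by
      intro r hr
      obtain ⟨r, rfl⟩ := Nat.exists_eq_add_of_le' hr
      have hmem : ∀ j, U.eps * y₁ ^ (j + 1) ∈ U.rad := fun j => by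
        induction j with
        | zero => simpa [hy₁c.1] using hy₁r
        | succ j ihj => rw [pow_succ, ← mul_assoc]; exact hsq (Submodule.mul_mem_mul ihj hy₁r)
      rw [pow_succ, ← mul_assoc]
      exact Submodule.mul_mem_mul (hmem r) hy₁r
    have hc0 : cf 0 = 0 := by
      have hsc : ∀ r : ℕ, U.sc (U.eps * y₁ ^ r) = if r = 0 then 1 else 0 := fun r => by
        split_ifs with h
        · subst h; rw [pow_zero, mul_one]; exact U.sc_eps
        · rcases (show r = 1 ∨ 2 ≤ r by omega) with rfl | h2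
          · rw [pow_one, hy₁c.1]; exact hy₁r.2
          · exact (hsq (hterm r h2)).2
      have hx0 : U.sc (a - poly) = 0 := by
        rw [hb', U.sc_mul hxmem.1 (U.corner_eps b), hxmem.2, zero_mul]
      rw [sub_eq_add_neg, U.sc_add, ha.2, zero_add, ← neg_one_smul k poly, U.sc_smul,
        neg_one_mul, neg_eq_zero] at hx0
      simp only [poly, Finsupp.sum, U.sc_sum, U.sc_smul, hsc, mul_ite, mul_one, mul_zero,
        Finset.sum_ite_eq'] at hx0
      by_contra hcon
      rw [if_pos (Finsupp.mem_support_iff.mpr hcon)] at hx0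
      exact hcon hx0
    have h2 : poly ∈ Submodule.span k {y₁} ⊔ U.rad * U.rad := by
      refine Submodule.sum_mem _ fun r _ => ?_
      rcases r with - | r
      · simp only [hc0, zero_smul]; exact zero_mem _
      refine Submodule.smul_mem _ _ ?_
      rcases r with - | r
      · exact Submodule.mem_sup_left (by simpa [hy₁c.1] using Submodule.subset_span rfl)
      · exact Submodule.mem_sup_right (hterm _ (by omega))
    rw [show a = poly + (a - poly) by abel]
    refine add_mem ((sup_le_sup_right le_sup_left _ :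
      Submodule.span k {y₁} ⊔ U.rad * U.rad ≤ _) h2) ?_
    exact (sup_le (le_sup_of_le_left le_sup_right) le_sup_right :
      Submodule.span k {x} ⊔ U.rad * U.rad ≤ _) h1
  rcases hx with h0 | hd
  · refine ⟨x, hxmem, ?_⟩
    intro a ha
    -- the quotient corner is scalar, so `y₁` is a multiple of `u - 1`
    obtain ⟨b, hb⟩ := mem_kernel_mapDomain hker hu1 (a := y₁) (hy₁.trans h0)
    have hcc : Commute (of k Γ u - 1) b :=
      (show Commute (of k Γ u) b from hcu _).sub_left (Commute.one_left _)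
    have hce : Commute (of k Γ u - 1) U.eps :=
      (show Commute (of k Γ u) U.eps from hcu _).sub_left (Commute.one_left _)
    have e2 : y₁ = (of k Γ u - 1) * b := hb.elim id fun h => h.trans hcc.eq.symm
    have hy₁x : y₁ ∈ Submodule.span k {x} ⊔ U.rad * U.rad := by
      have e1 : y₁ = x * (U.eps * b * U.eps) := by
        conv_lhs => rw [show y₁ = U.eps * y₁ * U.eps by rw [hy₁c.1, hy₁c.2]]
        rw [e2, hxdef, ← mul_assoc U.eps (of k Γ u - 1) b, ← hce.eq]
        simp only [← mul_assoc, mul_assoc (of k Γ u - 1) U.eps U.eps, U.eps_idem]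
      rw [e1, show U.eps * b * U.eps = U.sc (U.eps * b * U.eps) • U.eps +
        (U.eps * b * U.eps - U.sc (U.eps * b * U.eps) • U.eps) by abel,
        mul_add, mul_smul_comm, hxmem.1.2]
      exact add_mem (Submodule.mem_sup_left (Submodule.smul_mem _ _ (Submodule.subset_span rfl)))
        (Submodule.mem_sup_right (Submodule.mul_mem_mul hxmem (U.sub_mem_rad b)))
    exact sup_le (sup_le ((Submodule.span_le).mpr (Set.singleton_subset_iff.mpr hy₁x))
      le_sup_left) le_sup_right (hgen' ha)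
  · refine ⟨y₁, hy₁r, hgen'.trans (sup_le (sup_le le_sup_left ?_) le_sup_right)⟩
    rw [Submodule.span_le, Set.singleton_subset_iff]
    exact Submodule.mem_sup_right (U.mem_sq_of_deriv hxmem hd)

end CfsgLib.Blocks.CyclicDefect
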