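import Cfsg.Agent.Lib.Blocks.CyclicDefect.Extensions
import Mathlib.RingTheory.Jacobson.Semiprimary
import Mathlib.RingTheory.Artinian.Ring

/-!
# The radical of a local corner and its derivations

The corner of the first matrix unit is generated by one nilpotent element when its derivations
form at most a line.
-/

set_option autoImplicit false
set_option linter.unusedSectionVars false

noncomputable section

namespace CfsgLib.Blocks.CyclicDefect

namespace MatUnits

variable {K : Type*} [Field K] [IsAlgClosed K] {A : Type*} [Ring A] [Algebra K A]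
  [FiniteDimensional K A] {e : A} (U : MatUnits K e)

/-- The radical of the first corner. -/
def rad : Submodule K A where
  carrier := {a | (U.eps * a = a ∧ a * U.eps = a) ∧ U.sc a = 0}
  add_mem' := fun {a b} ha hb =>
    ⟨⟨by rw [mul_add, ha.1.1, hb.1.1], by rw [add_mul, ha.1.2, hb.1.2]⟩, by
      rw [U.sc_add, ha.2, hb.2, add_zero]⟩
  zero_mem' := ⟨⟨mul_zero _, zero_mul _⟩, U.sc_zero⟩
  smul_mem' := fun t a ha =>
    ⟨⟨by rw [mul_smul_comm, ha.1.1], by rw [smul_mul_assoc, ha.1.2]⟩, by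
      rw [U.sc_smul, ha.2, mul_zero]⟩

theorem eps_idem : U.eps * U.eps = U.eps := U.mul_same 0 0 0

theorem corner_eps (a : A) :
    U.eps * (U.eps * a * U.eps) = U.eps * a * U.eps ∧
      U.eps * a * U.eps * U.eps = U.eps * a * U.eps :=
  ⟨by rw [← mul_assoc, ← mul_assoc, U.eps_idem], by rw [mul_assoc, U.eps_idem]⟩

/-- The radical part of an element. -/
theorem sub_mem_rad (a : A) :
    U.eps * a * U.eps - U.sc (U.eps * a * U.eps) • U.eps ∈ U.rad := by
  refine ⟨⟨?_, ?_⟩, ?_⟩
  · rw [mul_sub, (U.corner_eps a).1, mul_smul_comm, U.eps_idem]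
  · rw [sub_mul, (U.corner_eps a).2, smul_mul_assoc, U.eps_idem]
  · rw [sub_eq_add_neg, ← neg_smul, U.sc_add, U.sc_smul, U.sc_eps, mul_one, add_neg_cancel]

theorem isNilpotent_of_mem_rad {a : A} (ha : a ∈ U.rad) : IsNilpotent a := by
  have := U.isNilpotent_sub ha.1
  rwa [ha.2, zero_smul, sub_zero] at this

/-- A derivation of the first corner. -/
structure IsEpsDeriv (d : A →ₗ[K] K) : Prop where
  corner : ∀ a, d a = d (U.eps * a * U.eps)
  leibniz : ∀ a b, (U.eps * a = a ∧ a * U.eps = a) → (U.eps * b = b ∧ b * U.eps = b) →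
    d (a * b) = d a * U.sc b + U.sc a * d b

variable {U} in
theorem IsEpsDeriv.eps {d : A →ₗ[K] K} (hd : U.IsEpsDeriv d) : d U.eps = 0 := by
  have := hd.leibniz U.eps U.eps ⟨U.eps_idem, U.eps_idem⟩ ⟨U.eps_idem, U.eps_idem⟩
  rw [U.eps_idem, U.sc_eps, mul_one, one_mul] at this
  exact left_eq_add.mp this

/-- A functional that vanishes on the square of the radical gives a derivation. -/
theorem exists_deriv (ψ : A →ₗ[K] K) (hψ : ∀ a ∈ U.rad * U.rad, ψ a = 0) :
    ∃ d, U.IsEpsDeriv d ∧ ∀ a ∈ U.rad, d a = ψ a := by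
  let scL : A →ₗ[K] K :=
    { toFun := U.sc, map_add' := U.sc_add, map_smul' := fun t a => U.sc_smul t a }
  let cor : A →ₗ[K] A := (LinearMap.mulLeft K U.eps).comp (LinearMap.mulRight K U.eps)
  let d : A →ₗ[K] K := ψ ∘ₗ (cor - (scL ∘ₗ cor).smulRight U.eps)
  have hd : ∀ a, d a = ψ (U.eps * a * U.eps - U.sc (U.eps * a * U.eps) • U.eps) := fun a => by
    simp [d, cor, scL, mul_assoc]
  have hdc : ∀ {a}, (U.eps * a = a ∧ a * U.eps = a) → d a = ψ (a - U.sc a • U.eps) :=
    fun {a} ha => by rw [hd, ha.1, ha.2]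
  refine ⟨d, ⟨fun a => ?_, fun a b ha hb => ?_⟩, fun a ha => ?_⟩
  · rw [hdc (U.corner_eps a), hd]
  · have hab : U.eps * (a * b) = a * b ∧ a * b * U.eps = a * b :=
      ⟨by rw [← mul_assoc, ha.1], by rw [mul_assoc, hb.2]⟩
    rw [hdc ha, hdc hb, hdc hab, U.sc_mul ha hb]
    have ha' := U.sub_mem_rad a
    have hb' := U.sub_mem_rad b
    rw [ha.1, ha.2] at ha'
    rw [hb.1, hb.2] at hb'
    have key : a * b - (U.sc a * U.sc b) • U.eps =
        (a - U.sc a • U.eps) * (b - U.sc b • U.eps) + (U.sc b • (a - U.sc a • U.eps) +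
          U.sc a • (b - U.sc b • U.eps)) := by
      simp only [sub_mul, mul_sub, smul_mul_assoc, mul_smul_comm, ha.2, hb.1, U.eps_idem]
      module
    rw [key, map_add, map_add, hψ _ (Submodule.mul_mem_mul ha' hb'), map_smul, map_smul,
      smul_eq_mul, smul_eq_mul, zero_add]
    ring
  · rw [hdc ha.1, ha.2, zero_smul, sub_zero]

theorem exists_functional {S : Submodule K A} {x : A} (hx : x ∉ S) :
    ∃ ψ : A →ₗ[K] K, ψ x = 1 ∧ ∀ a ∈ S, ψ a = 0 := by
  obtain ⟨f, hf, hfS⟩ := Submodule.exists_dual_map_eq_bot_of_notMem hx inferInstance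
  refine ⟨(f x)⁻¹ • f, by simp [hf], fun a ha => ?_⟩
  have : f a ∈ S.map f := Submodule.mem_map.mpr ⟨a, ha, rfl⟩
  rw [hfS, Submodule.mem_bot] at this
  simp [this]

theorem mem_sq_of_deriv {x : A} (hx : x ∈ U.rad) (h : ∀ d, U.IsEpsDeriv d → d x = 0) :
    x ∈ U.rad * U.rad := by
  by_contra hn
  obtain ⟨ψ, hψx, hψ⟩ := exists_functional (K := K) hn
  obtain ⟨d, hd, hdr⟩ := U.exists_deriv ψ hψ
  exact one_ne_zero ((hψx.symm.trans (hdr x hx).symm).trans (h d hd))

theorem exists_rad_gen (hline : ∀ d₁ d₂, U.IsEpsDeriv d₁ → U.IsEpsDeriv d₂ →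
      ∃ a b : K, (a ≠ 0 ∨ b ≠ 0) ∧ ∀ z, a * d₁ z + b * d₂ z = 0) :
    ∃ y ∈ U.rad, U.rad ≤ Submodule.span K {y} ⊔ U.rad * U.rad := by
  by_cases h0 : U.rad ≤ U.rad * U.rad
  · exact ⟨0, zero_mem _, h0.trans le_sup_right⟩
  obtain ⟨y, hy, hyn⟩ := SetLike.not_le_iff_exists.mp h0
  refine ⟨y, hy, ?_⟩
  by_contra hle
  obtain ⟨z, hz, hzn⟩ := SetLike.not_le_iff_exists.mp hle
  obtain ⟨ψ₁, hy1, hψ₁⟩ := exists_functional (K := K) hyn
  obtain ⟨ψ₂, hz2, hψ₂⟩ := exists_functional (K := K) hzn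
  obtain ⟨d₁, hd₁, hr₁⟩ := U.exists_deriv ψ₁ hψ₁
  obtain ⟨d₂, hd₂, hr₂⟩ := U.exists_deriv ψ₂ fun a ha => hψ₂ a (Submodule.mem_sup_right ha)
  obtain ⟨a, b, hab, h⟩ := hline d₁ d₂ hd₁ hd₂
  have h1 := h y
  rw [hr₁ y hy, hy1, hr₂ y hy, hψ₂ y (Submodule.mem_sup_left (Submodule.subset_span rfl)),
    mul_zero, add_zero, mul_one] at h1
  have h2 := h z
  rw [h1, zero_mul, zero_add, hr₂ z hz, hz2, mul_one] at h2
  rcases hab with h | h
  exacts [h h1, h h2]

theorem rad_mul_le : U.rad * U.rad ≤ U.rad := Submodule.mul_le.mpr fun a ha b hb =>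
  ⟨⟨by rw [← mul_assoc, ha.1.1], by rw [mul_assoc, hb.1.2]⟩, by
    rw [U.sc_mul ha.1 hb.1, ha.2, zero_mul]⟩

theorem rad_le_jacobson {a : A} (ha : a ∈ U.rad) : a ∈ Ring.jacobson A := by
  have key : ∀ z, IsNilpotent (z * a) := fun z => by
    have hmem : U.eps * z * U.eps * a ∈ U.rad :=
      ⟨⟨by simp only [← mul_assoc, U.eps_idem], by rw [mul_assoc, ha.1.2]⟩, by
        rw [U.sc_mul (U.corner_eps z) ha.1, ha.2, mul_zero]⟩
    obtain ⟨r, hr⟩ := U.isNilpotent_of_mem_rad hmem
    rw [mul_assoc, ha.1.1] at hr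
    refine ⟨r + 2, ?_⟩
    have hpow : ∀ s, (z * a) ^ (s + 1) = z * a * (U.eps * z * a) ^ s := fun s => by
      induction s with
      | zero => simp
      | succ s ih =>
        rw [pow_succ, ih, pow_succ, ← mul_assoc (z * a)]
        rcases s with - | s
        · simp only [pow_zero, mul_one]
          rw [show z * a * (U.eps * z * a) = z * (a * U.eps) * (z * a) by simp only [mul_assoc],
            ha.1.2]
        · rw [pow_succ, ← mul_assoc (z * a)]
          simp only [mul_assoc]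
          congr 3
          rw [← mul_assoc a U.eps, ha.1.2]
    rw [hpow, pow_succ, hr, zero_mul, mul_zero]
  rw [← Ideal.jacobson_bot, Ideal.mem_jacobson_iff]
  intro z
  obtain ⟨u, hu⟩ := (key z).isUnit_one_add
  refine ⟨((u⁻¹ : Aˣ) : A), ?_⟩
  rw [Ideal.mem_bot, mul_assoc, sub_eq_zero, show ((u⁻¹ : Aˣ) : A) * (z * a) + ((u⁻¹ : Aˣ) : A) =
    ((u⁻¹ : Aˣ) : A) * (1 + z * a) by rw [mul_add, mul_one, add_comm], ← hu, Units.inv_mul]

/-- A generator of the radical modulo its square generates the corner. -/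
theorem corner_mem_span {y : A} (hy : y ∈ U.rad)
    (hgen : U.rad ≤ Submodule.span K {y} ⊔ U.rad * U.rad) (a : A) :
    U.eps * a * U.eps ∈ Submodule.span K (Set.range fun r : ℕ => U.eps * y ^ r) := by
  set P := Submodule.span K (Set.range fun r : ℕ => U.eps * y ^ (r + 1))
  have hPrad : P ≤ U.rad := by
    rw [Submodule.span_le]
    rintro _ ⟨r, rfl⟩
    show U.eps * y ^ (r + 1) ∈ U.rad
    induction r with
    | zero => simpa [hy.1.1] using hy
    | succ r ih => rw [pow_succ, ← mul_assoc]; exact U.rad_mul_le (Submodule.mul_mem_mul ih hy)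
  have hyP : Submodule.span K {y} ≤ P := by
    rw [Submodule.span_le, Set.singleton_subset_iff]
    exact Submodule.subset_span ⟨0, by simp [hy.1.1]⟩
  have hPP : P * P ≤ P := by
    rw [Submodule.span_mul_span, Submodule.span_le]
    rintro _ ⟨_, ⟨r, rfl⟩, _, ⟨s, rfl⟩, rfl⟩
    refine Submodule.subset_span ⟨r + s + 1, ?_⟩
    have : U.eps * y ^ (s + 1) = y ^ (s + 1) := by rw [pow_succ', ← mul_assoc, hy.1.1]
    show U.eps * y ^ (r + s + 1 + 1) = U.eps * y ^ (r + 1) * (U.eps * y ^ (s + 1))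
    rw [this, mul_assoc, ← pow_add]
    congr 2
    omega
  have hsq : U.rad ≤ P ⊔ U.rad * U.rad := hgen.trans (sup_le_sup_right hyP _)
  have hstep : ∀ r : ℕ, U.rad ≤ P ⊔ U.rad ^ (r + 2) := fun r => by
    induction r with
    | zero => rw [Submodule.pow_succ, Submodule.pow_one]; exact hsq
    | succ r ih =>
      refine hsq.trans (sup_le le_sup_left ?_)
      calc U.rad * U.rad ≤ (P ⊔ U.rad ^ (r + 2)) * U.rad := mul_le_mul' ih le_rfl
        _ = P * U.rad ⊔ U.rad ^ (r + 3) := by
          rw [Submodule.sup_mul, ← Submodule.pow_succ]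
        _ ≤ P ⊔ U.rad ^ (r + 3) := sup_le ?_ le_sup_right
      calc P * U.rad ≤ P * (P ⊔ U.rad ^ (r + 2)) := mul_le_mul' le_rfl ih
        _ = P * P ⊔ P * U.rad ^ (r + 2) := Submodule.mul_sup _ _ _
        _ ≤ P ⊔ U.rad ^ (r + 3) := sup_le_sup hPP (by
            rw [Submodule.pow_succ' (n := r + 2) _ (by omega)]
            exact mul_le_mul' hPrad le_rfl)
  have hnil : ∃ r : ℕ, U.rad ^ (r + 2) = ⊥ := by
    have : IsArtinianRing A := IsArtinianRing.of_finite K A
    obtain ⟨N, hN⟩ : IsNilpotent (Ring.jacobson A) := IsSemiprimaryRing.isNilpotent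
    refine ⟨N, le_bot_iff.mp ?_⟩
    have hmem : ∀ r : ℕ, ∀ z ∈ U.rad ^ (r + 1), z ∈ (Ring.jacobson A) ^ (r + 1) := fun r => by
      induction r with
      | zero => intro z hz; rw [Submodule.pow_one] at hz ⊢; exact U.rad_le_jacobson hz
      | succ r ih =>
        intro z hz
        rw [Submodule.pow_succ' (n := r + 1) _ (by omega)] at hz ⊢
        induction hz using Submodule.mul_induction_on' with
        | mem_mul_mem u hu v hv => exact Ideal.mul_mem_mul (U.rad_le_jacobson hu) (ih v hv)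
        | add u _ v _ h1 h2 => exact add_mem h1 h2
    intro z hz
    have h1 := hmem (N + 1) z hz
    have h2 : (Ring.jacobson A) ^ (N + 2) = ⊥ := by
      rcases Nat.eq_zero_or_pos N with h | h
      · subst h
        rw [Submodule.pow_zero, Ideal.one_eq_top] at hN
        refine le_bot_iff.mp (le_trans le_top ?_)
        rw [hN]
        exact le_refl _
      · rw [show N + 2 = N + 1 + 1 from rfl, Submodule.pow_succ' _ (by omega),
          Submodule.pow_succ' _ h.ne', hN]
        simp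
    rw [h2] at h1
    exact h1
  obtain ⟨r, hr⟩ := hnil
  have hradP : U.rad ≤ P := by simpa [hr] using hstep r
  rw [show U.eps * a * U.eps = (U.eps * a * U.eps - U.sc (U.eps * a * U.eps) • U.eps) +
    U.sc (U.eps * a * U.eps) • U.eps by rw [sub_add_cancel]]
  refine add_mem (Submodule.span_mono ?_ (hradP (U.sub_mem_rad a)))
    (Submodule.smul_mem _ _ (Submodule.subset_span ⟨0, by simp⟩))
  rintro _ ⟨s, rfl⟩
  exact ⟨s + 1, rfl⟩

section Rep

variable (hc : ∀ a, e * a = a * e)

/-- The representation on column vectors. -/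
def act : A →ₐ[K] Module.End K (Fin (U.n + 1) → K) :=
  (Matrix.toLinAlgEquiv' (R := K) (n := Fin (U.n + 1))).toAlgHom.comp (U.rep hc)

theorem act_apply (a : A) : U.act hc a = Matrix.toLinAlgEquiv' (U.rep hc a) := rfl

theorem act_surjective : Function.Surjective (U.act hc) :=
  (Matrix.toLinAlgEquiv' (R := K) (n := Fin (U.n + 1))).surjective.comp (U.rep_surjective hc)

theorem act_e : U.act hc e = 1 := by rw [act_apply, U.rep_e, map_one]

/-- The derivation of the representation given by one of the corner. -/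
def derivMat (d : A →ₗ[K] K) : A →ₗ[K] Matrix (Fin (U.n + 1)) (Fin (U.n + 1)) K where
  toFun a := Matrix.of fun i j => d (U.coord a i j)
  map_add' a b := by ext i j; simp [CornerSys.coord, mul_add, add_mul]
  map_smul' t a := by ext i j; simp [CornerSys.coord]

theorem derivMat_mul {d : A →ₗ[K] K} (hd : U.IsEpsDeriv d) (a b : A) :
    U.derivMat d (a * b) = U.rep hc a * U.derivMat d b + U.derivMat d a * U.rep hc b := by
  ext i j
  simp only [derivMat, LinearMap.coe_mk, AddHom.coe_mk, Matrix.add_apply, Matrix.mul_apply,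
    Matrix.of_apply, rep_apply, ← Finset.sum_add_distrib]
  rw [show U.coord (a * b) i j = U.coord (a * e * b) i j by
    simp only [CornerSys.coord]
    conv_lhs => rw [← U.mul_e 0 i]
    rw [mul_assoc (U.E 0 i), ← mul_assoc e, hc a], U.coord_mul (by rw [mul_assoc, U.idem]) i j,
    map_sum]
  refine Finset.sum_congr rfl fun l _ => ?_
  have : U.coord (a * e) i l = U.coord a i l := by simp only [CornerSys.coord, mul_assoc, U.e_mul]
  rw [this, hd.leibniz _ _ (U.eps_coord a i l) (U.eps_coord b l j)]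
  ring

/-- The derivation on column vectors. -/
def derivEnd (d : A →ₗ[K] K) : A →ₗ[K] Module.End K (Fin (U.n + 1) → K) :=
  (Matrix.toLinAlgEquiv' (R := K) (n := Fin (U.n + 1))).toLinearEquiv.toLinearMap.comp (U.derivMat d)

theorem derivEnd_apply (d : A →ₗ[K] K) (a : A) :
    U.derivEnd d a = Matrix.toLinAlgEquiv' (U.derivMat d a) := rfl

theorem coord_corner {x : A} (hx : U.eps * x = x ∧ x * U.eps = x) (i j : Fin (U.n + 1)) :
    U.coord x i j = if i = 0 ∧ j = 0 then x else 0 := by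
  have : U.coord x i j = U.E 0 i * U.eps * x * (U.eps * U.E j 0) := by
    simp only [CornerSys.coord]
    conv_lhs => rw [← hx.1, ← hx.2]
    simp only [mul_assoc]
  rw [this, U.mul, U.mul]
  by_cases hi : i = 0
  · by_cases hj : j = 0
    · subst hi hj; simp [hx.1, hx.2]
    · simp [hi, Ne.symm hj, hj]
  · simp [hi]

/-- An inner combination is zero. -/
theorem deriv_eq_zero_of_inner {d : A →ₗ[K] K} (hd : U.IsEpsDeriv d)
    (h : Module.End K (Fin (U.n + 1) → K))
    (hin : ∀ z, U.derivEnd d z = h * U.act hc z - U.act hc z * h) (z : A) : d z = 0 := by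
  rw [hd.corner]
  set x := U.eps * z * U.eps
  have hx : U.eps * x = x ∧ x * U.eps = x := U.corner_eps z
  obtain ⟨Hm, rfl⟩ := (Matrix.toLinAlgEquiv' (R := K) (n := Fin (U.n + 1))).surjective h
  have h1 := hin x
  rw [derivEnd_apply, act_apply, ← map_mul, ← map_mul, ← map_sub] at h1
  have h2 := congrFun (congrFun ((Matrix.toLinAlgEquiv' (R := K)
    (n := Fin (U.n + 1))).injective h1) 0) 0
  simp only [derivMat, LinearMap.coe_mk, AddHom.coe_mk, Matrix.of_apply, Matrix.sub_apply,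
    Matrix.mul_apply, U.rep_apply, U.coord_corner hx, and_true, true_and, apply_ite U.sc,
    U.sc_zero, mul_ite, ite_mul, mul_zero, zero_mul, Finset.sum_ite_eq', Finset.mem_univ,
    if_true] at h2
  rw [h2]
  ring

end Rep

end MatUnits

end CfsgLib.Blocks.CyclicDefect
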