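import Cfsg.Agent.Lib.Blocks.Corner
import Mathlib.LinearAlgebra.Matrix.Trace
import Mathlib.LinearAlgebra.Matrix.ToLin
import Mathlib.Data.Matrix.Basis

/-!
# Matrix units over a primitive idempotent

An idempotent all of whose primitive idempotents are equivalent carries matrix units with a
primitive first idempotent; when it is central this gives the one representation of its algebra.
-/

set_option autoImplicit false
set_option linter.unusedSectionVars false

namespace CfsgLib.Blocks.CyclicDefect

open CfsgLib.Corner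

variable (K : Type*) [Field K] {A : Type*} [Ring A] [Algebra K A]

/-- Matrix units summing to `e`. -/
structure CornerSys (e : A) where
  n : ℕ
  E : Fin (n + 1) → Fin (n + 1) → A
  mul : ∀ i j k l, E i j * E k l = if j = k then E i l else 0
  sum : ∑ i, E i i = e

/-- Matrix units summing to `e` with a local first corner. -/
structure MatUnits (e : A) extends CornerSys e where
  ne : E 0 0 ≠ 0
  loc : ∀ a : A, ∃ c : K, IsNilpotent (E 0 0 * a * E 0 0 - c • E 0 0)

variable {K}

namespace CornerSys

variable {e : A} (U : CornerSys e)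

/-- The first idempotent. -/
abbrev eps : A := U.E 0 0

theorem mul_same (i j l : Fin (U.n + 1)) : U.E i j * U.E j l = U.E i l := by rw [U.mul, if_pos rfl]

theorem e_mul (i j : Fin (U.n + 1)) : e * U.E i j = U.E i j := by
  rw [show e * U.E i j = (∑ k, U.E k k) * U.E i j by rw [U.sum], Finset.sum_mul,
    Finset.sum_eq_single i]
  · exact U.mul_same i i j
  · intro b _ hb; rw [U.mul, if_neg hb]
  · simp

theorem mul_e (i j : Fin (U.n + 1)) : U.E i j * e = U.E i j := by
  rw [show U.E i j * e = U.E i j * ∑ k, U.E k k by rw [U.sum], Finset.mul_sum,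
    Finset.sum_eq_single j]
  · exact U.mul_same i j j
  · intro b _ hb; rw [U.mul, if_neg (Ne.symm hb)]
  · simp

theorem idem (U : CornerSys e) : e * e = e := by
  rw [show e * e = e * ∑ k, U.E k k by rw [U.sum], Finset.mul_sum]
  simp only [U.e_mul, U.sum]

/-- The coefficient of `a` at `(i, j)` in the first corner. -/
def coord (a : A) (i j : Fin (U.n + 1)) : A := U.E 0 i * a * U.E j 0

theorem eps_coord (a : A) (i j : Fin (U.n + 1)) :
    U.eps * U.coord a i j = U.coord a i j ∧ U.coord a i j * U.eps = U.coord a i j :=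
  ⟨by simp only [coord, ← mul_assoc, U.mul_same], by simp only [coord, mul_assoc, U.mul_same]⟩

theorem reconstruct (a : A) :
    e * a * e = ∑ i, ∑ j, U.E i 0 * U.coord a i j * U.E 0 j := by
  rw [show e * a * e = (∑ k, U.E k k) * a * ∑ k, U.E k k by rw [U.sum]]
  simp only [coord, ← mul_assoc, U.mul_same, Finset.sum_mul, Finset.mul_sum]
  rw [Finset.sum_comm]
  refine Finset.sum_congr rfl fun i _ => Finset.sum_congr rfl fun j _ => ?_
  rw [mul_assoc (U.E i i * a), U.mul_same j 0 j]

theorem coord_mul {a b : A} (h : a * e = a) (i j : Fin (U.n + 1)) :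
    U.coord (a * b) i j = ∑ l, U.coord a i l * U.coord b l j := by
  rw [show U.coord (a * b) i j = U.E 0 i * (a * (∑ k, U.E k k) * b) * U.E j 0 by
    rw [U.sum, h]; rfl]
  simp only [coord, ← mul_assoc, Finset.mul_sum, Finset.sum_mul]
  refine Finset.sum_congr rfl fun l _ => ?_
  rw [mul_assoc (U.E 0 i * a) (U.E l 0), U.mul_same l 0 l]

end CornerSys

namespace MatUnits

variable {e : A} (U : MatUnits K e)

/-- The first idempotent. -/
abbrev eps : A := U.E 0 0

/-- Transport by a surjection. -/
def map {B : Type*} [Ring B] [Algebra K B] (ψ : A →ₐ[K] B) (hψ : Function.Surjective ψ)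
    (he : ψ e ≠ 0) : MatUnits K (ψ e) where
  n := U.n
  E i j := ψ (U.E i j)
  mul i j k l := by rw [← map_mul, U.mul]; split_ifs <;> simp
  sum := by rw [← map_sum, U.sum]
  ne h := he (by
    rw [← U.sum, map_sum]
    refine Finset.sum_eq_zero fun i _ => ?_
    rw [← U.mul_same i 0 i, ← U.mul_same 0 0 i, map_mul, map_mul, h, zero_mul, mul_zero])
  loc b := by
    obtain ⟨a, rfl⟩ := hψ b
    obtain ⟨c, hc⟩ := U.loc a
    exact ⟨c, by simpa using hc.map ψ⟩

theorem isPrim : IsPrim U.eps := by
  refine ⟨U.mul_same 0 0 0, U.ne, fun f hf h1 h2 => ?_⟩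
  obtain ⟨c, m, hm⟩ := U.loc f
  rw [h1, h2] at hm
  by_contra hcon
  push Not at hcon
  obtain ⟨hf0, hfe⟩ := hcon
  have key : ∀ (g : A) (d : K), g * g = g → Commute g (f - c • U.E 0 0) →
      g * (f - c • U.E 0 0) = d • g → g ≠ 0 → d = 0 := by
    intro g d hg hcom hgd hne
    have hpow : ∀ r : ℕ, g * (f - c • U.E 0 0) ^ r = d ^ r • g := fun r => by
      induction r with
      | zero => simp
      | succ r ih =>
        rw [pow_succ, ← mul_assoc, ih, smul_mul_assoc, hgd, smul_smul, pow_succ]
    have h0 := hpow m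
    rw [hm, mul_zero, eq_comm, smul_eq_zero] at h0
    exact eq_zero_of_pow_eq_zero (h0.resolve_right hne)
  have hc1 : (1 - c) = 0 := key f _ hf.eq
    (by
      rw [Commute, SemiconjBy, mul_sub, sub_mul, mul_smul_comm, smul_mul_assoc, h1, h2])
    (by rw [mul_sub, hf.eq, mul_smul_comm, h2, sub_smul, one_smul]) hf0
  have hc0 : -c = 0 := key (U.E 0 0 - f) _
    (by rw [mul_sub, sub_mul, sub_mul, U.mul_same, h1, h2, hf.eq, sub_self, sub_zero])
    (by
      rw [Commute, SemiconjBy]
      simp only [mul_sub, sub_mul, mul_smul_comm, smul_mul_assoc, U.mul_same, h1, h2]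
      module)
    (by
      rw [mul_sub, sub_mul, sub_mul, h1, hf.eq, sub_self, zero_sub, mul_smul_comm, U.mul_same,
        mul_smul_comm, h2, ← smul_sub, neg_smul])
    (sub_ne_zero.mpr (Ne.symm hfe))
  rw [neg_eq_zero.mp hc0, sub_zero] at hc1
  exact one_ne_zero hc1

section Finite

variable [FiniteDimensional K A] [IsAlgClosed K]

/-- The scalar of an element at the first corner. -/
noncomputable def sc (a : A) : K := phi K U.eps a

theorem sc_add (a b : A) : U.sc (a + b) = U.sc a + U.sc b := U.isPrim.phi_add a b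

theorem sc_smul (c : K) (a : A) : U.sc (c • a) = c * U.sc a := U.isPrim.phi_smul c a

theorem sc_zero : U.sc 0 = 0 := by
  have := U.sc_smul 0 0
  rwa [zero_smul, zero_mul] at this

theorem sc_eps : U.sc U.eps = 1 := U.isPrim.phi_self

theorem sc_sum {ι : Type*} (s : Finset ι) (f : ι → A) :
    U.sc (∑ x ∈ s, f x) = ∑ x ∈ s, U.sc (f x) :=
  map_sum (AddMonoidHom.mk' U.sc U.sc_add) f s

theorem sc_mul {a b : A} (ha : U.eps * a = a ∧ a * U.eps = a) (hb : U.eps * b = b ∧ b * U.eps = b) :
    U.sc (a * b) = U.sc a * U.sc b := U.isPrim.phi_mul ha.1 ha.2 hb.1 hb.2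

theorem sc_of_isNilpotent {a : A} (ha : U.eps * a = a ∧ a * U.eps = a) (h : IsNilpotent a) :
    U.sc a = 0 := by
  refine U.isPrim.phi_eq ?_
  rw [zero_smul, sub_zero, ha.1, ha.2]
  exact h

theorem isNilpotent_sub {a : A} (ha : U.eps * a = a ∧ a * U.eps = a) :
    IsNilpotent (a - U.sc a • U.eps) := by
  have := U.isPrim.phi_spec (K := K) a
  rwa [ha.1, ha.2] at this

variable (hc : ∀ a, e * a = a * e)
include hc

/-- The representation. -/
noncomputable def rep : A →ₐ[K] Matrix (Fin (U.n + 1)) (Fin (U.n + 1)) K :=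
  AlgHom.ofLinearMap
    { toFun := fun a => Matrix.of fun i j => U.sc (U.coord a i j)
      map_add' := fun a b => by
        ext i j
        simp only [CornerSys.coord, mul_add, add_mul, Matrix.of_apply, Matrix.add_apply, U.sc_add]
      map_smul' := fun c a => by
        ext i j
        simp only [CornerSys.coord, mul_smul_comm, smul_mul_assoc, Matrix.of_apply, Matrix.smul_apply,
          U.sc_smul, RingHom.id_apply, smul_eq_mul] }
    (by
      ext i j
      simp only [LinearMap.coe_mk, AddHom.coe_mk, CornerSys.coord, mul_one, U.mul, Matrix.of_apply,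
        Matrix.one_apply]
      split_ifs
      · exact U.sc_eps
      · exact U.sc_zero)
    fun a b => by
      ext i j
      simp only [LinearMap.coe_mk, AddHom.coe_mk, Matrix.of_apply, Matrix.mul_apply]
      rw [show U.coord (a * b) i j = U.coord (a * e * b) i j by
        simp only [CornerSys.coord]
        conv_lhs => rw [← U.mul_e 0 i]
        rw [mul_assoc (U.E 0 i), ← mul_assoc e, hc a], U.coord_mul (by rw [mul_assoc, U.idem]) i j,
        U.sc_sum]
      refine Finset.sum_congr rfl fun l _ => ?_
      rw [U.sc_mul (U.eps_coord _ i l) (U.eps_coord _ l j)]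
      congr 2
      simp only [CornerSys.coord, mul_assoc, U.e_mul]

theorem rep_apply (a : A) (i j : Fin (U.n + 1)) : U.rep hc a i j = U.sc (U.coord a i j) := rfl

theorem rep_unit (i j : Fin (U.n + 1)) : U.rep hc (U.E i j) = Matrix.single i j 1 := by
  ext a b
  rw [rep_apply, CornerSys.coord, U.mul, Matrix.single_apply]
  by_cases h1 : a = i
  · subst h1
    rw [if_pos rfl, U.mul]
    by_cases h2 : j = b
    · rw [if_pos h2, if_pos ⟨rfl, h2⟩]; exact U.sc_eps
    · rw [if_neg h2, if_neg fun h => h2 h.2]; exact U.sc_zero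
  · rw [if_neg h1, zero_mul, if_neg fun h => h1 h.1.symm]; exact U.sc_zero

theorem rep_e : U.rep hc e = 1 := by
  ext i j
  rw [rep_apply, CornerSys.coord, U.mul_e, U.mul, Matrix.one_apply]
  split_ifs
  · exact U.sc_eps
  · exact U.sc_zero

theorem rep_surjective : Function.Surjective (U.rep hc) := fun X =>
  ⟨∑ i, ∑ j, X i j • U.E i j, by
    simp only [map_sum, map_smul, U.rep_unit hc]
    ext a b
    simp [Matrix.sum_apply, Matrix.single_apply, ite_and]⟩

/-- The trace functionals. -/
theorem trace_functional (T : A →ₗ[K] K) (hT : ∀ a b, T (a * b) = T (b * a))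
    (hnil : ∀ a, IsNilpotent a → T a = 0) (a : A) :
    T (e * a) = T U.eps * (U.rep hc a).trace := by
  rw [show e * a = e * a * e by rw [mul_assoc, ← hc a, ← mul_assoc, U.idem], U.reconstruct,
    map_sum, Matrix.trace, Finset.mul_sum]
  refine Finset.sum_congr rfl fun i _ => ?_
  rw [map_sum, Finset.sum_eq_single i]
  · rw [hT, ← mul_assoc, U.mul_same, Matrix.diag, rep_apply,
      (U.eps_coord a i i).1]
    have h := hnil _ (U.isNilpotent_sub (U.eps_coord a i i))
    rw [map_sub, map_smul, sub_eq_zero] at h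
    rw [h, smul_eq_mul, mul_comm]
  · intro j _ hj
    rw [hT, ← mul_assoc, U.mul, if_neg hj, zero_mul, map_zero]
  · simp

end Finite

end MatUnits

variable [FiniteDimensional K A]

/-- Matrix units from a single class of primitive idempotents. -/
theorem exists_matUnits [IsAlgClosed K] {e : A} (he : IsIdempotentElem e) (he0 : e ≠ 0)
    (h : ∀ j j' : A, IsPrim j → IsPrim j' → e * j = j → j * e = j → e * j' = j' → j' * e = j' →
      Equiv' j j') : Nonempty (MatUnits K e) := by
  classical
  obtain ⟨s, hs, hso, hsum⟩ := exists_prim_decomp (K := K) he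
  obtain ⟨m, hm⟩ : ∃ m, s.card = m + 1 := Nat.exists_eq_succ_of_ne_zero fun h0 => he0 (by
    rw [← hsum, Finset.card_eq_zero.mp h0, Finset.sum_empty])
  let q : Fin (m + 1) ≃ s := (s.equivFinOfCardEq hm).symm
  let j : Fin (m + 1) → A := fun i => (q i : A)
  have hj : ∀ i, IsPrim (j i) := fun i => hs _ (q i).2
  have horth : ∀ i k, j i * j k = if i = k then j i else 0 := fun i k => by
    split_ifs with hik
    · subst hik; exact (hj i).idem.eq
    · exact hso (q i).2 (q k).2 fun hh => hik (q.injective (Subtype.ext hh))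
  have hjsum : ∑ i, j i = e := by
    rw [← hsum, ← Finset.sum_coe_sort s]
    exact Fintype.sum_equiv q _ _ fun i => rfl
  have hje : ∀ i, e * j i = j i ∧ j i * e = j i := fun i => by
    constructor
    · rw [← hjsum, Finset.sum_mul]; simp [horth]
    · rw [← hjsum, Finset.mul_sum]; simp [horth]
  have hx : ∀ i, ∃ x y : A, x * y = j i ∧ y * x = j 0 ∧
      j i * x = x ∧ x * j 0 = x ∧ j 0 * y = y ∧ y * j i = y := fun i =>
    Equiv'.exists_corner (hj i).idem (hj 0).idem
      (h _ _ (hj i) (hj 0) (hje i).1 (hje i).2 (hje 0).1 (hje 0).2)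
  choose x y hxy hyx hjx hxj hjy hyj using hx
  refine ⟨{ n := m, E := fun i k => x i * y k, mul := fun i k k' l => ?_, sum := ?_, ne := ?_,
            loc := fun a => ?_ }⟩
  · split_ifs with hkk
    · subst hkk
      rw [mul_assoc, ← mul_assoc (y k), hyx, hjy]
    · rw [mul_assoc, ← mul_assoc (y k), ← hyj k, ← hjx k', mul_assoc (y k), ← mul_assoc (j k),
        horth, if_neg hkk, zero_mul, mul_zero, zero_mul, mul_zero]
  · simp only [hxy, hjsum]
  · rw [hxy]; exact (hj 0).ne_zero
  · simp only [hxy]
    exact (hj 0).exists_scalar (by simp only [← mul_assoc, (hj 0).idem.eq])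
      (by simp only [mul_assoc, (hj 0).idem.eq])

end CfsgLib.Blocks.CyclicDefect
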