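import Cfsg.Agent.Lib.Blocks.CyclicDefect.SectionTwist
import Cfsg.Agent.Lib.Blocks.PrimeDefect.Exists

/-!
# The inertial index is at most the number of simple modules

Every twist has a simple module of the block with a map that is not a trace, and different twists
have different modules.
-/

set_option autoImplicit false
set_option linter.unusedSectionVars false

noncomputable section

namespace CfsgLib.Blocks.CyclicDefect

open Cfsg CfsgLib.GrpRing
open MonoidAlgebra (of single)
open scoped ComplexConjugate CfsgLib.Char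

universe u

variable {p : ℕ} {M : Ideal AlgInt} [M.IsPrime] {G : Type u} [Group G] [Fintype G] {P : Subgroup G}
  {c : Set (IrrCharacter (Subgroup.centralizer (P : Set G)))} {B : Set (IrrCharacter G)}

/-- A sum invariant under an element of order `p` without fixed points in the support. -/
theorem sum_eq_zero_of_free {κ : Type*} [Field κ] [CharP κ p] [Fact p.Prime] {Q α : Type*} [Group Q]
    [MulAction Q α] [Fintype α] (hQ : IsPGroup p Q) {f : α → κ}
    (hinv : ∀ (q : Q) (a : α), f (q • a) = f a)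
    (hfix : ∀ a ∈ MulAction.fixedPoints Q α, f a = 0) : ∑ a, f a = 0 := by
  classical
  rw [sum_eq_sum_fixed hQ hinv]
  exact Finset.sum_eq_zero fun a ha => hfix a (Finset.mem_filter.mp ha).2

/-- The element of order `p` acts as the identity. -/
theorem rep_section_eq_one [Fact p.Prime] {k : Type*} [Field k] [CharP k p] {H : Subgroup G} {z : G}
    {cc : MonoidAlgebra k G} {e : ℕ} (D : TwistData k H (cz z) cc e) (hzp : orderOf z = p) {ω : k}
    (hω : ω ^ e = 1) : D.rep ω (of k G z) = 1 := by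
  have hzK : z ∈ cz z := fun a ha => by
    obtain ⟨i, rfl⟩ := Subgroup.mem_zpowers_iff.mp ha
    exact ((Commute.refl z).zpow_left i).eq
  have hzcomm : ∀ a ∈ spanH k (cz z), of k G z * a = a * of k G z := fun a ha => by
    induction ha using Submodule.span_induction with
    | mem x hx =>
      obtain ⟨h, hh, rfl⟩ := hx
      rw [← map_mul, ← map_mul, hh z (Subgroup.mem_zpowers z)]
    | zero => rw [mul_zero, zero_mul]
    | add x x' _ _ h1 h2 => rw [mul_add, add_mul, h1, h2]
    | smul r x _ h1 => rw [mul_smul_comm, smul_mul_assoc, h1]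
  have hcoord : ∀ i j, D.L.U.coord (of k G z) i j =
      if i = j then of k G z * D.L.eps else 0 := fun i j => by
    rw [CornerSys.coord, ← hzcomm _ (D.L.mem_E 0 i), mul_assoc, D.L.U.mul]
    split_ifs
    · rfl
    · rw [mul_zero]
  have hq : of k G z * D.L.eps ∈ D.L.poly := by
    have h := D.L.coord_mem (of_mem_spanH (k := k) hzK) 0 0
    rwa [hcoord, if_pos rfl] at h
  have hmu1 : D.mu D.L.eps = 1 := by simpa using D.mu_pow 0
  have hpow : ∀ n : ℕ, D.mu (of k G z ^ n * D.L.eps) = D.mu (of k G z * D.L.eps) ^ n ∧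
      of k G z ^ n * D.L.eps ∈ D.L.poly := fun n => by
    induction n with
    | zero =>
      rw [pow_zero, pow_zero, one_mul]
      refine ⟨hmu1, ?_⟩
      exact Submodule.subset_span ⟨0, by simp⟩
    | succ n ih =>
      have e1 : of k G z ^ (n + 1) * D.L.eps =
          of k G z ^ n * D.L.eps * (of k G z * D.L.eps) := by
        rw [pow_succ, mul_assoc (of k G z ^ n) D.L.eps, ← mul_assoc D.L.eps,
          ← hzcomm _ D.L.eps_mem, mul_assoc (of k G z) D.L.eps, D.L.U.mul_same, ← mul_assoc]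
      refine ⟨by rw [e1, D.mu_mul ih.2 hq, ih.1, pow_succ], ?_⟩
      have h := D.L.coord_mem (of_mem_spanH (k := k) (pow_mem hzK (n + 1))) 0 0
      rwa [map_pow, CornerSys.coord, ← hzcomm _ D.L.eps_mem |> fun h' =>
        ((show Commute (of k G z) D.L.eps from h').pow_left (n + 1)).eq, mul_assoc,
        D.L.U.mul_same] at h
  have h1 : D.mu (of k G z * D.L.eps) = 1 := by
    have h := (hpow p).1
    rw [← map_pow, show z ^ p = 1 by rw [← hzp, pow_orderOf_eq_one], map_one, one_mul, hmu1] at h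
    refine sub_eq_zero.mp (eq_zero_of_pow_eq_zero (n := p) ?_)
    rw [sub_pow_char, one_pow, ← h, sub_self]
  ext i j
  rw [D.rep_spanC hω (of_mem_spanH hzK), hcoord, Matrix.one_apply]
  split_ifs
  · exact h1
  · exact map_zero _

set_option maxHeartbeats 800000 in
/-- Every twist has a simple module with a map that is not a trace. -/
theorem exists_nontrace_of_twist (hM : IsPModular p M) (hB : IsPBlock M B) {z : G} [Fintype (cz z)]
    (hzp : orderOf z = p) {b : Set (IrrCharacter (cz z))} {H : Subgroup G} [DecidablePred (· ∈ H)]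
    (hKH : cz z ≤ H) (hpair : trunc (Subgroup.zpowers z) (eB M B) * mapK M (cz z).subtype (eB M b) =
      mapK M (cz z).subtype (eB M b)) {e : ℕ}
    (D : TwistData (ResField M) H (cz z) (mapK M (cz z).subtype (eB M b)) e) {ω : ResField M}
    (hω : ω ^ e = 1) {r : ℕ} {m : Fin r → ℕ}
    (π : KG M G →ₐ[ResField M] Π i, Matrix (Fin (m i)) (Fin (m i)) (ResField M))
    (hπs : Function.Surjective π) {N : ℕ} (hN : (RingHom.ker π) ^ N = ⊥) :
    ∃ i, π (eB M B) i = 1 ∧ ∃ f : Matrix (Fin (D.L.U.n + 1)) (Fin (m i)) (ResField M),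
      (∀ t ∈ H, f * π (single t 1) i = D.rep ω (of (ResField M) G t) * f) ∧
      ¬ ∃ g : Matrix (Fin (D.L.U.n + 1)) (Fin (m i)) (ResField M),
        f = ∑ t : G with t ∈ H, D.rep ω (of (ResField M) G t) * g * π (single t⁻¹ 1) i := by
  classical
  have hp := hM.1
  have : Fact p.Prime := ⟨hp⟩
  have := charP_resField hM
  set R : G → Matrix (Fin (D.L.U.n + 1)) (Fin (D.L.U.n + 1)) (ResField M) :=
    fun g => D.rep ω (of (ResField M) G g)
  have hR : ∀ a ∈ H, ∀ a' ∈ H, R (a * a') = R a * R a' := fun a ha a' ha' => by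
    simp only [R, map_mul (of (ResField M) G)]
    exact D.rep_mul hω (of_mem_spanH ha) (of_mem_spanH ha')
  refine (PrimeDefect.exists_trace_or_simple_nontrace H m π hπs hN R hR (eB M B) (eB_comm B)
    (isIdempotentElem_eB hB).eq).resolve_right ?_
  rintro ⟨A, hA⟩
  set Z := Subgroup.zpowers z with hZ
  have hZp : IsPGroup p Z := IsPGroup.of_card (n := 1) (by rw [Nat.card_zpowers, hzp, pow_one])
  have hzK : z ∈ cz z := fun a ha => by
    obtain ⟨i, rfl⟩ := Subgroup.mem_zpowers_iff.mp ha
    exact ((Commute.refl z).zpow_left i).eq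
  have hRz : ∀ q ∈ Z, R q = 1 ∧ q ∈ cz z := by
    intro q hq
    obtain ⟨i, rfl⟩ := mem_powers_iff_mem_zpowers.mpr hq
    refine ⟨?_, pow_mem hzK i⟩
    induction i with
    | zero => simp only [R, pow_zero, map_one (of (ResField M) G)]; exact D.rep_one hω
    | succ i ih =>
      show R (z ^ (i + 1)) = 1
      rw [pow_succ, hR _ (hKH (pow_mem hzK i)) _ (hKH hzK), ih (Subgroup.pow_mem _
        (Subgroup.mem_zpowers z) i), show R z = 1 from rep_section_eq_one D hzp hω, one_mul]
  -- the part in the centralizer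
  have htrunc : trunc Z (eB M B) ∈ spanH (ResField M) H := by
    rw [eq_sum_of (trunc Z (eB M B))]
    refine Submodule.sum_mem _ fun g _ => ?_
    by_cases hg : g ∈ Subgroup.centralizer (Z : Set G)
    · exact Submodule.smul_mem _ _ (of_mem_spanH (hKH hg))
    · rw [coeff_trunc_of_notMem _ hg, zero_smul]; exact zero_mem _
  have hone : D.rep ω (trunc Z (eB M B)) = 1 := by
    have h := congrArg (D.rep ω) hpair
    rwa [D.rep_mul hω htrunc (spanH_mono hKH D.L.c_mem), D.rep_c hω, mul_one] at h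
  have hlhs : ∑ t : G with t ∈ H, (eB M B).coeff t • R t = 1 := by
    rw [← hone, eq_sum_of (trunc Z (eB M B)), map_sum, ← sub_eq_zero, Finset.sum_filter,
      ← Finset.sum_sub_distrib]
    set f : G → Matrix (Fin (D.L.U.n + 1)) (Fin (D.L.U.n + 1)) (ResField M) := fun t =>
      if t ∈ H ∧ t ∉ cz z then (eB M B).coeff t • R t else 0 with hf
    rw [Finset.sum_congr rfl (g := f) fun t _ => ?_]
    · ext a a'
      rw [Matrix.sum_apply, Matrix.zero_apply]
      let act : MulAction Z G :=
        MulAction.compHom G ((MulAut.conj : G →* MulAut G).comp Z.subtype)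
      refine sum_eq_zero_of_free (Q := Z) hZp (fun q t => ?_) fun t ht => ?_
      · obtain ⟨hq1, hqK⟩ := hRz q q.2
        obtain ⟨hq1', hqK'⟩ := hRz _ (inv_mem q.2)
        have hmem : ∀ L : Subgroup G, (q : G) ∈ L → (q • t ∈ L ↔ t ∈ L) := fun L hqL => by
          show (q : G) * t * (q : G)⁻¹ ∈ L ↔ _
          rw [L.mul_mem_cancel_right (inv_mem hqL), L.mul_mem_cancel_left hqL]
        by_cases ht : t ∈ H ∧ t ∉ cz z
        · have ht' : q • t ∈ H ∧ q • t ∉ cz z :=
            ⟨(hmem H (hKH hqK)).mpr ht.1, fun h => ht.2 ((hmem _ hqK).mp h)⟩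
          have e1 : (eB M B).coeff (q • t) = (eB M B).coeff t := by
            rw [coeff_eB, coeff_eB]
            exact congrArg _ (isClassFunction_blockCoeff B t q)
          have e2 : R (q • t) = R t := by
            show R ((q : G) * t * (q : G)⁻¹) = R t
            rw [hR _ (H.mul_mem (hKH hqK) ht.1) _ (hKH hqK'), hR _ (hKH hqK) _ ht.1, hq1, hq1',
              one_mul, mul_one]
          simp only [hf, if_pos ht, if_pos ht', e1, e2]
        · have ht' : ¬ (q • t ∈ H ∧ q • t ∉ cz z) := fun h =>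
            ht ⟨(hmem H (hKH hqK)).mp h.1, fun h' => h.2 ((hmem _ hqK).mpr h')⟩
          simp only [hf, if_neg ht, if_neg ht']
      · have htK : t ∈ cz z := fun a ha => mul_inv_eq_iff_eq_mul.mp (ht ⟨a, ha⟩)
        simp only [hf, if_neg fun h : t ∈ H ∧ t ∉ cz z => h.2 htK, Matrix.zero_apply]
    · by_cases htK : t ∈ cz z
      · have htK' : t ∈ Subgroup.centralizer (Z : Set G) := htK
        simp only [hf, if_pos (hKH htK), if_neg fun h : t ∈ H ∧ t ∉ cz z => h.2 htK, map_smul,
          coeff_trunc_of_mem _ htK', R, sub_self]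
      · have htK' : t ∉ Subgroup.centralizer (Z : Set G) := htK
        simp only [hf, coeff_trunc_of_notMem _ htK', zero_smul, map_zero, sub_zero]
        by_cases htH : t ∈ H
        · rw [if_pos htH, if_pos ⟨htH, htK⟩]
        · rw [if_neg htH, if_neg fun h : t ∈ H ∧ t ∉ cz z => htH h.1]
  have hrhs : ∑ t : G with t ∈ H, R t * A * R t⁻¹ = 0 := by
    rw [Finset.sum_filter]
    ext a a'
    rw [Matrix.sum_apply, Matrix.zero_apply]
    refine sum_eq_zero_of_free (Q := Z) hZp (fun q t => ?_) fun t ht => ?_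
    · obtain ⟨hq1, hqK⟩ := hRz q q.2
      obtain ⟨hq1', hqK'⟩ := hRz _ (inv_mem q.2)
      by_cases ht : t ∈ H
      · have ht' : (q • t : G) ∈ H := H.mul_mem (hKH hqK) ht
        rw [if_pos ht, if_pos ht']
        refine congrFun (congrFun ?_ a) a'
        show R ((q : G) * t) * A * R ((q : G) * t)⁻¹ = _
        rw [mul_inv_rev, hR _ (hKH hqK) _ ht, hR _ (inv_mem ht) _ (hKH hqK'), hq1, hq1', one_mul,
          mul_one]
      · have ht' : (q • t : G) ∉ H := fun h => ht ((H.mul_mem_cancel_left (hKH hqK)).mp h)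
        rw [if_neg ht, if_neg ht']
    · exfalso
      have h : z * t = t := ht ⟨z, Subgroup.mem_zpowers z⟩
      have h1 : z = 1 := by simpa using h
      rw [h1, orderOf_one] at hzp
      exact hp.ne_one hzp.symm
  rw [hlhs, hrhs] at hA
  exact one_ne_zero hA

set_option maxHeartbeats 800000 in
/-- The inertial index is at most the rank of the block. -/
theorem le_blockRank (hM : IsPModular p M) (hB : IsPBlock M B)
    (hmax : IsMaximalBrauerPair p M B P c) (hcyc : IsCyclic P) (hP1 : P ≠ ⊥) {e : ℕ}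
    (he : (Subgroup.centralizer (P : Set G)).relIndex (blockT P c) = e) :
    e ≤ blockRank p B := by
  classical
  have hp := hM.1
  have : Fact p.Prime := ⟨hp⟩
  have := charP_resField hM
  obtain ⟨x, hx, hx1⟩ : ∃ x ∈ P, x ≠ 1 := by
    by_contra h
    push Not at h
    exact hP1 (Subgroup.eq_bot_iff_forall _ |>.mpr h)
  obtain ⟨k, hk⟩ := IsPGroup.iff_orderOf.mp hmax.1.1.1 ⟨x, hx⟩
  rw [Subgroup.orderOf_mk] at hk
  have hk1 : k ≠ 0 := fun h => hx1 (orderOf_eq_one_iff.mp (by rw [hk, h, pow_zero]))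
  obtain ⟨z, hz, hzp⟩ : ∃ z ∈ P, orderOf z = p := ⟨x ^ p ^ (k - 1), pow_mem hx _, by
    rw [orderOf_pow_of_dvd (pow_ne_zero _ hp.ne_zero) (hk ▸ pow_dvd_pow p (Nat.sub_le k 1)),
      hk, Nat.pow_div (Nat.sub_le k 1) hp.pos, show k - (k - 1) = 1 by omega, pow_one]⟩
  let : Fintype (cz z) := Fintype.ofFinite _
  obtain ⟨hek, ⟨D⟩⟩ := nonempty_twistData hM hmax hcyc hz hzp he
  obtain ⟨-, hrel, -⟩ := exists_stab_generator hM hmax hcyc hz hzp he
  obtain ⟨β, hTr⟩ := traceData_section hM hmax hcyc hz hzp (by rw [hrel]; exact hek)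
  rw [← mapK_eB] at hTr
  obtain ⟨r, m, hm, π, N, hπs, hN⟩ := exists_simples M G
  have hpair : trunc (Subgroup.zpowers z) (eB M B) *
      mapK M (cz z).subtype (eB M (FreeQuot.bk p M P c z)) =
      mapK M (cz z).subtype (eB M (FreeQuot.bk p M P c z)) := by
    rw [mapK_eB]
    exact trunc_eB_mul hM (FreeQuot.bk_pairOf hM hmax hz)
  have : NeZero (e : ResField M) := ⟨hek⟩
  obtain ⟨ζ, hζ⟩ := HasEnoughRootsOfUnity.exists_primitiveRoot (ResField M) e
  have hω : ∀ j : Fin e, (ζ ^ (j : ℕ)) ^ e = 1 := fun j => by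
    rw [← pow_mul, mul_comm, pow_mul, hζ.pow_eq_one, one_pow]
  choose i hi f hf hnf using fun j : Fin e =>
    exists_nontrace_of_twist hM hB hzp centralizer_le_blockT hpair D (hω j) π hπs hN
  have hinj : Function.Injective fun j => (⟨i j, hi j⟩ : {i : Fin r // π (eB M B) i = 1}) := by
    intro j j' hjj
    by_contra hne
    have hωne : ζ ^ (j : ℕ) ≠ ζ ^ (j' : ℕ) := fun h => hne (Fin.ext (hζ.pow_inj j.2 j'.2 h))
    have hii : i j' = i j := (congrArg Subtype.val hjj).symm
    obtain ⟨f', hf', hnf'⟩ : ∃ f' : Matrix (Fin (D.L.U.n + 1)) (Fin (m (i j))) (ResField M),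
        (∀ t ∈ blockT (Subgroup.zpowers z) (FreeQuot.bk p M P c z),
          f' * π (single t 1) (i j) = D.rep (ζ ^ (j' : ℕ)) (of (ResField M) G t) * f') ∧
        ¬ ∃ g : Matrix (Fin (D.L.U.n + 1)) (Fin (m (i j))) (ResField M),
          f' = ∑ t : G with t ∈ blockT (Subgroup.zpowers z) (FreeQuot.bk p M P c z),
            D.rep (ζ ^ (j' : ℕ)) (of (ResField M) G t) * g * π (single t⁻¹ 1) (i j) :=
      hii ▸ ⟨f j', hf j', hnf j'⟩
    haveI := hm (i j)
    let Φ : KG M G →ₐ[ResField M] Module.End (ResField M) (Fin (m (i j)) → ResField M) :=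
      (Matrix.toLinAlgEquiv' (R := ResField M) (n := Fin (m (i j)))).toAlgHom.comp
        ((Pi.evalAlgHom (ResField M) (fun i => Matrix (Fin (m i)) (Fin (m i)) (ResField M)) (i j)).comp π)
    have hΦs : Function.Surjective Φ := fun T => by
      obtain ⟨X', rfl⟩ := (Matrix.toLinAlgEquiv' (R := ResField M) (n := Fin (m (i j)))).surjective T
      obtain ⟨a, ha⟩ := hπs (Pi.single (i j) X')
      exact ⟨a, by simp [Φ, ha]⟩
    have hΦ : ∀ g, Φ (of (ResField M) G g) = (π (single g 1) (i j)).mulVecLin := fun g => rfl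
    have hconv : ∀ (ν : ResField M) (F : Matrix (Fin (D.L.U.n + 1)) (Fin (m (i j))) (ResField M)),
        (∀ t ∈ blockT (Subgroup.zpowers z) (FreeQuot.bk p M P c z),
          F * π (single t 1) (i j) = D.rep ν (of (ResField M) G t) * F) →
        ∀ t ∈ blockT (Subgroup.zpowers z) (FreeQuot.bk p M P c z),
          F.mulVecLin ∘ₗ Φ (of (ResField M) G t) =
            (D.rep ν (of (ResField M) G t)).mulVecLin ∘ₗ F.mulVecLin := fun ν F hF t ht => by
      rw [hΦ, ← Matrix.mulVecLin_mul, ← Matrix.mulVecLin_mul, hF t ht]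
    have hback : ∀ (ν : ResField M) (F : Matrix (Fin (D.L.U.n + 1)) (Fin (m (i j))) (ResField M)),
        (∃ g : (Fin (m (i j)) → ResField M) →ₗ[ResField M] (Fin (D.L.U.n + 1) → ResField M),
          F.mulVecLin = ∑ h : G with h ∈ blockT (Subgroup.zpowers z) (FreeQuot.bk p M P c z),
            (D.rep ν (of (ResField M) G h)).mulVecLin ∘ₗ g ∘ₗ Φ (of (ResField M) G h⁻¹)) →
        ∃ g : Matrix (Fin (D.L.U.n + 1)) (Fin (m (i j))) (ResField M),
          F = ∑ t : G with t ∈ blockT (Subgroup.zpowers z) (FreeQuot.bk p M P c z),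
            D.rep ν (of (ResField M) G t) * g * π (single t⁻¹ 1) (i j) := by
      rintro ν F ⟨g, hg⟩
      refine ⟨LinearMap.toMatrix' g, Matrix.toLin'.injective ?_⟩
      rw [map_sum]
      refine hg.trans (Finset.sum_congr rfl fun h _ => ?_)
      rw [Matrix.toLin'_mul, Matrix.toLin'_mul, Matrix.toLin'_toMatrix', hΦ, LinearMap.comp_assoc]
      rfl
    rcases D.twist_unique hek hTr hΦs (hω j) (hω j') hωne (hconv _ _ (hf j)) (hconv _ _ hf') with
      h | h
    · exact hnf j (hback _ _ h)
    · exact hnf' (hback _ _ h)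
  calc e = Nat.card (Fin e) := (Nat.card_fin e).symm
    _ ≤ Nat.card {i : Fin r // π (eB M B) i = 1} := Nat.card_le_card_of_injective _ hinj
    _ ≤ blockRank p B := card_le_blockRank hM hB hm π hπs

end CfsgLib.Blocks.CyclicDefect
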