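import Cfsg.Agent.Lib.Blocks.FreeQuotient.Shape
import Cfsg.Agent.Lib.Blocks.CyclicDefect.LowerBound

/-!
# Blocks with cyclic defect group: the rank, the number and the shape

The rank is the inertial index `e`, the block has `e + (|P| - 1) / e` members, and their columns
have the shape of a Brauer tree block.
-/

set_option autoImplicit false
set_option linter.unusedSectionVars false

namespace CfsgLib.Blocks.CyclicDefect

open Cfsg
open scoped ComplexConjugate CfsgLib.Char

variable {p : ℕ} {M : Ideal AlgInt} [M.IsPrime] {G : Type*} [Group G] [Fintype G] {P : Subgroup G}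
  {c : Set (IrrCharacter (Subgroup.centralizer (P : Set G)))} {B : Set (IrrCharacter G)}

theorem exists_mem_orderOf (hM : IsPModular p M) (hmax : IsMaximalBrauerPair p M B P c)
    (hP1 : P ≠ ⊥) : ∃ z ∈ P, orderOf z = p := by
  have hp := hM.1
  have : Fact p.Prime := ⟨hp⟩
  obtain ⟨x, hx, hx1⟩ := P.bot_or_exists_ne_one.resolve_left hP1
  obtain ⟨k, hk⟩ := IsPGroup.iff_orderOf.mp hmax.1.1.1 ⟨x, hx⟩
  rw [Subgroup.orderOf_mk] at hk
  have hk1 : k ≠ 0 := fun h => hx1 (orderOf_eq_one_iff.mp (by rw [hk, h, pow_zero]))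
  exact ⟨x ^ p ^ (k - 1), pow_mem hx _, by
    rw [orderOf_pow_of_dvd (pow_ne_zero _ hp.ne_zero) (hk ▸ pow_dvd_pow p (Nat.sub_le k 1)),
      hk, Nat.pow_div (Nat.sub_le k 1) hp.pos, show k - (k - 1) = 1 by omega, pow_one]⟩

/-- The inertial index divides `p - 1`. -/
theorem index_dvd (hM : IsPModular p M) (hmax : IsMaximalBrauerPair p M B P c) (hcyc : IsCyclic P)
    (hP1 : P ≠ ⊥) {e : ℕ} (he : (Subgroup.centralizer (P : Set G)).relIndex (blockT P c) = e) :
    e ∣ p - 1 := by
  obtain ⟨z, hz, hzp⟩ := exists_mem_orderOf hM hmax hP1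
  exact (exists_stab_generator hM hmax hcyc hz hzp he).2.2

variable [DecidablePred (· ∈ B)] [Fintype P]

open Classical in
/-- The weights of a block with cyclic defect group. -/
theorem exists_weight_cyclic (hM : IsPModular p M) (hmax : IsMaximalBrauerPair p M B P c)
    (hcyc : IsCyclic P) (hP1 : P ≠ ⊥) : ∃ ω : P → ℂ, FreeQuot.IsColWeight p M P c ω := by
  by_cases hp2 : p = 2
  · refine FreeQuot.exists_colWeight_one hM hmax (comm_of_cyclic hcyc) ?_
    have h := index_dvd hM hmax hcyc hP1 rfl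
    rw [hp2] at h
    exact Nat.dvd_one.mp h
  · obtain ⟨ω, hω, -⟩ := FreeQuot.exists_colWeight_odd hM hp2 hmax (comm_of_cyclic hcyc)
      (free_of_cyclic hM hmax hcyc)
    convert (⟨ω, hω⟩ : ∃ ω : P → ℂ, FreeQuot.IsColWeight p M P c ω)

/-- The rank, the number and the shape. -/
theorem counts (hM : IsPModular p M) (hmax : IsMaximalBrauerPair p M B P c) (hcyc : IsCyclic P)
    (hP1 : P ≠ ⊥) {e : ℕ} (he : (Subgroup.centralizer (P : Set G)).relIndex (blockT P c) = e) :
    blockRank p B = e ∧ Nat.card B = e + (Nat.card P - 1) / e ∧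
      Nat.card (Quotient (FreeQuot.orbitSetoid (A := P) (FreeQuot.inertAut P c))) =
        (Nat.card P - 1) / e ∧
      ∃ (ω : P → ℂ) (exc : Quotient (FreeQuot.orbitSetoid (A := P) (FreeQuot.inertAut P c)) ↪
          {χ // χ ∈ B}) (δ : ℤ) (w : {χ // χ ∈ B} → ℤ),
        FreeQuot.IsColWeight p M P c ω ∧ FreeQuot.IsShape p M P c B ω exc δ w := by
  classical
  have hab := comm_of_cyclic hcyc
  have hfree := free_of_cyclic hM hmax hcyc
  obtain ⟨ω, hω⟩ := exists_weight_cyclic hM hmax hcyc hP1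
  obtain ⟨R, hR⟩ := FreeQuot.exists_isReps (P := P) (c := c)
  have hcardE : Nat.card (FreeQuot.inertAut P c) = e := FreeQuot.card_inertAut.trans he
  obtain ⟨-, hle, hiff⟩ := FreeQuot.counts_le hM hmax hab hfree hP1 hω hR
  have hrank : blockRank p B = e :=
    le_antisymm (hcardE ▸ hle) (le_blockRank hM hmax.1.2.1 hmax hcyc hP1 he)
  have hB := hiff.mpr (hrank.trans hcardE.symm)
  have he0 : 0 < e := hcardE ▸ Nat.card_pos
  have hRc : R.card = (Nat.card P - 1) / e := by
    rw [← FreeQuot.card_reps hM hmax hab hfree hR, he, Nat.mul_div_cancel _ he0]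
  obtain ⟨F, L, -⟩ := FreeQuot.exists_lattice hM hmax hab hfree hP1 hω
  refine ⟨hrank, by rw [hB, hcardE, hRc],
    (FreeQuot.card_orbits_eq hM hmax hab hfree hR L).trans hRc, ?_⟩
  obtain ⟨exc, δ, w, hS⟩ := FreeQuot.exists_shape hM hmax hab hfree hP1 hω hR hB
  exact ⟨ω, exc, δ, w, hω, hS⟩

end CfsgLib.Blocks.CyclicDefect
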