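import Mathlib.LinearAlgebra.Basis.VectorSpace
import Mathlib.LinearAlgebra.FiniteDimensional.Lemmas
import Mathlib.RingTheory.RootsOfUnity.PrimitiveRoots
import Mathlib.Algebra.BigOperators.Fin
import Mathlib.Tactic.Ring

/-!
# Chains of a nilpotent operator with a semisimple operator that scales it

`y` nilpotent and `s ^ e = 1` with `s y = α y s`: the space has a basis of chains `y ^ j (v i)`
starting at eigenvectors of `s`.  For `s = 1` and a space all whose commuting endomorphisms are
scalars up to maps that kill the stable part, the classes of the extensions form at most a line.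
-/

set_option autoImplicit false

namespace CfsgLib.Blocks.CyclicDefect

variable {k V : Type*} [Field k] [AddCommGroup V] [Module k V]

/-- A basis of chains. -/
structure Chains (y s : Module.End k V) (α : k) where
  ι : Type
  [fι : Fintype ι]
  v : ι → V
  L : ι → ℕ
  w : ι → k
  pos : ∀ i, 0 < L i
  eig : ∀ i, s (v i) = w i • v i
  top : ∀ i, (y ^ L i) (v i) = 0
  B : Module.Basis (Σ i, Fin (L i)) k V
  B_apply : ∀ i (j : Fin (L i)), B ⟨i, j⟩ = (y ^ (j : ℕ)) (v i)

attribute [instance] Chains.fι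

/-- The projection on the `w`-eigenspace. -/
noncomputable def eigProj (s : Module.End k V) (e : ℕ) (w : k) : Module.End k V :=
  (e : k)⁻¹ • ∑ j ∈ Finset.range e, w⁻¹ ^ j • s ^ j

section Twisted

variable {y s : Module.End k V} {α : k} {e : ℕ} (hs : s ^ e = 1) (he : (e : k) ≠ 0)
  (hα : α ^ e = 1) (hsy : s * y = α • (y * s))

theorem eigProj_apply (w : k) (x : V) :
    eigProj s e w x = (e : k)⁻¹ • ∑ j ∈ Finset.range e, w⁻¹ ^ j • (s ^ j) x := by
  simp [eigProj, LinearMap.sum_apply]

theorem pow_eig {x : V} {w : k} (h : s x = w • x) (j : ℕ) : (s ^ j) x = w ^ j • x := by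
  induction j with
  | zero => simp
  | succ j ih => rw [pow_succ', Module.End.mul_apply, ih, map_smul, h, smul_smul, pow_succ]

include hs in
theorem eig_pow_eq_one {x : V} (hx : x ≠ 0) {w : k} (h : s x = w • x) : w ^ e = 1 := by
  have h1 := pow_eig h e
  rw [hs, Module.End.one_apply] at h1
  refine smul_left_injective k hx ?_
  show w ^ e • x = (1 : k) • x
  rw [← h1, one_smul]

include hs he in
theorem map_eigProj {w : k} (hw : w ^ e = 1) (x : V) :
    s (eigProj s e w x) = w • eigProj s e w x := by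
  obtain ⟨e', rfl⟩ : ∃ e', e = e' + 1 := ⟨e - 1, (Nat.succ_pred_eq_of_pos
    (Nat.pos_of_ne_zero fun h => he (by simp [h]))).symm⟩
  have hw0 : w ≠ 0 := fun h => by simp [h] at hw
  rw [eigProj_apply, map_smul, map_sum, smul_comm w]
  congr 1
  rw [Finset.smul_sum]
  simp only [map_smul, smul_smul, ← Module.End.mul_apply, ← pow_succ']
  rw [Finset.sum_range_succ, Finset.sum_range_succ' (fun j => (w * w⁻¹ ^ j) • (s ^ j) x), hs]
  congr 1
  · refine Finset.sum_congr rfl fun j _ => ?_
    rw [pow_succ' w⁻¹, ← mul_assoc, mul_inv_cancel₀ hw0, one_mul]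
  · rw [pow_zero, pow_zero, mul_one]
    congr 1
    rw [inv_pow, inv_eq_of_mul_eq_one_right (show w ^ e' * w = 1 by rwa [← pow_succ])]

include he in
theorem eigProj_of_eig {x : V} {w : k} (hw : w ≠ 0) (h : s x = w • x) : eigProj s e w x = x := by
  rw [eigProj_apply, Finset.sum_congr rfl (g := fun _ => x) fun j _ => by
    rw [pow_eig h, smul_smul, ← mul_pow, inv_mul_cancel₀ hw, one_pow, one_smul]]
  rw [Finset.sum_const, Finset.card_range, ← Nat.cast_smul_eq_nsmul k, smul_smul,
    inv_mul_cancel₀ he, one_smul]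

theorem eigProj_mem (U : Submodule k V) (hU : ∀ x ∈ U, s x ∈ U) (w : k) {x : V} (hx : x ∈ U) :
    eigProj s e w x ∈ U := by
  rw [eigProj_apply]
  refine U.smul_mem _ (U.sum_mem fun j hj => U.smul_mem _ ?_)
  clear hj
  induction j with
  | zero => simpa using hx
  | succ j ih => rw [pow_succ', Module.End.mul_apply]; exact hU _ ih

include he in
/-- The eigenvectors of an invariant subspace span it. -/
theorem le_span_eig {ζ : k} (hζ : IsPrimitiveRoot ζ e) (hs : s ^ e = 1) (U : Submodule k V)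
    (hU : ∀ x ∈ U, s x ∈ U) :
    U ≤ Submodule.span k {x | x ∈ U ∧ ∃ w : k, s x = w • x} := by
  intro x hx
  have hsum : ∑ i ∈ Finset.range e, eigProj s e (ζ ^ i) x = x := by
    simp only [eigProj_apply, ← Finset.smul_sum]
    rw [Finset.sum_comm]
    simp only [← Finset.sum_smul]
    rw [Finset.sum_eq_single_of_mem 0 (Finset.mem_range.mpr (Nat.pos_of_ne_zero fun h => he (by
      simp [h]))) fun j hj hj0 => ?_]
    · rw [pow_zero, Module.End.one_apply, Finset.sum_congr rfl (g := fun _ => (1 : k)) fun i _ =>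
        pow_zero _, Finset.sum_const, Finset.card_range, nsmul_eq_mul, mul_one, smul_smul,
        inv_mul_cancel₀ he, one_smul]
    · rw [show ∑ i ∈ Finset.range e, ((ζ ^ i)⁻¹) ^ j = 0 from ?_, zero_smul]
      rw [Finset.sum_congr rfl (g := fun i => ((ζ ^ j)⁻¹) ^ i) fun i _ => by
        rw [inv_pow, inv_pow, ← pow_mul, ← pow_mul, mul_comm]]
      have hne : (ζ ^ j)⁻¹ ≠ 1 := fun h => by
        rw [inv_eq_one, hζ.pow_eq_one_iff_dvd] at h
        exact absurd (Nat.le_of_dvd (Nat.pos_of_ne_zero hj0) h) (by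
          have := Finset.mem_range.mp hj; omega)
      refine (mul_right_inj' (sub_ne_zero.mpr hne)).mp ?_
      rw [mul_geom_sum, mul_zero, inv_pow, ← pow_mul, mul_comm, pow_mul, hζ.pow_eq_one, one_pow,
        inv_one, sub_self]
  rw [← hsum]
  refine Submodule.sum_mem _ fun i _ => Submodule.subset_span
    ⟨eigProj_mem U hU _ hx, ζ ^ i, map_eigProj hs he ?_ x⟩
  rw [← pow_mul, mul_comm, pow_mul, hζ.pow_eq_one, one_pow]

include hsy in
theorem map_pow_eig (j : ℕ) {x : V} {w : k} (h : s x = w • x) :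
    s ((y ^ j) x) = (w * α ^ j) • (y ^ j) x := by
  induction j with
  | zero => simpa using h
  | succ j ih =>
    rw [pow_succ', Module.End.mul_apply, ← Module.End.mul_apply s y, hsy, LinearMap.smul_apply,
      Module.End.mul_apply, ih, map_smul, smul_smul, pow_succ]
    congr 1
    ring

include hsy in
theorem pow_mul_y (j : ℕ) : s ^ j * y = α ^ j • (y * s ^ j) := by
  induction j with
  | zero => simp
  | succ j ih =>
    rw [pow_succ', mul_assoc, ih, mul_smul_comm, ← mul_assoc, hsy, smul_mul_assoc, smul_smul,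
      mul_assoc, ← pow_succ', ← pow_succ]

include hs he hα hsy in
/-- A preimage which is an eigenvector. -/
theorem exists_eig_preimage (U : Submodule k V) (hU : ∀ x ∈ U, s x ∈ U) {x u : V} (hu : u ∈ U)
    (hyu : y u = x) {w : k} (hw : s x = w • x) :
    ∃ u' ∈ U, y u' = x ∧ s u' = (w * α⁻¹) • u' := by
  rcases eq_or_ne x 0 with rfl | hx
  · exact ⟨0, U.zero_mem, map_zero y, by simp⟩
  have hwe := eig_pow_eq_one hs hx hw
  refine ⟨eigProj s e (w * α⁻¹) u, eigProj_mem U hU _ hu, ?_,
    map_eigProj hs he (by rw [mul_pow, inv_pow, hα, hwe, inv_one, one_mul]) u⟩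
  have e0 : e ≠ 0 := fun h => he (by simp [h])
  have hw0 : w ≠ 0 := fun h => by simp [h, e0] at hwe
  have hα0 : α ≠ 0 := fun h => by simp [h, e0] at hα
  conv_rhs => rw [← eigProj_of_eig (e := e) he hw0 hw]
  rw [eigProj_apply, eigProj_apply, map_smul, map_sum]
  congr 1
  refine Finset.sum_congr rfl fun j _ => ?_
  have hsj := LinearMap.congr_fun (pow_mul_y hsy j) u
  rw [Module.End.mul_apply, LinearMap.smul_apply, Module.End.mul_apply, hyu] at hsj
  rw [map_smul, hsj, smul_smul]
  congr 1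
  rw [mul_inv, inv_inv, mul_pow]

variable [FiniteDimensional k V] (hy : IsNilpotent y)

include hs he hα hsy hy in
theorem exists_chains_on {ζ : k} (hζ : IsPrimitiveRoot ζ e) (U : Submodule k V)
    (hUy : ∀ x ∈ U, y x ∈ U) (hUs : ∀ x ∈ U, s x ∈ U) :
    ∃ (ι : Type) (_ : Fintype ι) (v : ι → V) (L : ι → ℕ) (w : ι → k), (∀ i, 0 < L i) ∧
      (∀ i, s (v i) = w i • v i) ∧ (∀ i, (y ^ L i) (v i) = 0) ∧
      LinearIndependent k (fun x : Σ i, Fin (L i) => (y ^ (x.2 : ℕ)) (v x.1)) ∧
      Submodule.span k (Set.range fun x : Σ i, Fin (L i) => (y ^ (x.2 : ℕ)) (v x.1)) = U := by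
  classical
  induction hn : Module.finrank k U using Nat.strong_induction_on generalizing U with
  | _ n ih =>
  subst hn
  rcases eq_or_ne U ⊥ with rfl | hU0
  · haveI : IsEmpty (Σ i : Empty, Fin ((Empty.elim : Empty → ℕ) i)) := ⟨fun x => x.1.elim⟩
    refine ⟨Empty, inferInstance, Empty.elim, Empty.elim, Empty.elim, fun i => i.elim,
      fun i => i.elim, fun i => i.elim, linearIndependent_empty_type, ?_⟩
    rw [Set.range_eq_empty, Submodule.span_empty]
  set U' := U.map y
  have hU'le : U' ≤ U := Submodule.map_le_iff_le_comap.mpr hUy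
  have hlt : U' < U := by
    refine lt_of_le_of_ne hU'le fun heq => hU0 ?_
    obtain ⟨N, hN⟩ := hy
    have h : ∀ j, ∀ x ∈ U, ∃ z ∈ U, (y ^ j) z = x := fun j => by
      induction j with
      | zero => exact fun x hx => ⟨x, hx, rfl⟩
      | succ j ihj =>
        intro x hx
        obtain ⟨z, hz, rfl⟩ := ihj x hx
        obtain ⟨z', hz', rfl⟩ := (heq ▸ hz : z ∈ U')
        exact ⟨z', hz', by rw [pow_succ, Module.End.mul_apply]⟩
    rw [Submodule.eq_bot_iff]
    intro x hx
    obtain ⟨z, -, rfl⟩ := h N x hx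
    rw [hN]
    rfl
  have hU'y : ∀ x ∈ U', y x ∈ U' := fun x hx =>
    Submodule.mem_map.mpr ⟨x, hU'le hx, rfl⟩
  have hU's : ∀ x ∈ U', s x ∈ U' := by
    rintro _ ⟨u, hu, rfl⟩
    refine Submodule.mem_map.mpr ⟨α • s u, U.smul_mem _ (hUs u hu), ?_⟩
    rw [map_smul]
    exact (LinearMap.congr_fun hsy u).symm
  obtain ⟨ι, _, v, L, w, hpos, heig, htop, hind, hspan⟩ :=
    ih _ (Submodule.finrank_lt_finrank_of_lt hlt) U' hU'y hU's rfl
  have hv : ∀ i, ∃ u ∈ U, y u = v i ∧ s u = (w i * α⁻¹) • u := fun i => by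
    have hvi : v i ∈ U' := hspan ▸ Submodule.subset_span ⟨⟨i, 0, hpos i⟩, by simp⟩
    obtain ⟨u, hu, hyu⟩ := hvi
    exact exists_eig_preimage hs he hα hsy U hUs hu hyu (heig i)
  choose u huU hyu hus using hv
  have hpow : ∀ i j, (y ^ (j + 1)) (u i) = (y ^ j) (v i) := fun i j => by
    rw [pow_succ, Module.End.mul_apply, hyu]
  set W : Submodule k V := U ⊓ LinearMap.ker y
  have hWs : ∀ x ∈ W, s x ∈ W := fun x hx => by
    refine ⟨hUs x hx.1, ?_⟩
    have h1 := LinearMap.congr_fun hsy x
    rw [Module.End.mul_apply, LinearMap.smul_apply, Module.End.mul_apply, LinearMap.mem_ker.mp hx.2,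
      map_zero] at h1
    rw [SetLike.mem_coe, LinearMap.mem_ker]
    refine (smul_eq_zero.mp h1.symm).resolve_left fun h0 => ?_
    have e0 : e ≠ 0 := fun h => he (by simp [h])
    simp [h0, e0] at hα
  set ℓ : ι → V := fun i => (y ^ L i) (u i)
  have hℓind : LinearIndependent k ℓ := by
    have heq : ℓ = (fun x : Σ i, Fin (L i) => (y ^ (x.2 : ℕ)) (v x.1)) ∘
        fun i => ⟨i, L i - 1, Nat.sub_lt (hpos i) one_pos⟩ := funext fun i => by
      simp only [ℓ, Function.comp_apply, ← hpow]
      rw [Nat.sub_add_cancel (show 1 ≤ L i from hpos i)]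
    rw [heq]
    exact hind.comp _ fun a b h => (Sigma.mk.inj_iff.mp h).1
  have hℓsub : Set.range ℓ ⊆ {x | x ∈ W ∧ ∃ w : k, s x = w • x} := by
    rintro _ ⟨i, rfl⟩
    refine ⟨⟨?_, ?_⟩, _, map_pow_eig hsy (L i) (hus i)⟩
    · obtain ⟨j, hj⟩ := Nat.exists_eq_succ_of_ne_zero (hpos i).ne'
      simp only [ℓ, hj, Nat.succ_eq_add_one, hpow]
      exact hU'le (hspan ▸ Submodule.subset_span ⟨⟨i, j, by omega⟩, rfl⟩)
    · rw [SetLike.mem_coe, LinearMap.mem_ker]
      simp only [ℓ, ← Module.End.mul_apply, ← pow_succ', hpow, htop]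
  obtain ⟨b, hbt, hsb, htb, hbind⟩ := exists_linearIndepOn_extension (v := (id : V → V))
    hℓind.linearIndepOn_id hℓsub
  rw [Set.image_id, Set.image_id] at htb
  have hbfin : b.Finite := hbind.setFinite
  let n := (hbfin.sdiff (t := Set.range ℓ)).toFinset.card
  let ek : Fin n ≃ (hbfin.sdiff (t := Set.range ℓ)).toFinset :=
    (Finset.equivFin _).symm
  let x : Fin n → V := fun c => (ek c : V)
  have hx : ∀ c, x c ∈ b ∧ x c ∉ Set.range ℓ := fun c => by
    have := (hbfin.sdiff (t := Set.range ℓ)).mem_toFinset.mp (ek c).2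
    exact this
  have hxinj : Function.Injective x := Subtype.val_injective.comp ek.injective
  have hxsurj : ∀ z ∈ b, z ∈ Set.range ℓ ∨ z ∈ Set.range x := fun z hz => by
    by_cases h : z ∈ Set.range ℓ
    · exact Or.inl h
    · exact Or.inr ⟨ek.symm ⟨z, (hbfin.sdiff).mem_toFinset.mpr ⟨hz, h⟩⟩, by simp [x]⟩
  have hind2 : LinearIndependent k (Sum.elim ℓ x) := by
    have h : ∀ z, Sum.elim ℓ x z ∈ b := by
      rintro (i | c)
      exacts [hsb ⟨i, rfl⟩, (hx c).1]
    refine (hbind.linearIndependent.comp (fun z => (⟨_, h z⟩ : b)) ?_)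
    intro z z' hzz
    have hzz' := congrArg Subtype.val hzz
    rcases z with i | c <;> rcases z' with i' | c' <;>
      simp only [Sum.elim_inl, Sum.elim_inr] at hzz'
    · exact congrArg _ (hℓind.injective hzz')
    · exact absurd ⟨i, hzz'⟩ (hx c').2
    · exact absurd ⟨i', hzz'.symm⟩ (hx c).2
    · exact congrArg _ (hxinj hzz')
  have heigx : ∀ c, ∃ w : k, s (x c) = w • x c := fun c => (hbt (hx c).1).2
  choose wx hwx using heigx
  refine ⟨ι ⊕ Fin n, inferInstance, Sum.elim u x, Sum.elim (fun i => L i + 1) (fun _ => 1),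
    Sum.elim (fun i => w i * α⁻¹) wx, fun z => by rcases z with i | c <;> simp,
    fun z => by rcases z with i | c <;> simp [hus, hwx], fun z => ?_, ?_, ?_⟩
  · rcases z with i | c
    · simp only [Sum.elim_inl, hpow, htop]
    · simpa using LinearMap.mem_ker.mp (hbt (hx c).1).1.2
  · rw [Fintype.linearIndependent_iff]
    intro a ha
    rw [Fintype.sum_sigma, Fintype.sum_sum_type] at ha
    replace ha : (∑ i, ∑ j : Fin (L i + 1), a ⟨Sum.inl i, j⟩ • (y ^ (j : ℕ)) (u i)) +
        ∑ c, ∑ j : Fin 1, a ⟨Sum.inr c, j⟩ • (y ^ (j : ℕ)) (x c) = 0 := ha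
    simp only [Fin.sum_univ_one, Fin.val_zero, pow_zero, Module.End.one_apply] at ha
    simp only [Fin.sum_univ_castSucc, Fin.val_castSucc, Fin.val_last] at ha
    have hker : ∀ c, y (x c) = 0 := fun c => LinearMap.mem_ker.mp (hbt (hx c).1).1.2
    have hy0 := congrArg y ha
    simp only [map_add, map_sum, map_smul, ← Module.End.mul_apply, ← pow_succ', hpow, htop,
      smul_zero, add_zero, map_zero, hker, Finset.sum_const_zero] at hy0
    have hlow := Fintype.linearIndependent_iff.mp hind
      (fun z => a ⟨Sum.inl z.1, Fin.castSucc z.2⟩) (by rw [Fintype.sum_sigma]; exact hy0)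
    simp only [hlow ⟨_, _⟩, zero_smul, Finset.sum_const_zero, zero_add] at ha
    have hhi := Fintype.linearIndependent_iff.mp hind2
      (Sum.elim (fun i => a ⟨Sum.inl i, Fin.last _⟩) (fun c => a ⟨Sum.inr c, (0 : Fin 1)⟩)) (by
        rw [Fintype.sum_sum_type]
        simpa [ℓ] using ha)
    rintro ⟨i | c, j⟩
    · induction j using Fin.lastCases with
      | last => exact hhi (Sum.inl i)
      | cast j => exact hlow ⟨i, j⟩
    · have : j = (0 : Fin 1) := Subsingleton.elim (α := Fin 1) _ _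
      rw [this]
      exact hhi (Sum.inr c)
  · refine le_antisymm (Submodule.span_le.mpr ?_) ?_
    · rintro _ ⟨⟨i | c, j⟩, rfl⟩
      · show (y ^ (j : ℕ)) (u i) ∈ U
        induction (j : ℕ) with
        | zero => exact huU i
        | succ m ihm => rw [pow_succ', Module.End.mul_apply]; exact hUy _ ihm
      · have : j = (0 : Fin 1) := Subsingleton.elim (α := Fin 1) _ _
        subst this
        show (y ^ 0) (x c) ∈ U
        simpa using (hbt (hx c).1).1.1
    · intro z hz
      have hyz : y z ∈ U' := Submodule.mem_map.mpr ⟨z, hz, rfl⟩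
      rw [← hspan, Submodule.mem_span_range_iff_exists_fun] at hyz
      obtain ⟨a, ha⟩ := hyz
      set z₀ := ∑ q : Σ i, Fin (L i), a q • (y ^ (q.2 : ℕ)) (u q.1)
      have hz₀ : y z₀ = y z := by
        rw [← ha, map_sum]
        refine Finset.sum_congr rfl fun q _ => ?_
        rw [map_smul, ← Module.End.mul_apply, ← pow_succ', hpow]
      set T := Submodule.span k (Set.range fun q : Σ z : ι ⊕ Fin n,
        Fin (Sum.elim (fun i => L i + 1) (fun _ => 1) z) => (y ^ (q.2 : ℕ)) (Sum.elim u x q.1))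
      have hlT : ∀ q : Σ i, Fin (L i), (y ^ (q.2 : ℕ)) (u q.1) ∈ T := fun q =>
        Submodule.subset_span ⟨⟨Sum.inl q.1, Fin.castSucc q.2⟩, rfl⟩
      have hbT : b ⊆ (T : Set V) := fun q hq => by
        rcases hxsurj q hq with ⟨i, rfl⟩ | ⟨c, rfl⟩
        · exact Submodule.subset_span ⟨⟨Sum.inl i, Fin.last _⟩, rfl⟩
        · exact Submodule.subset_span ⟨⟨Sum.inr c, (0 : Fin 1)⟩, by simp⟩
      have hz₀U : z₀ ∈ U := Submodule.sum_mem _ fun q _ => U.smul_mem _ (by
        induction (q.2 : ℕ) with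
        | zero => exact huU _
        | succ m ihm => rw [pow_succ', Module.End.mul_apply]; exact hUy _ ihm)
      have hW : z - z₀ ∈ W := ⟨U.sub_mem hz hz₀U, by
        rw [SetLike.mem_coe, LinearMap.mem_ker, map_sub, hz₀, sub_self]⟩
      have hzb : z - z₀ ∈ T := Submodule.span_le.mpr hbT
        (Submodule.span_le.mpr htb (le_span_eig he hζ hs W hWs hW))
      rw [show z = z - z₀ + z₀ by abel]
      exact T.add_mem hzb (T.sum_mem fun q _ => T.smul_mem _ (hlT q))

include hs he hα hsy hy in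
/-- The chains. -/
theorem exists_chains {ζ : k} (hζ : IsPrimitiveRoot ζ e) : Nonempty (Chains y s α) := by
  obtain ⟨ι, _, v, L, w, hpos, heig, htop, hind, hspan⟩ :=
    exists_chains_on hs he hα hsy hy hζ ⊤ (fun _ _ => trivial) (fun _ _ => trivial)
  exact ⟨{ ι := ι, v := v, L := L, w := w, pos := hpos, eig := heig, top := htop
           B := Module.Basis.mk hind hspan.ge
           B_apply := fun i j => Module.Basis.mk_apply _ _ _ }⟩

end Twisted

namespace Chains

variable {y s : Module.End k V} {α : k} (C : Chains y s α)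

theorem y_B (i : C.ι) (j : Fin (C.L i)) :
    y (C.B ⟨i, j⟩) = if h : (j : ℕ) + 1 < C.L i then C.B ⟨i, ⟨j + 1, h⟩⟩ else 0 := by
  rw [C.B_apply, ← Module.End.mul_apply, ← pow_succ']
  split_ifs with h
  · rw [C.B_apply]
  · rw [show (j : ℕ) + 1 = C.L i from le_antisymm j.2 (not_lt.mp h), C.top]

open Classical in
/-- The projection on the chains selected by `S`. -/
noncomputable def proj (S : C.ι → Prop) : Module.End k V :=
  C.B.constr k fun x => if S x.1 then C.B x else 0

open Classical in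
theorem proj_B (S : C.ι → Prop) (x : Σ i, Fin (C.L i)) :
    C.proj S (C.B x) = if S x.1 then C.B x else 0 := by
  rw [proj]
  exact Module.Basis.constr_basis _ _ _ _

theorem proj_v (S : C.ι → Prop) (i : C.ι) [Decidable (S i)] :
    C.proj S (C.v i) = if S i then C.v i else 0 := by
  classical
  have h : C.B ⟨i, 0, C.pos i⟩ = C.v i := by simp [C.B_apply]
  rw [← h, C.proj_B]
  congr

theorem proj_comm_y (S : C.ι → Prop) : C.proj S * y = y * C.proj S := by
  classical
  refine C.B.ext fun ⟨i, j⟩ => ?_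
  rw [Module.End.mul_apply, Module.End.mul_apply, C.proj_B, y_B]
  by_cases hS : S i
  · rw [if_pos hS, y_B]
    split_ifs with h
    · rw [C.proj_B, if_pos hS]
    · rw [map_zero]
  · rw [if_neg hS, map_zero]
    split_ifs with h
    · rw [C.proj_B, if_neg hS]
    · rw [map_zero]

theorem proj_comm_s (hsy : s * y = α • (y * s)) (S : C.ι → Prop) :
    C.proj S * s = s * C.proj S := by
  classical
  refine C.B.ext fun ⟨i, j⟩ => ?_
  have h : s (C.B ⟨i, j⟩) = (C.w i * α ^ (j : ℕ)) • C.B ⟨i, j⟩ := by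
    rw [C.B_apply]
    exact map_pow_eig hsy j (C.eig i)
  rw [Module.End.mul_apply, Module.End.mul_apply, C.proj_B, h, map_smul, C.proj_B]
  by_cases hS : S i
  · rw [if_pos hS, h]
  · rw [if_neg hS, smul_zero, map_zero]

open Classical in
/-- Two maps to different eigen-lines are separated by a projection. -/
theorem separate {W : Type*} [AddCommGroup W] [Module k W] {ω ω' : k} (hne : ω ≠ ω')
    {f f' : V →ₗ[k] W} (hfy : ∀ x, f (y x) = 0) (hfy' : ∀ x, f' (y x) = 0)
    (hfs : ∀ x, f (s x) = ω • f x) (hfs' : ∀ x, f' (s x) = ω' • f' x) :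
    f ∘ₗ C.proj (fun i => C.w i = ω) = f ∧ f' ∘ₗ C.proj (fun i => C.w i = ω) = 0 := by
  have key : ∀ {g : V →ₗ[k] W} {μ : k}, (∀ x, g (y x) = 0) → (∀ x, g (s x) = μ • g x) →
      ∀ z : Σ i, Fin (C.L i), g (C.B z) ≠ 0 → C.w z.1 = μ := by
    rintro g μ hgy hgs ⟨i, ⟨j, hj⟩⟩ hne0
    rcases j with _ | j
    · rw [C.B_apply] at hne0
      simp only [pow_zero, Module.End.one_apply] at hne0
      have := hgs (C.v i)
      rw [C.eig, map_smul] at this
      exact smul_left_injective k hne0 this
    · rw [C.B_apply] at hne0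
      simp only [pow_succ', Module.End.mul_apply, hgy, ne_eq, not_true_eq_false] at hne0
  constructor
  · refine C.B.ext fun z => ?_
    rw [LinearMap.comp_apply, C.proj_B]
    split_ifs with h
    · rfl
    · rw [map_zero]
      by_contra hcon
      exact h (key hfy hfs z (Ne.symm hcon))
  · refine C.B.ext fun z => ?_
    rw [LinearMap.comp_apply, C.proj_B, LinearMap.zero_apply]
    split_ifs with h
    · by_contra hcon
      exact hne (h.symm.trans (key hfy' hfs' z hcon))
    · exact map_zero _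

theorem repr_pow_eq_zero (m : ℕ) (z : V) (i : C.ι) (j : Fin (C.L i)) (hj : (j : ℕ) < m) :
    C.B.repr ((y ^ m) z) ⟨i, j⟩ = 0 := by
  classical
  induction m generalizing z j with
  | zero => exact absurd hj (Nat.not_lt_zero _)
  | succ m ih =>
    have h : ∀ x, C.B.repr ((y ^ (m + 1)) (C.B x)) ⟨i, j⟩ = 0 := fun ⟨i', j'⟩ => by
      rw [C.B_apply, ← Module.End.mul_apply, ← pow_add]
      by_cases h : m + 1 + (j' : ℕ) < C.L i'
      · rw [show (y ^ (m + 1 + (j' : ℕ))) (C.v i') = C.B ⟨i', ⟨_, h⟩⟩ by rw [C.B_apply],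
          Module.Basis.repr_self, Finsupp.single_apply, if_neg]
        intro e
        obtain ⟨rfl, e2⟩ := Sigma.mk.inj_iff.mp e
        have := congrArg Fin.val (eq_of_heq e2)
        simp only at this
        omega
      · obtain ⟨r, hr⟩ := Nat.exists_eq_add_of_le (not_lt.mp h)
        rw [hr, add_comm, pow_add, Module.End.mul_apply, C.top, map_zero, map_zero,
          Finsupp.zero_apply]
    rw [← C.B.sum_repr z, map_sum, map_sum, Finsupp.finsetSum_apply]
    exact Finset.sum_eq_zero fun x _ => by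
      rw [map_smul, map_smul, Finsupp.smul_apply, h, smul_zero]

theorem repr_v [DecidableEq C.ι] (i i' : C.ι) (j : Fin (C.L i)) :
    C.B.repr (C.v i') ⟨i, j⟩ = if i' = i ∧ (j : ℕ) = 0 then 1 else 0 := by
  classical
  have h : C.B ⟨i', 0, C.pos i'⟩ = C.v i' := by simp [C.B_apply]
  rw [← h, Module.Basis.repr_self, Finsupp.single_apply]
  by_cases hi : i' = i
  · subst hi
    by_cases hj : (j : ℕ) = 0
    · rw [if_pos (show (⟨i', 0, C.pos i'⟩ : Σ i, Fin (C.L i)) = ⟨i', j⟩ from
        congrArg (Sigma.mk i') (Fin.ext hj.symm)), if_pos ⟨rfl, hj⟩]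
    · rw [if_neg (show (⟨i', 0, C.pos i'⟩ : Σ i, Fin (C.L i)) ≠ ⟨i', j⟩ from fun e =>
        hj (congrArg Fin.val (eq_of_heq (Sigma.mk.inj_iff.mp e).2)).symm),
        if_neg (fun h => hj h.2)]
  · rw [if_neg (show (⟨i', 0, C.pos i'⟩ : Σ i, Fin (C.L i)) ≠ ⟨i, j⟩ from fun e =>
      hi (Sigma.mk.inj_iff.mp e).1), if_neg (fun h => hi h.1)]

end Chains

/-- A map that kills the part without free summands. -/
def Small (y : Module.End k V) (N : ℕ) (f : Module.End k V) : Prop :=
  ∀ m ≤ N, ∀ z, (y ^ m) z = 0 → ∃ z', (y ^ (N - m)) z' = f z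

/-- A cocycle. -/
def IsCocycle (y : Module.End k V) (N : ℕ) (φ : Module.End k V) : Prop :=
  ∑ m ∈ Finset.range N, y ^ m * φ * y ^ (N - 1 - m) = 0

variable [FiniteDimensional k V] {y : Module.End k V} {N : ℕ}

/-- When commuting endomorphisms are scalars up to small maps, extensions form a line. -/
theorem exists_combination_coboundary (hyN : y ^ N = 0)
    (hend : ∀ π : Module.End k V, π * y = y * π → ∃ c : k, Small y N (π - c • 1))
    {φ ψ : Module.End k V} (hφ : IsCocycle y N φ) (hψ : IsCocycle y N ψ) :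
    ∃ a b : k, (a ≠ 0 ∨ b ≠ 0) ∧ ∃ h : Module.End k V, a • φ + b • ψ = y * h - h * y := by
  classical
  obtain ⟨C⟩ := exists_chains (y := y) (s := 1) (α := 1) (e := 1) (pow_one _)
    (by simp) (one_pow _) (by simp) ⟨N, hyN⟩ IsPrimitiveRoot.one
  have hLN : ∀ i, C.L i ≤ N := fun i => by
    by_contra h
    rw [not_le] at h
    have h1 := C.B.ne_zero ⟨i, ⟨N, h⟩⟩
    rw [C.B_apply, hyN] at h1
    exact h1 rfl
  -- at most one short chain
  have huniq : ∀ i i', C.L i < N → C.L i' < N → i = i' := by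
    intro i i' hi hi'
    by_contra hne
    obtain ⟨c, hc⟩ := hend (C.proj fun z => z = i) (C.proj_comm_y _)
    have hcoef : ∀ z, C.L z < N →
        C.B.repr ((C.proj (fun z => z = i) - c • 1) (C.v z)) ⟨z, 0, C.pos z⟩ = 0 := fun z hz => by
      obtain ⟨z', hz'⟩ := hc _ hz.le (C.v z) (C.top z)
      rw [← hz']
      exact C.repr_pow_eq_zero _ _ _ _ (by show 0 < N - C.L z; omega)
    have h1 := hcoef i hi
    have h2 := hcoef i' hi'
    rw [LinearMap.sub_apply, LinearMap.smul_apply, Module.End.one_apply, C.proj_v, map_sub,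
      map_smul, Finsupp.sub_apply, Finsupp.smul_apply] at h1 h2
    rw [if_pos rfl, C.repr_v, if_pos ⟨rfl, rfl⟩, smul_eq_mul, mul_one, sub_eq_zero] at h1
    rw [if_neg (Ne.symm hne), map_zero, Finsupp.zero_apply, C.repr_v, if_pos ⟨rfl, rfl⟩,
      smul_eq_mul, mul_one, zero_sub, neg_eq_zero] at h2
    exact one_ne_zero (h1.trans h2)
  have hlen : ∀ i, C.L i < N → C.L i = 1 ∨ C.L i + 1 = N := by
    intro i hi
    by_contra hcon
    push Not at hcon
    obtain ⟨c, hc⟩ := hend (y * C.proj fun z => z = i) (by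
      rw [mul_assoc, C.proj_comm_y])
    obtain ⟨z', hz'⟩ := hc _ hi.le (C.v i) (C.top i)
    have h2 : 1 < C.L i := by have := C.pos i; omega
    have hy1 : y (C.v i) = C.B ⟨i, 1, h2⟩ := by rw [C.B_apply, pow_one]
    have e1 := C.repr_pow_eq_zero (N - C.L i) z' i ⟨1, h2⟩ (by show 1 < N - C.L i; omega)
    rw [hz', LinearMap.sub_apply, Module.End.mul_apply, C.proj_v, if_pos rfl, LinearMap.smul_apply,
      Module.End.one_apply, map_sub, map_smul, Finsupp.sub_apply, Finsupp.smul_apply, hy1,
      Module.Basis.repr_self, Finsupp.single_eq_same, C.repr_v, if_neg (by simp), smul_zero,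
      sub_zero] at e1
    exact one_ne_zero e1
  let Ψ : Module.End k V → C.ι → V := fun φ i =>
    ∑ m ∈ Finset.range (C.L i), (y ^ m * φ * y ^ (C.L i - 1 - m)) (C.v i)
  have hker : ∀ χ, IsCocycle y N χ → ∀ i, (y ^ (N - C.L i)) (Ψ χ i) = 0 := fun χ hχ i => by
    have h := LinearMap.congr_fun hχ (C.v i)
    rw [LinearMap.sum_apply, LinearMap.zero_apply,
      show N = (N - C.L i) + C.L i by have := hLN i; omega, Finset.sum_range_add,
      Finset.sum_eq_zero (s := Finset.range (N - C.L i)) fun m hm => by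
        rw [show N - C.L i + C.L i - 1 - m = (N - C.L i - 1 - m) + C.L i by
          have := Finset.mem_range.mp hm; have := hLN i; omega]
        simp only [pow_add, Module.End.mul_apply, C.top, map_zero], zero_add] at h
    rw [← h, map_sum]
    refine Finset.sum_congr rfl fun m hm => ?_
    rw [← Module.End.mul_apply, ← mul_assoc, ← mul_assoc, ← pow_add,
      show N - C.L i + C.L i - 1 - (N - C.L i + m) = C.L i - 1 - m by
        have := Finset.mem_range.mp hm; omega]
  -- one coefficient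
  obtain ⟨F, hF⟩ : ∃ F : (C.ι → V) →ₗ[k] k, ∀ Z : C.ι → V,
      (∀ i, (y ^ (N - C.L i)) (Z i) = 0) → F Z = 0 → ∀ i, ∃ z, (y ^ C.L i) z = Z i := by
    have hrep : ∀ (Z : C.ι → V) (i : C.ι), (y ^ (N - C.L i)) (Z i) = 0 →
        (∀ i' (j : Fin (C.L i')), (j : ℕ) < C.L i → C.L i' - (N - C.L i) ≤ (j : ℕ) →
          C.B.repr (Z i) ⟨i', j⟩ = 0) → ∃ z, (y ^ C.L i) z = Z i := by
      intro Z i h0 hz
      refine ⟨∑ x : Σ i, Fin (C.L i), if (C.L i) ≤ (x.2 : ℕ) then
        C.B.repr (Z i) x • (y ^ ((x.2 : ℕ) - C.L i)) (C.v x.1) else 0, ?_⟩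
      conv_rhs => rw [← C.B.sum_repr (Z i)]
      rw [map_sum]
      refine Finset.sum_congr rfl fun ⟨i', j⟩ _ => ?_
      split_ifs with hj
      · rw [map_smul, ← Module.End.mul_apply, ← pow_add,
          show C.L i + ((j : ℕ) - C.L i) = j by simp only at hj; omega, C.B_apply]
      · rw [map_zero]
        simp only [not_le] at hj
        by_cases hlow : C.L i' - (N - C.L i) ≤ (j : ℕ)
        · rw [hz i' j hj hlow, zero_smul]
        · rw [not_le] at hlow
          have h1 : C.B.repr ((y ^ (N - C.L i)) (Z i)) ⟨i', ⟨j + (N - C.L i), by omega⟩⟩ =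
              C.B.repr (Z i) ⟨i', j⟩ := by
            conv_lhs => rw [← C.B.sum_repr (Z i)]
            rw [map_sum, map_sum, Finsupp.finsetSum_apply,
              Finset.sum_eq_single_of_mem (⟨i', j⟩ : Σ i, Fin (C.L i)) (Finset.mem_univ _)]
            · rw [map_smul, C.B_apply, ← Module.End.mul_apply, ← pow_add, map_smul,
                Finsupp.smul_apply]
              rw [show (y ^ (N - C.L i + (j : ℕ))) (C.v i') =
                C.B ⟨i', ⟨j + (N - C.L i), by omega⟩⟩ by rw [C.B_apply, add_comm],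
                Module.Basis.repr_self, Finsupp.single_eq_same, smul_eq_mul, mul_one]
            · rintro ⟨i'', j''⟩ _ hne
              rw [map_smul, C.B_apply, ← Module.End.mul_apply, ← pow_add, map_smul,
                Finsupp.smul_apply]
              by_cases hlt : N - C.L i + (j'' : ℕ) < C.L i''
              · rw [show (y ^ (N - C.L i + (j'' : ℕ))) (C.v i'') = C.B ⟨i'', ⟨_, hlt⟩⟩ by
                  rw [C.B_apply], Module.Basis.repr_self, Finsupp.single_apply, if_neg, smul_zero]
                intro e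
                obtain ⟨rfl, e2⟩ := Sigma.mk.inj_iff.mp e
                have := congrArg Fin.val (eq_of_heq e2)
                simp only at this
                exact hne (congrArg _ (Fin.ext (by omega)))
              · obtain ⟨r, hr⟩ := Nat.exists_eq_add_of_le (not_lt.mp hlt)
                rw [hr, add_comm, pow_add, Module.End.mul_apply, C.top, map_zero, map_zero,
                  Finsupp.zero_apply, smul_zero]
          rw [← h1, h0, map_zero, Finsupp.zero_apply, zero_smul]
    by_cases hs : ∃ i₀, C.L i₀ < N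
    · obtain ⟨i₀, hi₀⟩ := hs
      refine ⟨(Finsupp.lapply (⟨i₀, C.L i₀ - 1, Nat.sub_lt (C.pos i₀) one_pos⟩ :
        Σ i, Fin (C.L i))).comp (C.B.repr.toLinearMap.comp (LinearMap.proj i₀)),
        fun Z hZ hF i => hrep Z i (hZ i) fun i' j hj hlow => ?_⟩
      rcases (hLN i).lt_or_eq with hi | hi
      · rcases (hLN i').lt_or_eq with hi' | hi'
        · obtain rfl := huniq i i₀ hi hi₀
          obtain rfl := huniq i' i hi' hi
          simp only [LinearMap.comp_apply, LinearMap.proj_apply, LinearEquiv.coe_coe,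
            Finsupp.lapply_apply] at hF
          rw [← hF]
          congr 2
          refine Fin.ext ?_
          show (j : ℕ) = C.L i' - 1
          rcases hlen i' hi' with h | h <;> omega
        · omega
      · have := hZ i
        rw [hi, Nat.sub_self, pow_zero, Module.End.one_apply] at this
        rw [this, map_zero, Finsupp.zero_apply]
    · push Not at hs
      refine ⟨0, fun Z hZ _ i => ⟨0, ?_⟩⟩
      have := hZ i
      rw [le_antisymm (hLN i) (hs i), Nat.sub_self, pow_zero, Module.End.one_apply] at this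
      rw [map_zero, this]
  obtain ⟨a, b, hab, hzero⟩ : ∃ a b : k, (a ≠ 0 ∨ b ≠ 0) ∧ a * F (Ψ φ) + b * F (Ψ ψ) = 0 := by
    by_cases h : F (Ψ φ) = 0
    · exact ⟨1, 0, Or.inl one_ne_zero, by simp [h]⟩
    · exact ⟨-F (Ψ ψ), F (Ψ φ), Or.inr h, by ring⟩
  set χ := a • φ + b • ψ with hχdef
  have hχ : IsCocycle y N χ := by
    have e : ∑ m ∈ Finset.range N, y ^ m * χ * y ^ (N - 1 - m) =
        a • ∑ m ∈ Finset.range N, y ^ m * φ * y ^ (N - 1 - m) +
          b • ∑ m ∈ Finset.range N, y ^ m * ψ * y ^ (N - 1 - m) := by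
      simp only [hχdef, Finset.smul_sum, ← Finset.sum_add_distrib]
      exact Finset.sum_congr rfl fun m _ => by simp [mul_add, add_mul]
    rw [IsCocycle, e, hφ, hψ, smul_zero, smul_zero, add_zero]
  have hΨ : Ψ χ = a • Ψ φ + b • Ψ ψ := funext fun i => by
    simp [Ψ, hχdef, mul_add, add_mul, Finset.sum_add_distrib, Finset.smul_sum]
  choose z hz using hF (Ψ χ) (hker χ hχ) (by
    rw [hΨ, map_add, map_smul, map_smul, smul_eq_mul, smul_eq_mul, hzero])
  set H : C.ι → ℕ → V := fun i j =>
    (y ^ j) (z i) - ∑ m ∈ Finset.range j, (y ^ m * χ * y ^ (j - 1 - m)) (C.v i) with hH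
  refine ⟨a, b, hab, C.B.constr k fun x => H x.1 x.2, C.B.ext fun ⟨i, j⟩ => ?_⟩
  rw [← hχdef, LinearMap.sub_apply, Module.End.mul_apply, Module.End.mul_apply,
    Module.Basis.constr_basis]
  have hnext : (C.B.constr k fun x => H x.1 x.2) (y (C.B ⟨i, j⟩)) = H i ((j : ℕ) + 1) := by
    rw [C.y_B]
    split_ifs with h
    · rw [Module.Basis.constr_basis]
    · rw [map_zero]
      rw [show (j : ℕ) + 1 = C.L i from le_antisymm j.2 (not_lt.mp h)]
      simp only [hH]
      rw [hz i, sub_self]
  have e1 : H i ((j : ℕ) + 1) = y (H i j) - χ ((y ^ (j : ℕ)) (C.v i)) := by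
    simp only [hH]
    rw [Finset.sum_range_succ', map_sub, map_sum, pow_succ', Module.End.mul_apply,
      Finset.sum_congr rfl (g := fun m => y ((y ^ m * χ * y ^ ((j : ℕ) - 1 - m)) (C.v i)))
        fun m _ => by
          rw [show (j : ℕ) + 1 - 1 - (m + 1) = (j : ℕ) - 1 - m by omega, pow_succ']
          simp only [Module.End.mul_apply]]
    simp only [pow_zero, one_mul, Nat.add_sub_cancel, Nat.sub_zero, Module.End.mul_apply]
    exact (sub_sub _ _ _).symm
  rw [hnext, C.B_apply, e1, sub_sub_cancel]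

end CfsgLib.Blocks.CyclicDefect
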