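import Cfsg.Agent.Lib.Blocks.CyclicDefect.CornerUnits
import Cfsg.Agent.Lib.Blocks.CyclicDefect.TwistedChains

/-!
# The algebra of a subgroup with matrix units over a cyclic corner

`c` commutes with `H`, has matrix units in the span of `H`, and the first corner of the span of `H`
consists of polynomials in a nilpotent `y`: maps of the first corner commuting with `y` extend to
maps commuting with `H`, and the kernel of a power of `y` on the span is the image of the
complementary one.
-/

set_option autoImplicit false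
set_option linter.unusedSectionVars false

noncomputable section

namespace CfsgLib.Blocks.CyclicDefect

open MonoidAlgebra (of)

variable (k : Type*) [Field k] {Γ : Type*} [Group Γ]

/-- The span of a subgroup. -/
def spanH (H : Subgroup Γ) : Submodule k (MonoidAlgebra k Γ) :=
  Submodule.span k (of k Γ '' (H : Set Γ))

variable {k}

theorem of_mem_spanH {H : Subgroup Γ} {h : Γ} (hh : h ∈ H) : of k Γ h ∈ spanH k H :=
  Submodule.subset_span ⟨h, hh, rfl⟩

theorem one_mem_spanH (H : Subgroup Γ) : (1 : MonoidAlgebra k Γ) ∈ spanH k H := by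
  rw [← map_one (of k Γ)]; exact of_mem_spanH H.one_mem

theorem mul_mem_spanH {H : Subgroup Γ} {a b : MonoidAlgebra k Γ} (ha : a ∈ spanH k H)
    (hb : b ∈ spanH k H) : a * b ∈ spanH k H := by
  induction ha using Submodule.span_induction with
  | mem x hx =>
    obtain ⟨h, hh, rfl⟩ := hx
    induction hb using Submodule.span_induction with
    | mem z hz =>
      obtain ⟨h', hh', rfl⟩ := hz
      rw [← map_mul]; exact of_mem_spanH (H.mul_mem hh hh')
    | zero => rw [mul_zero]; exact zero_mem _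
    | add z z' _ _ h1 h2 => rw [mul_add]; exact add_mem h1 h2
    | smul t z _ h1 => rw [mul_smul_comm]; exact Submodule.smul_mem _ _ h1
  | zero => rw [zero_mul]; exact zero_mem _
  | add x x' _ _ h1 h2 => rw [add_mul]; exact add_mem h1 h2
  | smul t x _ h1 => rw [smul_mul_assoc]; exact Submodule.smul_mem _ _ h1

theorem pow_mem_spanH {H : Subgroup Γ} {a : MonoidAlgebra k Γ} (ha : a ∈ spanH k H) (j : ℕ) :
    a ^ j ∈ spanH k H := by
  induction j with
  | zero => rw [pow_zero]; exact one_mem_spanH H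
  | succ j ih => rw [pow_succ]; exact mul_mem_spanH ih ha

variable (k) in
/-- The data. -/
structure LocalCorner (H : Subgroup Γ) (c : MonoidAlgebra k Γ) where
  U : CornerSys c
  y : MonoidAlgebra k Γ
  N : ℕ
  hy : U.eps * y = y ∧ y * U.eps = y
  hN : 0 < N
  hyN : y ^ N = 0
  hyN' : U.eps * y ^ (N - 1) ≠ 0
  mem_E : ∀ i j, U.E i j ∈ spanH k H
  mem_y : y ∈ spanH k H
  coordH : ∀ h ∈ H, ∀ i j, U.coord (of k Γ h) i j ∈
    Submodule.span k (Set.range fun r : ℕ => U.eps * y ^ r)
  comm : ∀ h ∈ H, c * of k Γ h = of k Γ h * c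

namespace LocalCorner

variable {H : Subgroup Γ} {c : MonoidAlgebra k Γ} (L : LocalCorner k H c)

/-- The first idempotent. -/
abbrev eps : MonoidAlgebra k Γ := L.U.eps

/-- The corner. -/
def poly : Submodule k (MonoidAlgebra k Γ) :=
  Submodule.span k (Set.range fun r : ℕ => L.eps * L.y ^ r)

theorem eps_pow (r : ℕ) : L.eps * L.y ^ r = L.y ^ r * L.eps := by
  induction r with
  | zero => simp
  | succ r ih => rw [pow_succ, ← mul_assoc, ih, mul_assoc, L.hy.1, mul_assoc, L.hy.2]

theorem eps_mem : L.eps ∈ spanH k H := L.mem_E 0 0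

theorem c_mem (L : LocalCorner k H c) : c ∈ spanH k H := by
  have h : (∑ i, L.U.E i i) ∈ spanH k H := Submodule.sum_mem _ fun i _ => L.mem_E i i
  rwa [L.U.sum] at h

theorem poly_le : L.poly ≤ spanH k H := by
  rw [poly, Submodule.span_le]
  rintro _ ⟨r, rfl⟩
  exact mul_mem_spanH L.eps_mem (pow_mem_spanH L.mem_y r)

theorem coord_mem {a : MonoidAlgebra k Γ} (ha : a ∈ spanH k H) (i j : Fin (L.U.n + 1)) :
    L.U.coord a i j ∈ L.poly := by
  induction ha using Submodule.span_induction with
  | mem x hx =>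
    obtain ⟨h, hh, rfl⟩ := hx
    exact L.coordH h hh i j
  | zero => simp [CornerSys.coord]
  | add x x' _ _ h1 h2 =>
    have := add_mem h1 h2
    simpa [CornerSys.coord, mul_add, add_mul] using this
  | smul t x _ h1 =>
    have := L.poly.smul_mem t h1
    simpa [CornerSys.coord, mul_smul_comm, smul_mul_assoc] using this

theorem comm_mem (L : LocalCorner k H c) {a : MonoidAlgebra k Γ} (ha : a ∈ spanH k H) : c * a = a * c := by
  induction ha using Submodule.span_induction with
  | mem x hx =>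
    obtain ⟨h, hh, rfl⟩ := hx
    exact L.comm h hh
  | zero => simp
  | add x x' _ _ h1 h2 => simp [mul_add, add_mul, h1, h2]
  | smul t x _ h1 => simp [h1]

section Tilde

variable {X X' : Type*} [AddCommGroup X] [Module k X] [AddCommGroup X'] [Module k X']
  (Φ : MonoidAlgebra k Γ →ₐ[k] Module.End k X) (Φ' : MonoidAlgebra k Γ →ₐ[k] Module.End k X')

/-- The extension of a map of first corners. -/
def tilde (T : X →ₗ[k] X') : X →ₗ[k] X' :=
  ∑ i, Φ' (L.U.E i 0) ∘ₗ T ∘ₗ Φ (L.U.E 0 i)

theorem tilde_commute {T : X →ₗ[k] X'}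
    (hT : T ∘ₗ Φ (L.eps) = Φ' (L.eps) ∘ₗ T)
    (hTy : T ∘ₗ Φ L.y = Φ' L.y ∘ₗ T)
    {a : MonoidAlgebra k Γ} (ha : a ∈ spanH k H) :
    L.tilde Φ Φ' T ∘ₗ Φ a = Φ' a ∘ₗ L.tilde Φ Φ' T := by
  have hpow : ∀ r, T ∘ₗ Φ (L.eps * L.y ^ r) = Φ' (L.eps * L.y ^ r) ∘ₗ T := fun r => by
    induction r with
    | zero => simpa using hT
    | succ r ih =>
      rw [pow_succ, ← mul_assoc, map_mul Φ (L.eps * L.y ^ r), map_mul Φ' (L.eps * L.y ^ r),
        Module.End.mul_eq_comp, Module.End.mul_eq_comp, ← LinearMap.comp_assoc, ih,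
        LinearMap.comp_assoc, hTy, ← LinearMap.comp_assoc]
  have hpoly : ∀ q ∈ L.poly, T ∘ₗ Φ q = Φ' q ∘ₗ T := fun q hq => by
    induction hq using Submodule.span_induction with
    | mem x hx => obtain ⟨r, rfl⟩ := hx; exact hpow r
    | zero => simp
    | add x x' _ _ h1 h2 => simp [LinearMap.comp_add, LinearMap.add_comp, h1, h2]
    | smul t x _ h1 => simp [LinearMap.comp_smul, LinearMap.smul_comp, h1]
  refine LinearMap.ext fun x => ?_
  simp only [tilde, LinearMap.comp_apply, LinearMap.sum_apply, map_sum]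
  have hl : ∀ i, Φ (L.U.E 0 i) (Φ a x) =
      ∑ l, Φ (L.U.coord a i l) (Φ (L.U.E 0 l) x) := fun i => by
    simp only [← Module.End.mul_apply, ← map_mul]
    rw [← LinearMap.sum_apply, ← map_sum]
    congr 2
    calc L.U.E 0 i * a = L.U.E 0 i * a * c := by
          rw [mul_assoc, ← L.comm_mem ha, ← mul_assoc, L.U.mul_e]
      _ = _ := by
          rw [show L.U.E 0 i * a * c = L.U.E 0 i * a * ∑ l, L.U.E l l by rw [L.U.sum],
            Finset.mul_sum]
          refine Finset.sum_congr rfl fun l _ => ?_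
          rw [CornerSys.coord, mul_assoc (L.U.E 0 i * a), L.U.mul_same]
  have hr : ∀ i z, Φ' a (Φ' (L.U.E i 0) z) = ∑ l, Φ' (L.U.E l 0) (Φ' (L.U.coord a l i) z) :=
    fun i z => by
    simp only [← Module.End.mul_apply, ← map_mul]
    rw [← LinearMap.sum_apply, ← map_sum]
    congr 2
    calc a * L.U.E i 0 = c * (a * L.U.E i 0) := by
          rw [← mul_assoc, L.comm_mem ha, mul_assoc, L.U.e_mul]
      _ = _ := by
          rw [show c * (a * L.U.E i 0) = (∑ l, L.U.E l l) * (a * L.U.E i 0) by rw [L.U.sum],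
            Finset.sum_mul]
          refine Finset.sum_congr rfl fun l _ => ?_
          rw [CornerSys.coord, ← mul_assoc, ← mul_assoc, ← mul_assoc (L.U.E l 0), L.U.mul_same]
  simp only [hl, hr, map_sum]
  rw [Finset.sum_comm]
  refine Finset.sum_congr rfl fun l _ => Finset.sum_congr rfl fun i _ => ?_
  congr 1
  exact LinearMap.congr_fun (hpoly _ (L.coord_mem ha i l)) _

end Tilde

/-- The kernel of a power of `y` on the span. -/
theorem exists_pow_mul {a : MonoidAlgebra k Γ} (ha : a ∈ spanH k H) (hea : L.eps * a = a) {m : ℕ}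
    (hm : m ≤ L.N) (h0 : L.y ^ m * a = 0) :
    ∃ a' ∈ spanH k H, a = L.y ^ (L.N - m) * a' := by
  classical
  have key : ∀ q ∈ L.poly, L.y ^ m * q = 0 → ∃ q' ∈ L.poly, q = L.y ^ (L.N - m) * q' := by
    intro q hq hq0
    obtain ⟨a, rfl⟩ := Finsupp.mem_span_range_iff_exists_finsupp.mp hq
    have hz : ∀ r, L.N ≤ r → L.eps * L.y ^ r = 0 := fun r hr => by
      rw [← Nat.add_sub_cancel' hr, pow_add, L.hyN, zero_mul, mul_zero]
    have hlow : ∀ r, r < L.N - m → a r = 0 := by
      intro r
      induction r using Nat.strong_induction_on with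
      | _ r ih =>
      intro hr
      have h := congrArg (fun z => L.y ^ (L.N - 1 - m - r) * z) hq0
      simp only [mul_zero, ← mul_assoc, ← pow_add, Finsupp.sum, Finset.mul_sum, mul_smul_comm] at h
      rw [Finset.sum_eq_single r] at h
      · rw [← L.eps_pow, mul_assoc, ← pow_add,
          show L.N - 1 - m - r + m + r = L.N - 1 by omega] at h
        exact (smul_eq_zero.mp h).resolve_right L.hyN'
      · intro r' _ hne
        rcases lt_or_gt_of_ne hne with h' | h'
        · rw [ih r' h' (by omega), zero_smul]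
        · rw [← L.eps_pow, mul_assoc, ← pow_add, hz _ (by omega), smul_zero]
      · intro hr'
        rw [Finsupp.notMem_support_iff.mp hr', zero_smul]
    refine ⟨a.sum fun r t => t • (L.eps * L.y ^ (r - (L.N - m))), ?_, ?_⟩
    · exact Submodule.sum_mem _ fun r _ => L.poly.smul_mem _ (Submodule.subset_span ⟨_, rfl⟩)
    · simp only [Finsupp.sum, Finset.mul_sum, mul_smul_comm]
      refine Finset.sum_congr rfl fun r _ => ?_
      by_cases hr : r < L.N - m
      · rw [hlow r hr, zero_smul, zero_smul]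
      · rw [L.eps_pow, L.eps_pow, ← mul_assoc, ← pow_add, Nat.add_sub_cancel' (not_lt.mp hr)]
  have hac : a = ∑ l, L.U.coord a 0 l * L.U.E 0 l := by
    conv_lhs => rw [← hea]
    calc L.eps * a = L.eps * a * c := by
          rw [mul_assoc, ← L.comm_mem ha, ← mul_assoc, L.U.mul_e]
      _ = _ := by
          rw [show L.eps * a * c = L.eps * a * ∑ l, L.U.E l l by rw [L.U.sum], Finset.mul_sum]
          refine Finset.sum_congr rfl fun l _ => ?_
          rw [CornerSys.coord, mul_assoc (L.eps * a) (L.U.E l 0), L.U.mul_same]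
  have h0' : ∀ l, L.y ^ m * L.U.coord a 0 l = 0 := fun l => by
    rw [CornerSys.coord, ← mul_assoc, ← mul_assoc, ← L.eps_pow, mul_assoc (L.eps), h0, mul_zero,
      zero_mul]
  choose q hq hqe using fun l => key _ (L.coord_mem ha 0 l) (h0' l)
  refine ⟨∑ l, q l * L.U.E 0 l, Submodule.sum_mem _ fun l _ =>
    mul_mem_spanH (L.poly_le (hq l)) (L.mem_E 0 l), ?_⟩
  rw [Finset.mul_sum]
  conv_lhs => rw [hac]
  exact Finset.sum_congr rfl fun l _ => by rw [hqe, mul_assoc]

end LocalCorner

end CfsgLib.Blocks.CyclicDefect
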