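import Cfsg.Agent.Lib.Blocks.CyclicDefect.LocalTrace
import Cfsg.Agent.Lib.Blocks.CyclicDefect.LocalCorner
import Mathlib.LinearAlgebra.Matrix.ToLin

/-!
# Self-extensions of a representation with a uniserial local corner

The representation `Φ` of `Γ` is onto, the trace of `c` from `H` is invertible under it and the
corner of `c` on `H` is generated by one nilpotent element: the classes of its self-extensions
form at most a line.
-/

set_option autoImplicit false
set_option linter.unusedSectionVars false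

noncomputable section

namespace CfsgLib.Blocks.CyclicDefect

open MonoidAlgebra (of)

variable {k Γ X : Type*} [Field k] [Group Γ] [AddCommGroup X] [Module k X]
  {Φ : MonoidAlgebra k Γ →ₐ[k] Module.End k X}

variable (Φ) in
/-- A derivation. -/
def IsDeriv (D : MonoidAlgebra k Γ →ₗ[k] Module.End k X) : Prop :=
  ∀ a b, D (a * b) = Φ a * D b + D a * Φ b

theorem IsDeriv.apply_one {D : MonoidAlgebra k Γ →ₗ[k] Module.End k X} (hD : IsDeriv Φ D) :
    D 1 = 0 := by
  have := hD 1 1
  rw [one_mul, map_one Φ, one_mul, mul_one] at this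
  exact left_eq_add.mp this

/-- The extension by a derivation. -/
def ext {D : MonoidAlgebra k Γ →ₗ[k] Module.End k X} (hD : IsDeriv Φ D) :
    MonoidAlgebra k Γ →ₐ[k] Module.End k (X × X) :=
  AlgHom.ofLinearMap
    { toFun := fun z => ((Φ z) ∘ₗ LinearMap.fst k X X + (D z) ∘ₗ LinearMap.snd k X X).prod
        ((Φ z) ∘ₗ LinearMap.snd k X X)
      map_add' := fun a b => LinearMap.ext fun x => by
        show (Φ (a + b) x.1 + D (a + b) x.2, Φ (a + b) x.2) =
          ((Φ a x.1 + D a x.2) + (Φ b x.1 + D b x.2), Φ a x.2 + Φ b x.2)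
        simp only [map_add, LinearMap.add_apply]
        exact Prod.ext (by abel) rfl
      map_smul' := fun t a => LinearMap.ext fun x => by
        show (Φ (t • a) x.1 + D (t • a) x.2, Φ (t • a) x.2) =
          (t • (Φ a x.1 + D a x.2), t • Φ a x.2)
        simp only [map_smul, LinearMap.smul_apply, smul_add] }
    (LinearMap.ext fun x => by
      show (Φ 1 x.1 + D 1 x.2, Φ 1 x.2) = x
      simp [hD.apply_one])
    fun a b => LinearMap.ext fun x => by
      show (Φ (a * b) x.1 + D (a * b) x.2, Φ (a * b) x.2) =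
        (Φ a (Φ b x.1 + D b x.2) + D a (Φ b x.2), Φ a (Φ b x.2))
      simp only [map_mul, hD a b, Module.End.mul_apply, LinearMap.add_apply, map_add]
      exact Prod.ext (by abel) rfl

theorem ext_apply {D : MonoidAlgebra k Γ →ₗ[k] Module.End k X} (hD : IsDeriv Φ D)
    (z : MonoidAlgebra k Γ) (x : X × X) :
    ext hD z x = (Φ z x.1 + D z x.2, Φ z x.2) := rfl

theorem IsDeriv.map_idem {D : MonoidAlgebra k Γ →ₗ[k] Module.End k X} (hD : IsDeriv Φ D)
    {e : MonoidAlgebra k Γ} (he : e * e = e) (h1 : Φ e = 1) : D e = 0 := by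
  have := hD e e
  rw [he, h1, one_mul, mul_one] at this
  exact left_eq_add.mp this

theorem IsDeriv.combination {D₁ D₂ : MonoidAlgebra k Γ →ₗ[k] Module.End k X}
    (h₁ : IsDeriv Φ D₁) (h₂ : IsDeriv Φ D₂) (a b : k) : IsDeriv Φ (a • D₁ + b • D₂) := fun x z => by
  simp only [LinearMap.add_apply, LinearMap.smul_apply, h₁ x z, h₂ x z]
  simp only [smul_add, mul_add, add_mul, mul_smul_comm, smul_mul_assoc]
  abel

variable [Fintype Γ] [FiniteDimensional k X] [IsAlgClosed k]
  {H P Nz : Subgroup Γ} {c β : MonoidAlgebra k Γ}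

/-- Endomorphisms of the first corner commuting with `y` are scalars up to small maps. -/
theorem exists_scalar_small [Nontrivial X] (hΦ : Function.Surjective Φ)
    (L : LocalCorner k H c) (D : TraceData (of k Γ) H P Nz c β)
    (π : Module.End k X) (hπe : Φ L.eps * π = π) (heπ : π * Φ L.eps = π)
    (hπy : π * Φ L.y = Φ L.y * π) :
    ∃ c₀ : k, ∀ m ≤ L.N, ∀ z, Φ L.eps z = z → (Φ L.y ^ m) z = 0 →
      ∃ z', Φ L.eps z' = z' ∧ (Φ L.y ^ (L.N - m)) z' = π z - c₀ • z := by
  classical
  set πt := L.tilde Φ Φ π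
  have hcomm : ∀ a ∈ spanH k H, πt * Φ a = Φ a * πt := fun a ha =>
    L.tilde_commute Φ Φ (show π * Φ L.eps = Φ L.eps * π by rw [heπ, hπe]) hπy ha
  have hc1 : Φ c * πt = πt := by
    simp only [πt, LocalCorner.tilde, Finset.mul_sum, ← Module.End.mul_eq_comp, ← mul_assoc,
      ← map_mul, L.U.e_mul]
  have hc2 : πt * Φ c = πt := (hcomm c L.c_mem).trans hc1
  have hTD := D.map Φ
  obtain ⟨A, hA⟩ := hTD.exists_trace k (π := πt)
    (fun h hh => hcomm _ (of_mem_spanH hh)) hc1 hc2
  set ρ : Γ →* Module.End k X := (Φ : MonoidAlgebra k Γ →* Module.End k X).comp (of k Γ) with hρ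
  have hall : ∀ a, trQ ρ H πt * Φ a = Φ a * trQ ρ H πt := fun a => by
    induction a using MonoidAlgebra.induction_on with
    | of g => exact trQ_commute ρ (fun h hh => hcomm _ (of_mem_spanH hh)) g
    | add f g hf hg => rw [map_add, mul_add, add_mul, hf, hg]
    | smul r f hf => rw [map_smul, mul_smul_comm, smul_mul_assoc, hf]
  obtain ⟨c₀, hc₀⟩ : ∃ c₀ : k, trQ ρ H πt = c₀ • 1 := by
    obtain ⟨μ, hμ⟩ := Module.End.exists_eigenvalue (trQ ρ H πt)
    obtain ⟨v, hv⟩ := hμ.exists_hasEigenvector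
    refine ⟨μ, LinearMap.ext fun x => ?_⟩
    obtain ⟨φ, hφ⟩ := LinearMap.exists_leftInverse_of_injective
      (LinearMap.toSpanSingleton k X v) (LinearMap.ker_toSpanSingleton k hv.2)
    obtain ⟨a, ha⟩ := hΦ ((LinearMap.toSpanSingleton k X x) ∘ₗ φ)
    have hav : Φ a v = x := by
      have h1 := LinearMap.congr_fun hφ 1
      rw [LinearMap.comp_apply, LinearMap.toSpanSingleton_apply, one_smul, LinearMap.id_apply] at h1
      rw [ha, LinearMap.comp_apply, h1, LinearMap.toSpanSingleton_apply, one_smul]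
    rw [← hav, ← Module.End.mul_apply, hall, Module.End.mul_apply, hv.apply_eq_smul, map_smul]
    rfl
  rw [hc₀, mul_smul_comm, mul_one, smul_mul_assoc, ← map_mul, D.idem] at hA
  refine ⟨c₀, fun m hm z hz hmz => ?_⟩
  have hεc : Φ L.eps * Φ c = Φ L.eps := by rw [← map_mul, L.U.mul_e]
  have hεπ : Φ L.eps * πt * Φ L.eps = π := by
    simp only [πt, LocalCorner.tilde, Finset.mul_sum, Finset.sum_mul, ← Module.End.mul_eq_comp]
    rw [Finset.sum_eq_single 0]
    · simp only [← mul_assoc, ← map_mul, L.U.mul_same]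
      rw [mul_assoc, ← map_mul, L.U.mul_same, hπe, heπ]
    · intro i _ hi
      rw [← mul_assoc (Φ L.eps), ← map_mul, show L.U.E 0 0 * L.U.E i 0 = 0 by
        rw [L.U.mul, if_neg (Ne.symm hi)], map_zero, zero_mul, zero_mul]
    · simp
  -- the trace as an element acting
  let b := Module.finBasis k X
  let aug : Fin (Module.finrank k X) → X →ₗ[k] MonoidAlgebra k Γ := fun i =>
    ∑ h : Γ with h ∈ H, LinearMap.smulRight
      (b.coord i ∘ₗ A ∘ₗ Φ (of k Γ h⁻¹)) (of k Γ h)
  have haug : ∀ i z', aug i z' = ∑ h : Γ with h ∈ H,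
      b.coord i (A (Φ (of k Γ h⁻¹) z')) • of k Γ h := fun i z' => by
    simp only [aug, LinearMap.sum_apply, LinearMap.smulRight_apply, LinearMap.comp_apply]
  have hmem : ∀ i z', aug i z' ∈ spanH k H := fun i z' => by
    rw [haug]
    exact Submodule.sum_mem _ fun h hh =>
      Submodule.smul_mem _ _ (of_mem_spanH (Finset.mem_filter.mp hh).2)
  have hequiv : ∀ i, ∀ a ∈ spanH k H, ∀ z', aug i (Φ a z') = a * aug i z' := fun i a ha => by
    induction ha using Submodule.span_induction with
    | mem x hx =>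
      obtain ⟨g, hg, rfl⟩ := hx
      intro z'
      rw [haug, haug, Finset.mul_sum]
      refine Finset.sum_equiv (Equiv.mulLeft g⁻¹) (fun h => ?_) fun h hh => ?_
      · simp [Subgroup.mul_mem_cancel_left _ (inv_mem hg)]
      · rw [mul_smul_comm, ← map_mul, Equiv.coe_mulLeft, mul_inv_cancel_left, mul_inv_rev, inv_inv,
          map_mul (of k Γ) h⁻¹ g, map_mul, Module.End.mul_apply]
    | zero => intro z'; simp
    | add x x' _ _ h1 h2 => intro z'; simp only [map_add, LinearMap.add_apply, h1, h2, add_mul]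
    | smul t x _ h1 => intro z'; simp only [map_smul, LinearMap.smul_apply, h1, smul_mul_assoc]
  have htr : ∀ z', (∑ h : Γ with h ∈ H, cj ρ h A) z' = ∑ i, Φ (aug i z') (b i) := fun z' => by
    simp only [haug, map_sum, map_smul, LinearMap.sum_apply, LinearMap.smul_apply]
    rw [Finset.sum_comm]
    refine Finset.sum_congr rfl fun h _ => ?_
    rw [cj_apply, Module.End.mul_apply, Module.End.mul_apply]
    conv_lhs => rw [← b.sum_repr (A (ρ h⁻¹ z'))]
    simp only [map_sum, map_smul]
    rfl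
  have hex : ∀ i, ∃ a' ∈ spanH k H, aug i z = L.y ^ (L.N - m) * a' := fun i => by
    refine L.exists_pow_mul (hmem i z) ?_ hm ?_
    · rw [← hequiv i _ L.eps_mem, hz]
    · rw [← hequiv i _ (pow_mem_spanH L.mem_y m), map_pow, hmz, map_zero]
  choose a' _ ha' using hex
  refine ⟨-Φ L.eps (∑ i, Φ (a' i) (b i)), ?_, ?_⟩
  · rw [map_neg, ← Module.End.mul_apply, ← map_mul, L.U.mul_same]
  have h1 := congrArg (fun T => (Φ L.eps * T * Φ L.eps) z) hA
  simp only [mul_add, add_mul, LinearMap.add_apply, hεπ, mul_smul_comm, smul_mul_assoc,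
    LinearMap.smul_apply, hεc] at h1
  rw [← map_mul, L.U.mul_same, Module.End.mul_apply (Φ L.eps * _), hz,
    Module.End.mul_apply, htr] at h1
  simp only [hz, ha', map_mul, Module.End.mul_apply] at h1
  rw [map_neg, h1, sub_eq_add_neg, neg_add, ← add_assoc, add_neg_cancel, zero_add, neg_inj,
    ← map_pow, ← Module.End.mul_apply, ← map_mul, ← L.eps_pow, map_mul, Module.End.mul_apply]
  simp only [map_sum]

/-- Two derivations have a combination that is inner. -/
theorem exists_inner_combination [Nontrivial X] (hΦ : Function.Surjective Φ)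
    (L : LocalCorner k H c) (D : TraceData (of k Γ) H P Nz c β) {e w : MonoidAlgebra k Γ}
    (he : e * e = e) (hΦe : Φ e = 1) (hw : trQ (of k Γ) H c * e * w = e)
    {D₁ D₂ : MonoidAlgebra k Γ →ₗ[k] Module.End k X} (h₁ : IsDeriv Φ D₁) (h₂ : IsDeriv Φ D₂) :
    ∃ a b : k, (a ≠ 0 ∨ b ≠ 0) ∧ ∃ h : Module.End k X,
      ∀ z, a • D₁ z + b • D₂ z = h * Φ z - Φ z * h := by
  classical
  set Y := LinearMap.range (Φ L.eps)
  have hYmem : ∀ x, x ∈ Y ↔ Φ L.eps x = x := fun x => by
    constructor
    · rintro ⟨u, rfl⟩; rw [← Module.End.mul_apply, ← map_mul, L.U.mul_same]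
    · exact fun h => ⟨x, h⟩
  have hye : Φ L.eps * Φ L.y = Φ L.y := by rw [← map_mul, L.hy.1]
  have hey : Φ L.y * Φ L.eps = Φ L.y := by rw [← map_mul, L.hy.2]
  set ψ : Module.End k X := Φ L.y
  set yY : Module.End k Y := ψ.restrict fun x _ =>
    (hYmem _).mpr (by rw [← Module.End.mul_apply, hye])
  set pr : X →ₗ[k] Y := (Φ L.eps).rangeRestrict
  have hpr : ∀ x, ((pr x : Y) : X) = Φ L.eps x := fun x => rfl
  have hpow : ∀ (r : ℕ) (x : Y), (((yY ^ r) x : Y) : X) = (ψ ^ r) (x : X) := fun r x => by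
    induction r with
    | zero => rfl
    | succ r ih =>
      rw [pow_succ', pow_succ', Module.End.mul_apply, Module.End.mul_apply, ← ih]; rfl
  have hyN : yY ^ L.N = 0 := LinearMap.ext fun x => Subtype.ext (by
    rw [hpow, ← map_pow, L.hyN, map_zero]; rfl)
  -- the cocycle of a derivation
  let cc : (D' : MonoidAlgebra k Γ →ₗ[k] Module.End k X) → Module.End k Y := fun D' =>
    pr ∘ₗ (ψ * D' L.eps + D' L.y - D' L.eps * ψ) ∘ₗ Y.subtype
  have hccval : ∀ {D'} (hD' : IsDeriv Φ D') (x : Y),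
      ((cc D' x : Y) : X) = (ψ * D' L.eps + D' L.y - D' L.eps * ψ) (x : X) := fun {D'} hD' x => by
    show Φ L.eps _ = _
    have h1 := congrArg (fun T : Module.End k X => T (x : X)) (hD' L.eps L.y)
    have h2 := congrArg (fun T : Module.End k X => T (ψ (x : X))) (hD' L.eps L.eps)
    have hx := (hYmem _).mp x.2
    have hyx : Φ L.eps (ψ (x : X)) = ψ (x : X) := by rw [← Module.End.mul_apply, hye]
    simp only [L.hy.1, L.U.mul_same, LinearMap.add_apply, Module.End.mul_apply, hyx, hx] at h1 h2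
    simp only [LinearMap.comp_apply, Submodule.subtype_apply, LinearMap.sub_apply,
      LinearMap.add_apply, Module.End.mul_apply, map_sub, map_add]
    rw [← Module.End.mul_apply (Φ L.eps) ψ, hye]
    have h3 : Φ L.eps (D' L.y (x : X)) = D' L.y (x : X) - D' L.eps (ψ (x : X)) :=
      eq_sub_of_add_eq h1.symm
    have h4 : Φ L.eps (D' L.eps (ψ (x : X))) = 0 := right_eq_add.mp h2
    rw [h3, h4]
    abel
  have hlift : ∀ {D'} (hD' : IsDeriv Φ D') (r : ℕ) (x : Y),
      (ext hD' L.y ^ r) (D' L.eps (x : X), (x : X)) =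
        (D' L.eps ((yY ^ r) x : Y) + ((∑ m ∈ Finset.range r,
          yY ^ m * cc D' * yY ^ (r - 1 - m)) x : Y), (((yY ^ r) x : Y) : X)) := by
    intro D' hD' r
    induction r with
    | zero => intro x; simp
    | succ r ih =>
      intro x
      rw [pow_succ', Module.End.mul_apply, ih, ext_apply]
      refine Prod.ext ?_ ?_
      · simp only [map_add, LinearMap.sum_apply, AddSubmonoidClass.coe_finsetSum, map_sum]
        rw [Finset.sum_range_succ' _ r]
        simp only [pow_zero, one_mul, Nat.add_sub_cancel, Nat.sub_zero]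
        rw [Module.End.mul_apply, hccval hD']
        have e1 : ∀ (m : ℕ) (u : Y), Φ L.y (((yY ^ m) u : Y) : X) =
            (((yY ^ (m + 1)) u : Y) : X) := fun m u => by rw [pow_succ']; rfl
        have e2 : ∀ m, r - 1 - m = r - (m + 1) := fun m => by omega
        simp only [LinearMap.sub_apply, LinearMap.add_apply, Module.End.mul_apply, e2, e1]
        rw [show ψ (D' L.eps (((yY ^ r) x : Y) : X)) = Φ L.y (D' L.eps (((yY ^ r) x : Y) : X))
          from rfl, show ψ (((yY ^ r) x : Y) : X) = (((yY ^ (r + 1)) x : Y) : X) from e1 r x]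
        abel
      · rw [pow_succ', Module.End.mul_apply]; rfl
  have hcocycle : ∀ {D'} (hD' : IsDeriv Φ D'), IsCocycle yY L.N (cc D') := fun {D'} hD' => by
    refine LinearMap.ext fun x => Subtype.ext ?_
    have := hlift hD' L.N x
    rw [← map_pow, L.hyN, map_zero, hyN] at this
    have h1 := congrArg Prod.fst this
    simp only [LinearMap.zero_apply, ZeroMemClass.coe_zero, map_zero, zero_add, Prod.fst_zero] at h1
    exact h1.symm
  have hend : ∀ π : Module.End k Y, π * yY = yY * π → ∃ c₀ : k, Small yY L.N (π - c₀ • 1) := by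
    intro π hπ
    set π₀ : Module.End k X := Y.subtype ∘ₗ π ∘ₗ pr
    obtain ⟨c₀, hc₀⟩ := exists_scalar_small hΦ L D π₀
      (LinearMap.ext fun x => (hYmem _).mp (π (pr x)).2)
      (LinearMap.ext fun x => by
        show ((π (pr (Φ L.eps x)) : Y) : X) = _
        rw [show pr (Φ L.eps x) = pr x from Subtype.ext (by
          rw [hpr, hpr, ← Module.End.mul_apply, ← map_mul, L.U.mul_same])]
        rfl)
      (LinearMap.ext fun x => by
        show ((π (pr (ψ x)) : Y) : X) = ψ ((π (pr x) : Y) : X)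
        rw [show pr (ψ x) = yY (pr x) from Subtype.ext (by
          show Φ L.eps (ψ x) = ψ (Φ L.eps x)
          rw [← Module.End.mul_apply, hye, ← Module.End.mul_apply, hey])]
        exact congrArg Subtype.val (LinearMap.congr_fun hπ (pr x)))
    refine ⟨c₀, fun m hm z hz => ?_⟩
    obtain ⟨z', hz', hz''⟩ := hc₀ m hm z ((hYmem _).mp z.2) (by
      rw [← hpow, hz]; rfl)
    refine ⟨⟨z', (hYmem _).mpr hz'⟩, Subtype.ext ?_⟩
    rw [hpow, hz'']
    show ((π (pr z) : Y) : X) - c₀ • (z : X) = _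
    rw [show pr z = z from Subtype.ext ((hYmem _).mp z.2)]
    rfl
  obtain ⟨a, b, hab, h, hh⟩ :=
    exists_combination_coboundary hyN hend (hcocycle h₁) (hcocycle h₂)
  refine ⟨a, b, hab, ?_⟩
  set D' := a • D₁ + b • D₂ with hD'def
  have hD' : IsDeriv Φ D' := h₁.combination h₂ a b
  have hcc : cc D' = yY * h - h * yY := by
    rw [← hh]
    refine LinearMap.ext fun x => Subtype.ext ?_
    rw [LinearMap.add_apply, LinearMap.smul_apply, LinearMap.smul_apply, Submodule.coe_add,
      Submodule.coe_smul, Submodule.coe_smul, hccval hD', hccval h₁, hccval h₂]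
    simp only [hD'def, LinearMap.add_apply, LinearMap.smul_apply, LinearMap.sub_apply,
      Module.End.mul_apply, map_add, map_smul, smul_add, smul_sub]
    abel
  -- the section
  set s₀ : X →ₗ[k] X × X :=
    LinearMap.prod (D' L.eps ∘ₗ Φ L.eps - Y.subtype ∘ₗ h ∘ₗ pr) (Φ L.eps)
  set σ := ext hD'
  have hs₀ : ∀ x, s₀ x = (D' L.eps (Φ L.eps x) - ((h (pr x) : Y) : X), Φ L.eps x) :=
    fun x => rfl
  have hεD : ∀ x, Φ L.eps (D' L.eps (Φ L.eps x)) = 0 := fun x => by
    have h2 := congrArg (fun T : Module.End k X => T (Φ L.eps x)) (hD' L.eps L.eps)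
    simp only [L.U.mul_same, LinearMap.add_apply, Module.End.mul_apply,
      (hYmem _).mp ⟨x, rfl⟩] at h2
    exact right_eq_add.mp h2
  have hT : s₀ ∘ₗ Φ L.eps = σ L.eps ∘ₗ s₀ := LinearMap.ext fun x => by
    simp only [hs₀, LinearMap.comp_apply, σ, ext_apply]
    rw [(hYmem _).mp ⟨x, rfl⟩, show pr (Φ L.eps x) = pr x from Subtype.ext (by
      rw [hpr, hpr, (hYmem _).mp ⟨x, rfl⟩])]
    refine Prod.ext ?_ rfl
    rw [map_sub, hεD, (hYmem _).mp (h (pr x)).2]
    abel
  have hTy : s₀ ∘ₗ Φ L.y = σ L.y ∘ₗ s₀ := LinearMap.ext fun x => by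
    simp only [hs₀, LinearMap.comp_apply, σ, ext_apply]
    have e1 : Φ L.eps (ψ x) = ψ x := by rw [← Module.End.mul_apply, hye]
    have e2 : ψ (Φ L.eps x) = ψ x := by rw [← Module.End.mul_apply, hey]
    rw [show Φ L.y = ψ from rfl, e1, e2,
      show pr (ψ x) = yY (pr x) from Subtype.ext (e1.trans e2.symm)]
    refine Prod.ext ?_ rfl
    have e3 := congrArg Subtype.val (LinearMap.congr_fun hcc (pr x))
    rw [hccval hD'] at e3
    simp only [LinearMap.sub_apply, LinearMap.add_apply, Module.End.mul_apply, Submodule.coe_sub,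
      hpr, e2] at e3
    rw [map_sub, show ψ ((h (pr x) : Y) : X) = ((yY (h (pr x)) : Y) : X) from rfl,
      eq_comm, ← sub_eq_zero]
    rw [← sub_eq_zero] at e3
    rw [← e3]
    module
  set s := L.tilde Φ σ s₀
  have hs : ∀ g ∈ H, s ∘ₗ Φ (of k Γ g) = σ (of k Γ g) ∘ₗ s := fun g hg =>
    L.tilde_commute Φ σ hT hTy (of_mem_spanH hg)
  have hfs : LinearMap.snd k X X ∘ₗ s = Φ c := LinearMap.ext fun x => by
    simp only [s, LocalCorner.tilde, LinearMap.comp_apply, LinearMap.sum_apply, map_sum, σ,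
      ext_apply, LinearMap.snd_apply, hs₀]
    simp only [← Module.End.mul_apply, ← map_mul, L.U.mul_same]
    rw [← LinearMap.sum_apply, ← map_sum, L.U.sum]
  have hunit : IsUnit (trQ ((Φ : MonoidAlgebra k Γ →* Module.End k X).comp (of k Γ)) H (Φ c)) := by
    rw [map_trQ]
    have h1 : Φ (trQ (of k Γ) H c) * Φ w = 1 := by
      have := congrArg Φ hw
      rwa [map_mul, map_mul, hΦe, mul_one] at this
    exact IsUnit.of_mul_eq_one _ h1
  obtain ⟨s', hs', hss'⟩ := exists_equivariant_section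
    ((σ : MonoidAlgebra k Γ →* Module.End k (X × X)).comp (of k Γ)) (LinearMap.snd k X X)
    (fun g => LinearMap.ext fun x => rfl) hs hfs hunit
  refine ⟨LinearMap.fst k X X ∘ₗ s', fun z => ?_⟩
  have hall : s' ∘ₗ Φ z = σ z ∘ₗ s' := by
    induction z using MonoidAlgebra.induction_on with
    | of g => exact hs' g
    | add f g hf hg => rw [map_add, map_add, LinearMap.comp_add, LinearMap.add_comp, hf, hg]
    | smul r f hf => rw [map_smul, map_smul, LinearMap.comp_smul, LinearMap.smul_comp, hf]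
  refine LinearMap.ext fun x => ?_
  have h1 := congrArg Prod.fst (LinearMap.congr_fun hall x)
  have h2 : (s' x).2 = x := LinearMap.congr_fun hss' x
  simp only [LinearMap.comp_apply, σ, ext_apply, h2] at h1
  show D' z x = _
  simp only [LinearMap.sub_apply, Module.End.mul_apply, LinearMap.comp_apply, LinearMap.fst_apply]
  rw [h1]
  abel

end CfsgLib.Blocks.CyclicDefect
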