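import Cfsg.Agent.Lib.Blocks.CyclicDefect.Setup
import Cfsg.Agent.Lib.Blocks.FreeQuotient.Match
import Cfsg.Agent.Lib.Blocks.PConstrainedBlock
import Mathlib.RingTheory.ZMod.UnitsCyclic

/-!
# The block of a group with a self-centralizing normal cyclic `p`-subgroup
-/

set_option autoImplicit false
set_option linter.unusedSectionVars false

namespace CfsgLib.Blocks.CyclicDefect

open Cfsg
open scoped ComplexConjugate CfsgLib.Char

variable {p : ℕ} {M : Ideal AlgInt} [M.IsPrime]

/-- A `p`-group of index less than `p` is normal. -/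
theorem normal_of_index_lt [Fact p.Prime] {F : Type*} [Group F] [Finite F] {Q : Subgroup F}
    (hQ : IsPGroup p Q) (hidx : Q.index < p) : Q.Normal := by
  have hnd : ¬ p ∣ Q.index := fun h =>
    absurd (Nat.le_of_dvd (Nat.pos_of_ne_zero Q.index_ne_zero_of_finite) h) (by omega)
  set S : Sylow p F := hQ.toSylow hnd
  have hS : (S : Subgroup F) = Q := rfl
  have h1 : Nat.card (Sylow p F) ∣ Q.index := hS ▸ S.card_dvd_index
  have h2 := card_sylow_modEq_one p F
  have hle := Nat.le_of_dvd (Nat.pos_of_ne_zero Q.index_ne_zero_of_finite) h1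
  have h3 : Nat.card (Sylow p F) = 1 := by
    rw [Nat.ModEq, Nat.mod_eq_of_lt (by omega),
      Nat.mod_eq_of_lt (Nat.Prime.one_lt Fact.out)] at h2
    exact h2
  have : Subsingleton (Sylow p F) := (Nat.card_eq_one_iff_unique.mp h3).1
  exact hS ▸ S.normal_of_subsingleton

/-- The whole set of characters is a block, with defect group `Q`. -/
theorem univ_isBlock_defectGroup (hM : IsPModular p M) {F : Type*} [Group F] [Fintype F]
    {Q : Subgroup F} [Q.Normal] (hQ : IsPGroup p Q) (hidx : ¬ p ∣ Q.index)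
    (hQC : Subgroup.centralizer (Q : Set F) = Q) :
    IsPBlock M (Set.univ : Set (IrrCharacter F)) ∧
      IsDefectGroup p M (Set.univ : Set (IrrCharacter F)) Q := by
  classical
  have : Fact p.Prime := ⟨hM.1⟩
  let := Fintype.ofFinite (⊥ : Subgroup F)
  have hinv : ∀ g : F, Char.conjBy (⊥ : Subgroup F) (trivIrr (⊥ : Subgroup F) : (⊥ : Subgroup F) → ℂ) g =
      trivIrr (⊥ : Subgroup F) := fun g => funext fun _ => rfl
  have hU : overSet (⊥ : Subgroup F) (trivIrr (⊥ : Subgroup F)) = (Set.univ : Set (IrrCharacter F)) := by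
    ext χ
    simp only [mem_overSet, Set.mem_univ, iff_true, classInner]
    rw [Fintype.sum_unique]
    refine mul_ne_zero (inv_ne_zero (Nat.cast_ne_zero.mpr Nat.card_pos.ne')) ?_
    rw [show ((trivIrr (⊥ : Subgroup F) : (⊥ : Subgroup F) → ℂ) default) = 1 from rfl, map_one,
      mul_one, show ((default : (⊥ : Subgroup F)) : F) = 1 from Subgroup.mem_bot.mp (default : (⊥ : Subgroup F)).2]
    exact Char.irr_degree_ne_zero χ.2
  have hp1 : ¬ p ∣ Nat.card (⊥ : Subgroup F) := by
    rw [Subgroup.card_bot]; exact hM.1.not_dvd_one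
  have hLp : ∀ x ∈ Q, ∃ n : ℕ, x ^ p ^ n ∈ (⊥ : Subgroup F) := fun x hx => by
    obtain ⟨n, hn⟩ := hQ ⟨x, hx⟩
    exact ⟨n, Subgroup.mem_bot.mpr (congrArg Subtype.val hn)⟩
  refine ⟨hU ▸ isPBlock_overSet hinv hM hp1 bot_le hLp hQ le_rfl hQC.le, hU ▸
    (isDefectGroup_overSet_iff hinv hM hp1 bot_le hLp hQ le_rfl hQC.le Q).mpr ⟨hQ.toSylow hidx, rfl⟩⟩

/-- In a cyclic group of automorphisms a subgroup is given by its order. -/
theorem eq_of_card_eq {A : Type*} [CommGroup A] [IsCyclic A] [Finite A] {H K : Subgroup A}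
    (h : Nat.card H = Nat.card K) : H = K := by
  classical
  have := Fintype.ofFinite A
  set n := Nat.card H with hn
  have hn0 : 0 < n := Nat.card_pos
  have hle := IsCyclic.card_pow_eq_one_le (α := A) hn0
  have hsub : ∀ L : Subgroup A, Nat.card L = n →
      (Finset.univ.filter fun a : A => a ∈ L) = Finset.univ.filter fun a : A => a ^ n = 1 := by
    intro L hL
    refine Finset.eq_of_subset_of_card_le (fun a ha => ?_) ?_
    · refine Finset.mem_filter.mpr ⟨Finset.mem_univ _, ?_⟩
      have h1 := pow_card_eq_one' (x := (⟨a, (Finset.mem_filter.mp ha).2⟩ : L))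
      rw [hL] at h1
      exact congrArg Subtype.val h1
    · rw [← Fintype.card_subtype (fun a : A => a ∈ L), ← Nat.card_eq_fintype_card, hL]
      exact hle
  ext a
  have := Finset.ext_iff.mp ((hsub H hn.symm).trans (hsub K h.symm).symm) a
  simpa using this

/-- Subgroups of automorphisms of a cyclic `p`-group of order prime to `p` are given by their
order, and correspond under isomorphisms. -/
theorem mem_iff_congr_mem (hp : p.Prime) {A A' : Type*} [Group A] [Group A'] [Finite A] [Finite A']
    [IsCyclic A] [IsCyclic A'] {n : ℕ} (hA : Nat.card A = p ^ n) (φ : A ≃* A')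
    (E : Subgroup (MulAut A)) (E' : Subgroup (MulAut A')) (h : Nat.card E = Nat.card E')
    (h2 : p = 2 → Nat.card E = 1) :
    ∀ v : MulAut A, v ∈ E ↔ MulAut.congr φ v ∈ E' := by
  have hEE : E.map (MulAut.congr φ).toMonoidHom = E' := by
    have hcard : Nat.card (E.map (MulAut.congr φ).toMonoidHom) = Nat.card E' := by
      rw [Subgroup.card_map_of_injective (MulAut.congr φ).injective, h]
    rcases eq_or_ne p 2 with h2' | h2'
    · rw [Subgroup.card_eq_one.mp (h2 h2'), Subgroup.map_bot,
        (Subgroup.card_eq_one (H := E')).mp (h.symm.trans (h2 h2'))]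
    · have hA' : Nat.card A' = p ^ n := (Nat.card_congr φ.toEquiv).symm.trans hA
      haveI : IsCyclic (ZMod (p ^ n))ˣ := ZMod.isCyclic_units_of_prime_pow p hp h2' n
      let e : MulAut A' ≃* (ZMod (p ^ n))ˣ :=
        (IsCyclic.mulAutMulEquiv A').trans
          (Units.mapEquiv (ZMod.ringEquivCongr hA').toMulEquiv)
      refine Subgroup.map_injective e.injective (f := e.toMonoidHom) ?_
      refine eq_of_card_eq ?_
      rw [Subgroup.card_map_of_injective e.injective, hcard,
        Subgroup.card_map_of_injective e.injective]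
  intro v
  rw [← hEE, Subgroup.mem_map]
  exact ⟨fun hv => ⟨v, hv, rfl⟩, fun ⟨w, hw, he⟩ => (MulAut.congr φ).injective he ▸ hw⟩

end CfsgLib.Blocks.CyclicDefect
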