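import Cfsg.Agent.Lib.Blocks.CyclicDefect.Extensions
import Mathlib.RingTheory.RootsOfUnity.AlgebraicallyClosed
import Mathlib.Algebra.CharP.Lemmas
import Mathlib.Algebra.MonoidAlgebra.Module

/-!
# A cyclic extension of order prime to `p` of a uniserial local corner

`H` is generated over the normal subgroup `C` by `t`, `t ^ e ∈ C`, `e` prime to `p`, and `c` fixed by
`t` has matrix units in the span of `C` with a uniserial first corner conjugate to its translate:
the first corner of the span of `H` is a skew polynomial algebra, `H` has one representation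
`rep ω` for every `ω` with `ω ^ e = 1`, and an absolutely simple module of `Γ` has maps that are not
traces to at most one of them.
-/

set_option autoImplicit false
set_option linter.unusedSectionVars false

noncomputable section

namespace CfsgLib.Blocks.CyclicDefect

open MonoidAlgebra (of)

variable (k : Type*) [Field k] {Γ : Type*} [Group Γ]

/-- The data of a twist. -/
structure TwistData (H C : Subgroup Γ) (c : MonoidAlgebra k Γ) (e : ℕ) where
  L : LocalCorner k C c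
  t : Γ
  he : 0 < e
  ht : t ∈ H
  CH : C ≤ H
  gen : ∀ h ∈ H, ∃ a ∈ C, ∃ m : ℕ, h = a * t ^ m
  norm : ∀ a ∈ C, t * a * t⁻¹ ∈ C
  norm' : ∀ a ∈ C, t⁻¹ * a * t ∈ C
  hte : ∀ m : ℕ, t ^ m ∈ C ↔ e ∣ m
  comm : ∀ h ∈ H, c * of k Γ h = of k Γ h * c
  s : MonoidAlgebra k Γ
  α : k
  hα : α ^ e = 1
  s_comm : ∀ i j, s * L.U.E i j = L.U.E i j * s
  s_c : c * s = s ∧ s * c = s
  s_pow : s ^ e = c
  s_y : s * L.y = α • (L.y * s)
  s_mem : of k Γ t * s ∈ spanH k C

variable {k}

theorem one_coord {c : MonoidAlgebra k Γ} (U : CornerSys c) (i j : Fin (U.n + 1)) :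
    U.coord 1 i j = if i = j then U.E 0 0 else 0 := by
  rw [CornerSys.coord, mul_one, U.mul]

theorem spanH_mono {H K : Subgroup Γ} (h : H ≤ K) : spanH k H ≤ spanH k K :=
  Submodule.span_mono (Set.image_mono h)

theorem conj_mem_spanH {C : Subgroup Γ} {t : Γ} (ht : ∀ a ∈ C, t * a * t⁻¹ ∈ C)
    {a : MonoidAlgebra k Γ} (ha : a ∈ spanH k C) :
    of k Γ t * a * of k Γ t⁻¹ ∈ spanH k C := by
  induction ha using Submodule.span_induction with
  | mem x hx =>
    obtain ⟨h, hh, rfl⟩ := hx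
    rw [← map_mul, ← map_mul]
    exact of_mem_spanH (ht h hh)
  | zero => simp
  | add x x' _ _ h1 h2 => rw [mul_add, add_mul]; exact add_mem h1 h2
  | smul r x _ h1 => rw [mul_smul_comm, smul_mul_assoc]; exact Submodule.smul_mem _ _ h1

open Classical in
/-- The restriction to a subgroup. -/
def resTo (C : Subgroup Γ) : MonoidAlgebra k Γ →ₗ[k] MonoidAlgebra k Γ :=
  (MonoidAlgebra.basis Γ k).constr k fun g => if g ∈ C then of k Γ g else 0

open Classical in
theorem resTo_of (C : Subgroup Γ) (g : Γ) :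
    resTo C (of k Γ g) = if g ∈ C then of k Γ g else 0 := by
  have h : of k Γ g = MonoidAlgebra.basis Γ k g := by simp [of]
  conv_lhs => rw [h]
  rw [resTo, Module.Basis.constr_basis]

theorem resTo_mem {C : Subgroup Γ} {a : MonoidAlgebra k Γ} (ha : a ∈ spanH k C) :
    resTo C a = a := by
  induction ha using Submodule.span_induction with
  | mem x hx => obtain ⟨h, hh, rfl⟩ := hx; rw [resTo_of, if_pos (SetLike.mem_coe.mp hh)]
  | zero => simp
  | add x x' _ _ h1 h2 => rw [map_add, h1, h2]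
  | smul r x _ h1 => rw [map_smul, h1]

theorem resTo_of_mul {C : Subgroup Γ} {g : Γ} (hg : g ∉ C) {a : MonoidAlgebra k Γ}
    (ha : a ∈ spanH k C) : resTo C (of k Γ g * a) = 0 := by
  induction ha using Submodule.span_induction with
  | mem x hx =>
    obtain ⟨h, hh, rfl⟩ := hx
    rw [← map_mul, resTo_of, if_neg fun hm => hg ((C.mul_mem_cancel_right hh).mp hm)]
  | zero => simp
  | add x x' _ _ h1 h2 => rw [mul_add, map_add, h1, h2, add_zero]
  | smul r x _ h1 => rw [mul_smul_comm, map_smul, h1, smul_zero]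

namespace TwistData

variable {H C : Subgroup Γ} {c : MonoidAlgebra k Γ} {e : ℕ} (D : TwistData k H C c e)

theorem c_idem (D : TwistData k H C c e) : c * c = c := D.L.U.idem

/-- `s` is in a coset. -/
theorem pow_s_mem (j : ℕ) : of k Γ (D.t ^ (j + 1)) * D.s ^ (j + 1) ∈ spanH k C := by
  induction j with
  | zero => simpa using D.s_mem
  | succ j ih =>
    have h1 := conj_mem_spanH D.norm ih
    have h2 := mul_mem_spanH h1 D.s_mem
    convert h2 using 1
    rw [pow_succ' D.t (j + 1), map_mul, pow_succ D.s (j + 1)]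
    simp only [mul_assoc]
    rw [← mul_assoc (of k Γ D.t⁻¹) (of k Γ D.t), ← map_mul, inv_mul_cancel, map_one, one_mul]

theorem s_mul_pow {j : ℕ} (hj : e ≤ j) : D.s ^ j = D.s ^ (j - e) * c := by
  rw [show D.s ^ j = D.s ^ (j - e) * D.s ^ e by rw [← pow_add, Nat.sub_add_cancel hj], D.s_pow]

theorem conj_s_mem (j : ℕ) {a : MonoidAlgebra k Γ} (ha : a ∈ spanH k C) :
    D.s ^ (j + 1) * a * D.s ^ (e * (j + 1) - (j + 1)) ∈ spanH k C := by
  set i := e * (j + 1) - (j + 1) with hi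
  have hle : j + 1 ≤ e * (j + 1) := Nat.le_mul_of_pos_left _ D.he
  rcases Nat.eq_zero_or_pos i with h0 | hpos
  · have he1 : e = 1 := by
      by_contra hne
      have h2 : 2 * (j + 1) ≤ e * (j + 1) := Nat.mul_le_mul_right _ (by have := D.he; omega)
      omega
    subst he1
    rw [h0, pow_zero, mul_one, show j + 1 = 1 * (j + 1) from (one_mul _).symm, pow_mul, D.s_pow,
      (show c ^ (j + 1) = c from IsIdempotentElem.pow_succ_eq j D.c_idem)]
    exact mul_mem_spanH D.L.c_mem ha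
  obtain ⟨i', hi'⟩ := Nat.exists_eq_succ_of_ne_zero hpos.ne'
  have h1 := D.pow_s_mem j
  have h2 := D.pow_s_mem i'
  rw [Nat.succ_eq_add_one] at hi'
  rw [← hi'] at h2
  -- `s ^ (j+1) a s ^ i = t⁻ʲ⁻¹ (…) a t⁻ⁱ (…)`
  have key : D.s ^ (j + 1) * a * D.s ^ i =
      of k Γ ((D.t ^ (j + 1) * D.t ^ i)⁻¹ * 1) *
        (of k Γ (D.t ^ i) * (of k Γ (D.t ^ (j + 1)) * D.s ^ (j + 1) * a) * of k Γ (D.t ^ i)⁻¹) *
          (of k Γ (D.t ^ i) * D.s ^ i) := by
    simp only [mul_assoc, ← mul_assoc (of k Γ _) (of k Γ _), ← map_mul, inv_mul_cancel, map_one,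
      one_mul, mul_one, mul_inv_rev]
    simp only [← mul_assoc, ← map_mul]
    rw [show (D.t ^ i)⁻¹ * (D.t ^ (j + 1))⁻¹ * D.t ^ i * D.t ^ (j + 1) = 1 by
      rw [← mul_inv_rev, ← pow_add, mul_assoc, ← pow_add, add_comm i, inv_mul_cancel], map_one,
      one_mul]
  rw [key]
  refine mul_mem_spanH (mul_mem_spanH (of_mem_spanH ?_) ?_) h2
  · rw [mul_one, inv_mem_iff, ← pow_add, hi, Nat.add_sub_cancel' hle, D.hte]
    exact dvd_mul_right e _
  · refine conj_mem_spanH (fun b hb => ?_) (mul_mem_spanH h1 ha)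
    clear h2 key hi' hpos hi
    induction i generalizing b with
    | zero => simpa using hb
    | succ m ih =>
      have := ih _ (D.norm b hb)
      simpa [pow_succ, mul_assoc] using this

/-- The normal forms. -/
def forms : Submodule k (MonoidAlgebra k Γ) :=
  Submodule.span k {x | ∃ a ∈ spanH k C, ∃ j : ℕ, x = a * D.s ^ j}

theorem s_pow_mul {a : MonoidAlgebra k Γ} (ha : a ∈ spanH k C) (hca : c * a = a) (j : ℕ) :
    ∃ a' ∈ spanH k C, D.s ^ j * a = a' * D.s ^ j := by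
  rcases j with - | j
  · exact ⟨a, ha, by simp⟩
  refine ⟨_, D.conj_s_mem j ha, ?_⟩
  have hle : j + 1 ≤ e * (j + 1) := Nat.le_mul_of_pos_left _ D.he
  rw [mul_assoc (D.s ^ (j + 1) * a), ← pow_add, Nat.sub_add_cancel hle, pow_mul, D.s_pow,
    (show c ^ (j + 1) = c from IsIdempotentElem.pow_succ_eq j D.c_idem), mul_assoc,
    ← D.L.comm_mem ha, hca]

theorem t_mul_c : ∃ b ∈ spanH k C, of k Γ D.t * c = b * D.s ^ (e - 1) := by
  refine ⟨_, D.s_mem, ?_⟩
  rw [mul_assoc, ← pow_succ', Nat.sub_add_cancel D.he, D.s_pow]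

theorem of_mul_c_mem {h : Γ} (hh : h ∈ H) : of k Γ h * c ∈ D.forms := by
  obtain ⟨a, ha, m, rfl⟩ := D.gen h hh
  induction m with
  | zero =>
    refine Submodule.subset_span ⟨of k Γ a * c, mul_mem_spanH (of_mem_spanH ha) D.L.c_mem, 0, ?_⟩
    simp
  | succ m ih =>
    have hmem : a * D.t ^ m ∈ H := H.mul_mem (D.CH ha) (H.pow_mem D.ht m)
    specialize ih hmem
    obtain ⟨b, hb, hbe⟩ := D.t_mul_c
    have hrw : of k Γ (a * D.t ^ (m + 1)) * c = of k Γ (a * D.t ^ m) * c * (b * D.s ^ (e - 1)) := by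
      rw [← hbe, pow_succ, ← mul_assoc a, map_mul, mul_assoc (of k Γ (a * D.t ^ m)) c,
        ← mul_assoc c (of k Γ D.t) c, D.comm _ D.ht, mul_assoc (of k Γ D.t) c c, D.c_idem,
        ← mul_assoc]
    rw [hrw]
    generalize of k Γ (a * D.t ^ m) * c = w at ih ⊢
    induction ih using Submodule.span_induction with
    | mem x hx =>
      obtain ⟨a', ha', j, rfl⟩ := hx
      obtain ⟨b', hb', hbe'⟩ := D.s_pow_mul (a := c * b) (mul_mem_spanH D.L.c_mem hb)
        (by rw [← mul_assoc, D.c_idem]) j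
      refine Submodule.subset_span ⟨a' * b', mul_mem_spanH ha' hb', j + (e - 1), ?_⟩
      rw [mul_assoc a', ← mul_assoc (D.s ^ j)]
      rcases j with - | j
      · simp only [pow_zero, one_mul, mul_one] at hbe' ⊢
        rw [zero_add, ← hbe', D.L.comm_mem hb]
        rcases Nat.eq_zero_or_pos (e - 1) with h0 | h0
        · simp only [h0, pow_zero, mul_one, mul_assoc]
          rw [h0, pow_zero, mul_one] at hbe
          rw [← hbe, mul_assoc (of k Γ D.t) c c, D.c_idem]
        · obtain ⟨r, hr⟩ := Nat.exists_eq_succ_of_ne_zero h0.ne'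
          rw [hr, Nat.succ_eq_add_one, pow_succ', mul_assoc a' (b * c), mul_assoc b c, ← mul_assoc c D.s, D.s_c.1]
      · rw [show D.s ^ (j + 1) * b = D.s ^ (j + 1) * (c * b) by
          rw [← mul_assoc, pow_succ, mul_assoc (D.s ^ j) D.s c, D.s_c.2], hbe', mul_assoc b',
          ← pow_add, ← mul_assoc]
    | zero => rw [zero_mul]; exact zero_mem _
    | add x y _ _ h1 h2 => rw [add_mul]; exact add_mem h1 h2
    | smul r x _ h1 => rw [smul_mul_assoc]; exact Submodule.smul_mem _ _ h1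

theorem eps_s_pow (j : ℕ) : D.L.eps * D.s ^ j = D.s ^ j * D.L.eps := by
  induction j with
  | zero => simp
  | succ j ih => rw [pow_succ, ← mul_assoc, ih, mul_assoc, ← D.s_comm 0 0, mul_assoc]

theorem E_s_pow (a b : Fin (D.L.U.n + 1)) (j : ℕ) :
    D.L.U.E a b * D.s ^ j = D.s ^ j * D.L.U.E a b := by
  induction j with
  | zero => simp
  | succ j ih => rw [pow_succ, ← mul_assoc, ih, mul_assoc, ← D.s_comm a b, mul_assoc]

theorem s_pow_y (j : ℕ) : D.s ^ j * D.L.y = D.α ^ j • (D.L.y * D.s ^ j) := pow_mul_y_ring D.s_y j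
where
  pow_mul_y_ring {A : Type _} [Ring A] [Algebra k A] {s y : A} {α : k}
      (h : s * y = α • (y * s)) (j : ℕ) : s ^ j * y = α ^ j • (y * s ^ j) := by
    induction j with
    | zero => simp
    | succ j ih =>
      rw [pow_succ', mul_assoc, ih, mul_smul_comm, ← mul_assoc, h, smul_mul_assoc, smul_smul,
        mul_assoc, ← pow_succ', ← pow_succ]

theorem s_pow_eps_pow (j r : ℕ) :
    D.s ^ j * (D.L.eps * D.L.y ^ r) = D.α ^ (j * r) • (D.L.eps * D.L.y ^ r * D.s ^ j) := by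
  induction r with
  | zero => simp [D.eps_s_pow]
  | succ r ih =>
    rw [pow_succ, ← mul_assoc D.L.eps, ← mul_assoc, ih, smul_mul_assoc, mul_assoc _ (D.s ^ j) D.L.y,
      D.s_pow_y, mul_smul_comm, smul_smul, ← pow_add, ← mul_assoc, mul_add, mul_one]

/-! ### The representations -/

theorem exists_mu (L : LocalCorner k C c) :
    ∃ μ : MonoidAlgebra k Γ →ₗ[k] k, μ L.eps = 1 ∧ ∀ r : ℕ, μ (L.eps * L.y ^ (r + 1)) = 0 := by
  set S := Submodule.span k (Set.range fun r : ℕ => L.eps * L.y ^ (r + 1))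
  have hne : L.eps ∉ S := by
    intro hmem
    refine L.hyN' ?_
    suffices h : ∀ x ∈ S, x * L.y ^ (L.N - 1) = 0 by exact h _ hmem
    intro x hx
    induction hx using Submodule.span_induction with
    | mem z hz =>
      obtain ⟨r, rfl⟩ := hz
      show L.eps * L.y ^ (r + 1) * L.y ^ (L.N - 1) = 0
      rw [mul_assoc, ← pow_add, show r + 1 + (L.N - 1) = L.N + r by have := L.hN; omega, pow_add,
        L.hyN, zero_mul, mul_zero]
    | zero => exact zero_mul _
    | add z z' _ _ h1 h2 => rw [add_mul, h1, h2, add_zero]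
    | smul r z _ h1 => rw [smul_mul_assoc, h1, smul_zero]
  obtain ⟨f, hf, hfS⟩ := Submodule.exists_dual_map_eq_bot_of_notMem hne inferInstance
  refine ⟨(f L.eps)⁻¹ • f, by simp [hf], fun r => ?_⟩
  have : f (L.eps * L.y ^ (r + 1)) ∈ S.map f :=
    Submodule.mem_map.mpr ⟨_, Submodule.subset_span ⟨r, rfl⟩, rfl⟩
  rw [hfS, Submodule.mem_bot] at this
  simp [this]

/-- The functional of the corner. -/
def mu : MonoidAlgebra k Γ →ₗ[k] k := (exists_mu D.L).choose

theorem mu_pow (r : ℕ) : D.mu (D.L.eps * D.L.y ^ r) = if r = 0 then 1 else 0 := by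
  rcases r with - | r
  · simpa [mu] using (exists_mu D.L).choose_spec.1
  · simpa [mu] using (exists_mu D.L).choose_spec.2 r

theorem mu_mul {q q' : MonoidAlgebra k Γ} (hq : q ∈ D.L.poly) (hq' : q' ∈ D.L.poly) :
    D.mu (q * q') = D.mu q * D.mu q' := by
  induction hq using Submodule.span_induction with
  | mem x hx =>
    obtain ⟨r, rfl⟩ := hx
    induction hq' using Submodule.span_induction with
    | mem z hz =>
      obtain ⟨r', rfl⟩ := hz
      rw [show D.L.eps * D.L.y ^ r * (D.L.eps * D.L.y ^ r') = D.L.eps * D.L.y ^ (r + r') by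
        rw [mul_assoc, ← mul_assoc (D.L.y ^ r), ← D.L.eps_pow, ← mul_assoc, ← mul_assoc,
          D.L.U.mul_same 0 0 0, mul_assoc, ← pow_add], D.mu_pow, D.mu_pow, D.mu_pow]
      rcases r with - | r <;> simp
    | zero => simp
    | add z z' _ _ h1 h2 => rw [mul_add, map_add, h1, h2, map_add, mul_add]
    | smul r z _ h1 => rw [mul_smul_comm, map_smul, h1, map_smul, smul_eq_mul, smul_eq_mul]; ring
  | zero => simp
  | add x x' _ _ h1 h2 => rw [add_mul, map_add, h1, h2, map_add, add_mul]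
  | smul r x _ h1 => rw [smul_mul_assoc, map_smul, h1, map_smul, smul_eq_mul, smul_eq_mul]; ring

theorem exists_s_pow_poly (j : ℕ) {q : MonoidAlgebra k Γ} (hq : q ∈ D.L.poly) :
    ∃ q' ∈ D.L.poly, D.s ^ j * q = q' * D.s ^ j ∧ D.mu q' = D.mu q := by
  induction hq using Submodule.span_induction with
  | mem x hx =>
    obtain ⟨r, rfl⟩ := hx
    refine ⟨D.α ^ (j * r) • (D.L.eps * D.L.y ^ r),
      Submodule.smul_mem _ _ (Submodule.subset_span ⟨r, rfl⟩), ?_, ?_⟩
    · rw [smul_mul_assoc]; exact D.s_pow_eps_pow j r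
    · rw [map_smul, D.mu_pow]
      rcases r with - | r <;> simp
  | zero => exact ⟨0, zero_mem _, by simp, rfl⟩
  | add x x' _ _ h1 h2 =>
    obtain ⟨a, ha, e1, f1⟩ := h1
    obtain ⟨b, hb, e2, f2⟩ := h2
    exact ⟨a + b, add_mem ha hb, by rw [mul_add, e1, e2, add_mul], by rw [map_add, map_add, f1, f2]⟩
  | smul r x _ h1 =>
    obtain ⟨a, ha, e1, f1⟩ := h1
    exact ⟨r • a, Submodule.smul_mem _ _ ha, by rw [mul_smul_comm, e1, smul_mul_assoc],
      by rw [map_smul, map_smul, f1]⟩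

/-- The functional of a twist. -/
def theta (ω : k) : MonoidAlgebra k Γ →ₗ[k] k :=
  ∑ m ∈ Finset.range e, ω ^ m • (D.mu ∘ₗ resTo C ∘ₗ LinearMap.mulRight k (D.s ^ (e - m)))

theorem theta_form {ω : k} (hω : ω ^ e = 1) {q : MonoidAlgebra k Γ} (hq : q ∈ D.L.poly) (j : ℕ) :
    D.theta ω (q * D.s ^ j) = ω ^ j * D.mu q := by
  simp only [theta, LinearMap.sum_apply, LinearMap.smul_apply, LinearMap.comp_apply,
    LinearMap.mulRight_apply, smul_eq_mul]
  have hqc : q * c = q := by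
    induction hq using Submodule.span_induction with
    | mem x hx =>
      obtain ⟨r, rfl⟩ := hx
      dsimp only
      rw [D.L.eps_pow, mul_assoc, D.L.U.mul_e]
    | zero => exact zero_mul _
    | add x y _ _ h1 h2 => rw [add_mul, h1, h2]
    | smul r x _ h1 => rw [smul_mul_assoc, h1]
  rw [Finset.sum_eq_single (j % e)]
  · have hdiv : e ∣ j + (e - j % e) := by
      refine ⟨j / e + 1, ?_⟩
      have h1 := Nat.div_add_mod j e
      have h2 := Nat.mod_lt j D.he
      rw [mul_add, mul_one]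
      omega
    obtain ⟨r, hr⟩ := hdiv
    have hr0 : r ≠ 0 := fun h => by
      rw [h, mul_zero] at hr
      have := Nat.mod_lt j D.he
      omega
    obtain ⟨r', rfl⟩ := Nat.exists_eq_succ_of_ne_zero hr0
    rw [mul_assoc, ← pow_add, hr, pow_mul, D.s_pow,
      (show c ^ (r'.succ) = c from IsIdempotentElem.pow_succ_eq r' D.c_idem), hqc,
      resTo_mem (D.L.poly_le hq)]
    conv_rhs => rw [← Nat.div_add_mod j e, pow_add, pow_mul, hω, one_pow, one_mul]
  · intro m hm hne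
    have hm' := Finset.mem_range.mp hm
    have hnd : ¬ e ∣ j + (e - m) := by
      rintro ⟨r, hr⟩
      refine hne ?_
      have h1 : (j + (e - m) + m) % e = (e * r + m) % e := by rw [hr]
      rw [show j + (e - m) + m = j + e by omega, Nat.add_mod_right, Nat.mul_add_mod,
        Nat.mod_eq_of_lt hm'] at h1
      exact h1.symm
    obtain ⟨i, hi⟩ := Nat.exists_eq_succ_of_ne_zero (n := j + (e - m)) (fun h => hnd (h ▸ dvd_zero e))
    rw [mul_assoc, ← pow_add, hi, Nat.succ_eq_add_one]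
    have hsplit : q * D.s ^ (i + 1) = of k Γ (D.t ^ (i + 1))⁻¹ *
        ((of k Γ (D.t ^ (i + 1)) * q * of k Γ (D.t ^ (i + 1))⁻¹) *
          (of k Γ (D.t ^ (i + 1)) * D.s ^ (i + 1))) := by
      simp only [mul_assoc, ← mul_assoc (of k Γ _) (of k Γ _), ← map_mul, inv_mul_cancel, map_one,
        one_mul]
    have hnot : (D.t ^ (i + 1))⁻¹ ∉ C := fun h => hnd (by
      have := (inv_mem_iff).mp h
      rwa [D.hte, ← Nat.succ_eq_add_one, ← hi] at this)
    rw [hsplit, resTo_of_mul hnot (mul_mem_spanH (conj_mem_spanH (fun b hb => ?_)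
      (D.L.poly_le hq)) (D.pow_s_mem i)), map_zero, mul_zero]
    clear hsplit hnot hi
    induction i + 1 generalizing b with
    | zero => simpa using hb
    | succ n ih =>
      have := ih _ (D.norm b hb)
      simpa [pow_succ, mul_assoc] using this
  · intro h
    exact absurd (Finset.mem_range.mpr (Nat.mod_lt j D.he)) h

/-- The corner normal forms. -/
def cornerForms : Submodule k (MonoidAlgebra k Γ) :=
  Submodule.span k {x | ∃ q ∈ D.L.poly, ∃ j : ℕ, x = q * D.s ^ j}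

theorem coord_mem_cornerForms {x : MonoidAlgebra k Γ} (hx : x ∈ D.forms)
    (i l : Fin (D.L.U.n + 1)) : D.L.U.coord x i l ∈ D.cornerForms := by
  induction hx using Submodule.span_induction with
  | mem z hz =>
    obtain ⟨a, ha, j, rfl⟩ := hz
    refine Submodule.subset_span ⟨D.L.U.coord a i l, D.L.coord_mem ha i l, j, ?_⟩
    simp only [CornerSys.coord, mul_assoc, D.E_s_pow]
  | zero => simp [CornerSys.coord]
  | add z z' _ _ h1 h2 =>
    have := add_mem h1 h2
    simpa [CornerSys.coord, mul_add, add_mul] using this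
  | smul r z _ h1 =>
    have := D.cornerForms.smul_mem r h1
    simpa [CornerSys.coord, mul_smul_comm, smul_mul_assoc] using this

theorem theta_mul {ω : k} (hω : ω ^ e = 1) {x z : MonoidAlgebra k Γ} (hx : x ∈ D.cornerForms)
    (hz : z ∈ D.cornerForms) : D.theta ω (x * z) = D.theta ω x * D.theta ω z := by
  induction hx using Submodule.span_induction with
  | mem a ha =>
    obtain ⟨q, hq, j, rfl⟩ := ha
    induction hz using Submodule.span_induction with
    | mem b hb =>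
      obtain ⟨q', hq', j', rfl⟩ := hb
      obtain ⟨q'', hq'', he', hmu⟩ := D.exists_s_pow_poly j hq'
      have hprod : q * q'' ∈ D.L.poly := by
        have h1 := D.L.coord_mem (mul_mem_spanH (D.L.poly_le hq) (D.L.poly_le hq'')) 0 0
        have e1 : ∀ w ∈ D.L.poly, D.L.eps * w = w ∧ w * D.L.eps = w := fun w hw => by
          induction hw using Submodule.span_induction with
          | mem x hx =>
            obtain ⟨r, rfl⟩ := hx
            exact ⟨by dsimp only; rw [← mul_assoc, D.L.U.mul_same 0 0 0],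
              by dsimp only; rw [D.L.eps_pow, mul_assoc, D.L.U.mul_same 0 0 0]⟩
          | zero => simp
          | add x y _ _ h1 h2 => exact ⟨by rw [mul_add, h1.1, h2.1], by rw [add_mul, h1.2, h2.2]⟩
          | smul r x _ h1 => exact ⟨by rw [mul_smul_comm, h1.1], by rw [smul_mul_assoc, h1.2]⟩
        rwa [CornerSys.coord, ← mul_assoc, (e1 q hq).1, mul_assoc, (e1 q'' hq'').2] at h1
      rw [show q * D.s ^ j * (q' * D.s ^ j') = q * q'' * D.s ^ (j + j') by
        rw [mul_assoc, ← mul_assoc (D.s ^ j), he', mul_assoc q'', ← pow_add, ← mul_assoc],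
        D.theta_form hω hprod, D.theta_form hω hq, D.theta_form hω hq', D.mu_mul hq hq'', hmu,
        pow_add]
      ring
    | zero => simp
    | add b b' _ _ h1 h2 => rw [mul_add, map_add, h1, h2, map_add, mul_add]
    | smul r b _ h1 => rw [mul_smul_comm, map_smul, h1, map_smul, smul_eq_mul, smul_eq_mul]; ring
  | zero => simp
  | add a a' _ _ h1 h2 => rw [add_mul, map_add, h1, h2, map_add, add_mul]
  | smul r a _ h1 => rw [smul_mul_assoc, map_smul, h1, map_smul, smul_eq_mul, smul_eq_mul]; ring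

/-- The representation of a twist. -/
def rep (ω : k) : MonoidAlgebra k Γ →ₗ[k]
    Matrix (Fin (D.L.U.n + 1)) (Fin (D.L.U.n + 1)) k where
  toFun a := Matrix.of fun i j => D.theta ω (D.L.U.coord a i j)
  map_add' a b := by ext i j; simp [CornerSys.coord, mul_add, add_mul]
  map_smul' r a := by ext i j; simp [CornerSys.coord]

theorem rep_apply (ω : k) (a : MonoidAlgebra k Γ) (i j : Fin (D.L.U.n + 1)) :
    D.rep ω a i j = D.theta ω (D.L.U.coord a i j) := rfl

theorem theta_eps {ω : k} (hω : ω ^ e = 1) : D.theta ω D.L.eps = 1 := by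
  have := D.theta_form hω (Submodule.subset_span ⟨0, rfl⟩) 0
  simp only [pow_zero, mul_one, one_mul] at this
  rw [this]
  simpa using D.mu_pow 0

theorem rep_one {ω : k} (hω : ω ^ e = 1) : D.rep ω 1 = 1 := by
  ext i j
  rw [rep_apply, one_coord, Matrix.one_apply]
  split_ifs
  · exact D.theta_eps hω
  · exact map_zero _

theorem mem_forms_of_spanH {a : MonoidAlgebra k Γ} (ha : a ∈ spanH k H) : a * c ∈ D.forms := by
  induction ha using Submodule.span_induction with
  | mem x hx => obtain ⟨h, hh, rfl⟩ := hx; exact D.of_mul_c_mem hh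
  | zero => rw [zero_mul]; exact zero_mem _
  | add x x' _ _ h1 h2 => rw [add_mul]; exact add_mem h1 h2
  | smul r x _ h1 => rw [smul_mul_assoc]; exact Submodule.smul_mem _ _ h1

theorem comm_mem_H (D : TwistData k H C c e) {a : MonoidAlgebra k Γ} (ha : a ∈ spanH k H) :
    c * a = a * c := by
  induction ha using Submodule.span_induction with
  | mem x hx => obtain ⟨h, hh, rfl⟩ := hx; exact D.comm h hh
  | zero => simp
  | add x x' _ _ h1 h2 => rw [mul_add, add_mul, h1, h2]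
  | smul r x _ h1 => rw [mul_smul_comm, smul_mul_assoc, h1]

theorem coord_mul_c (a : MonoidAlgebra k Γ) (i j : Fin (D.L.U.n + 1)) :
    D.L.U.coord (a * c) i j = D.L.U.coord a i j := by
  simp only [CornerSys.coord, mul_assoc, D.L.U.e_mul]

theorem rep_mul {ω : k} (hω : ω ^ e = 1) {a b : MonoidAlgebra k Γ} (ha : a ∈ spanH k H)
    (hb : b ∈ spanH k H) : D.rep ω (a * b) = D.rep ω a * D.rep ω b := by
  ext i j
  rw [Matrix.mul_apply, rep_apply]
  rw [show D.L.U.coord (a * b) i j = D.L.U.coord (a * c * b) i j by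
    rw [← D.coord_mul_c (a * b), mul_assoc, ← D.comm_mem_H hb, ← mul_assoc],
    D.L.U.coord_mul (by rw [mul_assoc, D.c_idem]) i j, map_sum]
  refine Finset.sum_congr rfl fun l _ => ?_
  rw [rep_apply, rep_apply, ← D.coord_mul_c b l j,
    D.theta_mul hω (D.coord_mem_cornerForms (D.mem_forms_of_spanH ha) i l)
      (D.coord_mem_cornerForms (D.mem_forms_of_spanH hb) l j), D.coord_mul_c]

theorem rep_spanC {ω : k} (hω : ω ^ e = 1) {a : MonoidAlgebra k Γ} (ha : a ∈ spanH k C)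
    (i j : Fin (D.L.U.n + 1)) : D.rep ω a i j = D.mu (D.L.U.coord a i j) := by
  rw [rep_apply]
  have := D.theta_form hω (D.L.coord_mem ha i j) 0
  simpa using this

theorem rep_unit {ω : k} (hω : ω ^ e = 1) (a b : Fin (D.L.U.n + 1)) :
    D.rep ω (D.L.U.E a b) = Matrix.single a b 1 := by
  ext i j
  rw [rep_apply, CornerSys.coord, D.L.U.mul, Matrix.single_apply]
  by_cases h1 : i = a
  · subst h1
    rw [if_pos rfl, D.L.U.mul]
    by_cases h2 : b = j
    · rw [if_pos h2, if_pos ⟨rfl, h2⟩]; exact D.theta_eps hω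
    · rw [if_neg h2, if_neg fun h => h2 h.2]; exact map_zero _
  · rw [if_neg h1, zero_mul, if_neg fun h => h1 h.1.symm]; exact map_zero _

theorem rep_c {ω : k} (hω : ω ^ e = 1) : D.rep ω c = 1 := by
  ext i j
  rw [rep_apply, CornerSys.coord, D.L.U.mul_e, D.L.U.mul, Matrix.one_apply]
  split_ifs
  · exact D.theta_eps hω
  · exact map_zero _

theorem rep_y {ω : k} (hω : ω ^ e = 1) (j : Fin (D.L.U.n + 1)) : D.rep ω D.L.y 0 j = 0 := by
  rw [D.rep_spanC hω D.L.mem_y, CornerSys.coord]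
  by_cases hj : j = 0
  · subst hj
    rw [mul_assoc, D.L.hy.2]
    simpa using D.mu_pow 1
  · rw [mul_assoc, ← D.L.hy.2, mul_assoc, D.L.U.mul, if_neg (Ne.symm hj), mul_zero, mul_zero,
      map_zero]

theorem mem_s : D.s ∈ spanH k H := by
  have h : D.s = of k Γ D.t⁻¹ * (of k Γ D.t * D.s) := by
    rw [← mul_assoc, ← map_mul, inv_mul_cancel, map_one, one_mul]
  rw [h]
  exact mul_mem_spanH (of_mem_spanH (H.inv_mem D.ht)) (spanH_mono D.CH D.s_mem)

theorem rep_s {ω : k} (hω : ω ^ e = 1) (j : Fin (D.L.U.n + 1)) :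
    D.rep ω D.s 0 j = if j = 0 then ω else 0 := by
  rw [rep_apply, CornerSys.coord, mul_assoc, D.s_comm, ← mul_assoc, D.L.U.mul]
  by_cases hj : j = 0
  · subst hj
    rw [if_pos rfl, if_pos rfl]
    have h1 : D.L.U.E 0 0 = D.L.eps * D.L.y ^ 0 := by simp
    rw [h1]
    conv_lhs => arg 2; arg 2; rw [← pow_one D.s]
    rw [D.theta_form hω (Submodule.subset_span ⟨0, rfl⟩) 1, D.mu_pow]
    simp
  · rw [if_neg (Ne.symm hj), zero_mul, map_zero, if_neg hj]

set_option maxHeartbeats 1000000 in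
/-- Maps of `Γ`-modules with scalar endomorphisms to two twists: one is a trace. -/
theorem twist_unique [IsAlgClosed k] [Fintype Γ] (hek : (e : k) ≠ 0) {P Nz : Subgroup Γ}
    {β : MonoidAlgebra k Γ} (hTr : TraceData (of k Γ) H P Nz c β) [DecidablePred (· ∈ H)]
    {X : Type*} [AddCommGroup X] [Module k X] [FiniteDimensional k X] [Nontrivial X]
    {Φ : MonoidAlgebra k Γ →ₐ[k] Module.End k X} (hΦ : Function.Surjective Φ) {ω ω' : k}
    (hω : ω ^ e = 1) (hω' : ω' ^ e = 1) (hne : ω ≠ ω')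
    {f f' : X →ₗ[k] (Fin (D.L.U.n + 1) → k)}
    (hf : ∀ h ∈ H, f ∘ₗ Φ (of k Γ h) = (D.rep ω (of k Γ h)).mulVecLin ∘ₗ f)
    (hf' : ∀ h ∈ H, f' ∘ₗ Φ (of k Γ h) = (D.rep ω' (of k Γ h)).mulVecLin ∘ₗ f') :
    (∃ g : X →ₗ[k] (Fin (D.L.U.n + 1) → k), f = ∑ h : Γ with h ∈ H,
      (D.rep ω (of k Γ h)).mulVecLin ∘ₗ g ∘ₗ Φ (of k Γ h⁻¹)) ∨
    (∃ g : X →ₗ[k] (Fin (D.L.U.n + 1) → k), f' = ∑ h : Γ with h ∈ H,
      (D.rep ω' (of k Γ h)).mulVecLin ∘ₗ g ∘ₗ Φ (of k Γ h⁻¹)) := by
  classical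
  have hspan : ∀ {μ : k} {g : X →ₗ[k] (Fin (D.L.U.n + 1) → k)},
      (∀ h ∈ H, g ∘ₗ Φ (of k Γ h) = (D.rep μ (of k Γ h)).mulVecLin ∘ₗ g) →
      ∀ a ∈ spanH k H, ∀ x, g (Φ a x) = (D.rep μ a).mulVec (g x) := by
    intro μ g hg a ha
    induction ha using Submodule.span_induction with
    | mem z hz => obtain ⟨h, hh, rfl⟩ := hz; exact fun x => LinearMap.congr_fun (hg h hh) x
    | zero => intro x; simp
    | add z z' _ _ h1 h2 => intro x; simp [h1, h2, Matrix.add_mulVec]
    | smul r z _ h1 => intro x; simp [h1, Matrix.smul_mulVec]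
  have hEH : ∀ a b, D.L.U.E a b ∈ spanH k H := fun a b => spanH_mono D.CH (D.L.mem_E a b)
  set Y := LinearMap.range (Φ D.L.eps)
  have hYmem : ∀ x, x ∈ Y ↔ Φ D.L.eps x = x := fun x => by
    constructor
    · rintro ⟨u, rfl⟩; rw [← Module.End.mul_apply, ← map_mul, D.L.U.mul_same]
    · exact fun h => ⟨x, h⟩
  set yY : Module.End k Y := (Φ D.L.y).restrict fun x _ =>
    (hYmem _).mpr (by rw [← Module.End.mul_apply, ← map_mul, D.L.hy.1])
  set sY : Module.End k Y := (Φ D.s).restrict fun x hx => (hYmem _).mpr (by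
    rw [← Module.End.mul_apply, ← map_mul, ← D.s_comm 0 0, map_mul, Module.End.mul_apply,
      (hYmem x).mp hx])
  have hsYpow : ∀ (r : ℕ) (x : Y), (((sY ^ r) x : Y) : X) = Φ (D.s ^ r) (x : X) := fun r x => by
    induction r with
    | zero => simp
    | succ r ih =>
      rw [pow_succ', pow_succ', map_mul, Module.End.mul_apply, Module.End.mul_apply, ← ih]; rfl
  have hyYpow : ∀ (r : ℕ) (x : Y), (((yY ^ r) x : Y) : X) = Φ (D.L.y ^ r) (x : X) := fun r x => by
    induction r with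
    | zero => simp
    | succ r ih =>
      rw [pow_succ', pow_succ', map_mul, Module.End.mul_apply, Module.End.mul_apply, ← ih]; rfl
  have hsY : sY ^ e = 1 := LinearMap.ext fun x => Subtype.ext (by
    rw [hsYpow, D.s_pow]
    conv_lhs => rw [← (hYmem _).mp x.2, ← Module.End.mul_apply, ← map_mul, D.L.U.e_mul,
      (hYmem _).mp x.2]
    rfl)
  have hsyY : sY * yY = D.α • (yY * sY) := LinearMap.ext fun x => Subtype.ext (by
    show Φ D.s (Φ D.L.y (x : X)) = D.α • Φ D.L.y (Φ D.s (x : X))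
    rw [← Module.End.mul_apply, ← map_mul, D.s_y, map_smul, LinearMap.smul_apply, map_mul,
      Module.End.mul_apply])
  have hyYnil : IsNilpotent yY := ⟨D.L.N, LinearMap.ext fun x => Subtype.ext (by
    rw [hyYpow, D.L.hyN, map_zero]; rfl)⟩
  have : NeZero (e : k) := ⟨hek⟩
  obtain ⟨ζ, hζ⟩ := HasEnoughRootsOfUnity.exists_primitiveRoot k e
  obtain ⟨Ch⟩ := exists_chains hsY hek D.hα hsyY hyYnil hζ
  set pr : X →ₗ[k] Y := (Φ D.L.eps).rangeRestrict
  have hg : ∀ {μ : k} (_ : μ ^ e = 1) {g : X →ₗ[k] (Fin (D.L.U.n + 1) → k)},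
      (∀ h ∈ H, g ∘ₗ Φ (of k Γ h) = (D.rep μ (of k Γ h)).mulVecLin ∘ₗ g) →
      (∀ x : Y, g (yY x : Y) 0 = 0) ∧ ∀ x : Y, g (sY x : Y) 0 = μ * g (x : X) 0 := by
    intro μ hμ g hg
    constructor
    · intro x
      show g (Φ D.L.y (x : X)) 0 = 0
      rw [hspan hg _ (spanH_mono D.CH D.L.mem_y), Matrix.mulVec, dotProduct]
      exact Finset.sum_eq_zero fun j _ => by rw [D.rep_y hμ, zero_mul]
    · intro x
      show g (Φ D.s (x : X)) 0 = _
      rw [hspan hg _ D.mem_s, Matrix.mulVec, dotProduct, Finset.sum_eq_single 0]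
      · rw [D.rep_s hμ, if_pos rfl]
      · intro j _ hj; rw [D.rep_s hμ, if_neg hj, zero_mul]
      · simp
  set p0 : (Fin (D.L.U.n + 1) → k) →ₗ[k] k := LinearMap.proj 0
  obtain ⟨hfy, hfs⟩ := hg hω hf
  obtain ⟨hfy', hfs'⟩ := hg hω' hf'
  obtain ⟨π, hπc1, hπc2, hπf, hπf'⟩ : ∃ π : Module.End k Y, π * yY = yY * π ∧ π * sY = sY * π ∧
      (p0 ∘ₗ f ∘ₗ Y.subtype) ∘ₗ π = p0 ∘ₗ f ∘ₗ Y.subtype ∧
      (p0 ∘ₗ f' ∘ₗ Y.subtype) ∘ₗ π = 0 :=
    ⟨_, Ch.proj_comm_y _, Ch.proj_comm_s hsyY _, Ch.separate (W := k) hne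
      (f := p0 ∘ₗ f ∘ₗ Y.subtype) (f' := p0 ∘ₗ f' ∘ₗ Y.subtype) hfy hfy'
      (fun x => hfs x) (fun x => hfs' x)⟩
  set π₀ : Module.End k X := Y.subtype ∘ₗ π ∘ₗ pr
  have hπε : π₀ ∘ₗ Φ D.L.eps = Φ D.L.eps ∘ₗ π₀ := LinearMap.ext fun x => by
    show ((π (pr (Φ D.L.eps x)) : Y) : X) = Φ D.L.eps ((π (pr x) : Y) : X)
    rw [(hYmem _).mp (π (pr x)).2, show pr (Φ D.L.eps x) = pr x from Subtype.ext
      ((hYmem _).mp ⟨x, rfl⟩)]
  have hπy : π₀ ∘ₗ Φ D.L.y = Φ D.L.y ∘ₗ π₀ := LinearMap.ext fun x => by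
    show ((π (pr (Φ D.L.y x)) : Y) : X) = Φ D.L.y ((π (pr x) : Y) : X)
    rw [show pr (Φ D.L.y x) = yY (pr x) from Subtype.ext (by
      show Φ D.L.eps (Φ D.L.y x) = Φ D.L.y (Φ D.L.eps x)
      rw [← Module.End.mul_apply, ← map_mul, D.L.hy.1, ← Module.End.mul_apply, ← map_mul,
        D.L.hy.2])]
    exact congrArg Subtype.val (LinearMap.congr_fun hπc1 (pr x))
  have hπs : π₀ ∘ₗ Φ D.s = Φ D.s ∘ₗ π₀ := LinearMap.ext fun x => by
    show ((π (pr (Φ D.s x)) : Y) : X) = Φ D.s ((π (pr x) : Y) : X)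
    rw [show pr (Φ D.s x) = sY (pr x) from Subtype.ext (by
      show Φ D.L.eps (Φ D.s x) = Φ D.s (Φ D.L.eps x)
      rw [← Module.End.mul_apply, ← map_mul, ← D.s_comm 0 0, map_mul, Module.End.mul_apply])]
    exact congrArg Subtype.val (LinearMap.congr_fun hπc2 (pr x))
  set πt := D.L.tilde Φ Φ π₀
  have hC : ∀ a ∈ spanH k C, πt * Φ a = Φ a * πt := fun a ha =>
    D.L.tilde_commute Φ Φ hπε hπy ha
  have hS : πt * Φ D.s = Φ D.s * πt := LinearMap.ext fun x => by
    simp only [πt, LocalCorner.tilde, Module.End.mul_apply, LinearMap.sum_apply,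
      LinearMap.comp_apply, map_sum]
    refine Finset.sum_congr rfl fun i _ => ?_
    rw [← Module.End.mul_apply (Φ (D.L.U.E 0 i)), ← map_mul, ← D.s_comm, map_mul,
      Module.End.mul_apply, show π₀ (Φ D.s _) = Φ D.s (π₀ _) from LinearMap.congr_fun hπs _,
      ← Module.End.mul_apply (Φ (D.L.U.E i 0)), ← map_mul, ← D.s_comm, map_mul,
      Module.End.mul_apply]
  have hc1 : Φ c * πt = πt := by
    simp only [πt, LocalCorner.tilde, Finset.mul_sum, ← Module.End.mul_eq_comp, ← mul_assoc,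
      ← map_mul, D.L.U.e_mul]
  have hc2 : πt * Φ c = πt := (hC c D.L.c_mem).trans hc1
  have hforms : ∀ a ∈ D.forms, πt * Φ a = Φ a * πt := fun a ha => by
    induction ha using Submodule.span_induction with
    | mem z hz =>
      obtain ⟨b, hb, j, rfl⟩ := hz
      rw [map_mul, ← mul_assoc, hC b hb, mul_assoc, mul_assoc, map_pow,
        (show Commute πt (Φ D.s) from hS).pow_right j |>.eq]
    | zero => simp
    | add z z' _ _ h1 h2 => simp [mul_add, add_mul, h1, h2]
    | smul r z _ h1 => simp [h1]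
  have hH : ∀ h ∈ H, πt * Φ (of k Γ h) = Φ (of k Γ h) * πt := fun h hh => by
    calc πt * Φ (of k Γ h) = πt * Φ (of k Γ h * c) := by
          rw [← D.comm h hh, map_mul, ← mul_assoc, hc2]
      _ = Φ (of k Γ h * c) * πt := hforms _ (D.of_mul_c_mem hh)
      _ = Φ (of k Γ h) * πt := by rw [map_mul, mul_assoc, hc1]
  obtain ⟨A, hA⟩ := (hTr.map Φ).exists_trace k (π := πt) hH hc1 hc2
  set ρ : Γ →* Module.End k X := (Φ : MonoidAlgebra k Γ →* Module.End k X).comp (of k Γ) with hρ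
  have hall : ∀ a, trQ ρ H πt * Φ a = Φ a * trQ ρ H πt := fun a => by
    induction a using MonoidAlgebra.induction_on with
    | of g => exact trQ_commute ρ (fun h hh => hH h hh) g
    | add f g hf hg => rw [map_add, mul_add, add_mul, hf, hg]
    | smul r f hf => rw [map_smul, mul_smul_comm, smul_mul_assoc, hf]
  obtain ⟨c₀, hc₀⟩ : ∃ c₀ : k, trQ ρ H πt = c₀ • 1 := by
    obtain ⟨μ, hμ⟩ := Module.End.exists_eigenvalue (trQ ρ H πt)
    obtain ⟨v, hv⟩ := hμ.exists_hasEigenvector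
    refine ⟨μ, LinearMap.ext fun x => ?_⟩
    obtain ⟨φ, hφ⟩ := LinearMap.exists_leftInverse_of_injective
      (LinearMap.toSpanSingleton k X v) (LinearMap.ker_toSpanSingleton k hv.2)
    obtain ⟨a, ha⟩ := hΦ ((LinearMap.toSpanSingleton k X x) ∘ₗ φ)
    have hav : Φ a v = x := by
      have h1 := LinearMap.congr_fun hφ 1
      rw [LinearMap.comp_apply, LinearMap.toSpanSingleton_apply, one_smul, LinearMap.id_apply] at h1
      rw [ha, LinearMap.comp_apply, h1, LinearMap.toSpanSingleton_apply, one_smul]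
    rw [← hav, ← Module.End.mul_apply, hall, Module.End.mul_apply, hv.apply_eq_smul, map_smul]
    rfl
  rw [hc₀, mul_smul_comm, mul_one, smul_mul_assoc, ← map_mul, D.c_idem] at hA
  -- the composites
  have hcomp : ∀ {μ : k} (_ : μ ^ e = 1) {g : X →ₗ[k] (Fin (D.L.U.n + 1) → k)},
      (∀ h ∈ H, g ∘ₗ Φ (of k Γ h) = (D.rep μ (of k Γ h)).mulVecLin ∘ₗ g) →
      ∀ x i, g (πt x) i = (p0 ∘ₗ g ∘ₗ Y.subtype) (π (pr (Φ (D.L.U.E 0 i) x))) := by
    intro μ hμ g hg x i
    simp only [πt, LocalCorner.tilde, LinearMap.sum_apply, LinearMap.comp_apply, map_sum,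
      Finset.sum_apply]
    rw [Finset.sum_eq_single i]
    · rw [hspan hg _ (hEH i 0), D.rep_unit hμ, Matrix.single_mulVec]
      simp [p0, π₀]
    · intro j _ hj
      rw [hspan hg _ (hEH j 0), D.rep_unit hμ, Matrix.single_mulVec]
      simp [Ne.symm hj]
    · simp
  have hgi : ∀ {μ : k} (_ : μ ^ e = 1) {g : X →ₗ[k] (Fin (D.L.U.n + 1) → k)},
      (∀ h ∈ H, g ∘ₗ Φ (of k Γ h) = (D.rep μ (of k Γ h)).mulVecLin ∘ₗ g) →
      ∀ x i, g (Φ (D.L.U.E 0 i) x) 0 = g x i := by
    intro μ hμ g hg x i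
    rw [hspan hg _ (hEH 0 i), D.rep_unit hμ, Matrix.single_mulVec]
    simp
  have hfπ : f ∘ₗ πt = f := LinearMap.ext fun x => funext fun i => by
    rw [LinearMap.comp_apply, hcomp hω hf x i, ← LinearMap.comp_apply (p0 ∘ₗ f ∘ₗ Y.subtype) π,
      hπf]
    show f (Φ D.L.eps (Φ (D.L.U.E 0 i) x)) 0 = f x i
    rw [← Module.End.mul_apply, ← map_mul, D.L.U.mul_same, hgi hω hf]
  have hfπ' : f' ∘ₗ πt = 0 := LinearMap.ext fun x => funext fun i => by
    rw [LinearMap.comp_apply, hcomp hω' hf' x i,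
      ← LinearMap.comp_apply (p0 ∘ₗ f' ∘ₗ Y.subtype) π, hπf']
    rfl
  have hfc : ∀ {μ : k} (_ : μ ^ e = 1) {g : X →ₗ[k] (Fin (D.L.U.n + 1) → k)},
      (∀ h ∈ H, g ∘ₗ Φ (of k Γ h) = (D.rep μ (of k Γ h)).mulVecLin ∘ₗ g) → g ∘ₗ Φ c = g := by
    intro μ hμ g hg
    refine LinearMap.ext fun x => ?_
    rw [LinearMap.comp_apply, hspan hg _ (spanH_mono D.CH D.L.c_mem), D.rep_c hμ,
      Matrix.one_mulVec]
  have htrace : ∀ {μ : k} (_ : μ ^ e = 1) {g : X →ₗ[k] (Fin (D.L.U.n + 1) → k)},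
      (∀ h ∈ H, g ∘ₗ Φ (of k Γ h) = (D.rep μ (of k Γ h)).mulVecLin ∘ₗ g) → ∀ r : k,
      r • g ∘ₗ (∑ h : Γ with h ∈ H, cj ρ h A) = ∑ h : Γ with h ∈ H,
        (D.rep μ (of k Γ h)).mulVecLin ∘ₗ (r • g ∘ₗ A) ∘ₗ Φ (of k Γ h⁻¹) := by
    intro μ _ g hg r
    refine LinearMap.ext fun x => ?_
    simp only [LinearMap.smul_apply, LinearMap.comp_apply, LinearMap.sum_apply, map_sum,
      Finset.smul_sum, cj_apply, Module.End.mul_apply, map_smul]
    refine Finset.sum_congr rfl fun h hh => ?_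
    congr 1
    exact LinearMap.congr_fun (hg h (Finset.mem_filter.mp hh).2) _
  have h1 := congrArg (fun T => f ∘ₗ T) hA
  have h2 := congrArg (fun T => f' ∘ₗ T) hA
  simp only [LinearMap.comp_smul, LinearMap.comp_add, hfπ, hfπ', hfc hω hf, hfc hω' hf', zero_add]
    at h1 h2
  rcases eq_or_ne c₀ 0 with h0 | h0
  · refine Or.inl ⟨(-1 : k) • f ∘ₗ A, ?_⟩
    rw [h0, zero_smul] at h1
    rw [← htrace hω hf (-1)]
    exact (eq_neg_of_add_eq_zero_left h1.symm).trans (neg_one_smul k _).symm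
  · refine Or.inr ⟨c₀⁻¹ • f' ∘ₗ A, ?_⟩
    rw [← htrace hω' hf', ← h2, smul_smul, inv_mul_cancel₀ h0, one_smul]

end TwistData

end CfsgLib.Blocks.CyclicDefect
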