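import Cfsg.Agent.Lib.Blocks.CyclicDefect.BlockIdem
import Cfsg.Agent.Lib.Blocks.CentralQuotientBlock
import Cfsg.Agent.Lib.Blocks.QuotientDefect

/-!
# The idempotent and the defect group of a dominated block

The image of the idempotent of a block under a surjection is the idempotent of the dominated
block; over a central `p`-subgroup the image of a defect group is a defect group.
-/

set_option autoImplicit false
set_option linter.unusedSectionVars false

noncomputable section

namespace CfsgLib.Blocks.CyclicDefect

open Cfsg CfsgLib.GrpRing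
open scoped ComplexConjugate CfsgLib.Char

variable {p : ℕ} {M : Ideal AlgInt} [M.IsPrime] {C : Type*} [Group C] [Fintype C] {C' : Type*}
  [Group C'] [Fintype C'] (f : C →* C') (hf : Function.Surjective f)

open Classical in
/-- The sums of the coefficients over the fibres. -/
theorem sum_fibre_blockCoeff (b : Set (IrrCharacter C)) (y : C') :
    ∑ x : C with f x = y, blockCoeff b x = blockCoeff (CentralQuot.pre f hf b) y := by
  obtain ⟨a, ha⟩ := hf.hasRightInverse
  have hcard : Nat.card C = Nat.card f.ker * Nat.card C' := by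
    rw [← f.ker.card_mul_index, Subgroup.index_ker, MonoidHom.range_eq_top.mpr hf,
      Nat.card_congr Subgroup.topEquiv.toEquiv]
  have hk : (Nat.card f.ker : ℂ) ≠ 0 := Nat.cast_ne_zero.mpr Nat.card_pos.ne'
  set S : IrrCharacter C → C' → ℂ := fun χ y => ∑ x : C with f x = y, (χ : C → ℂ) x with hS
  have hSc : ∀ χ, IsClassFunction C' (S χ) := fun χ y h => by
    obtain ⟨k, rfl⟩ := hf h
    simp only [hS]
    refine Finset.sum_equiv ((Equiv.mulLeft k⁻¹).trans (Equiv.mulRight k)) (fun x => ?_) fun x _ => ?_
    · simp only [Finset.mem_filter, Finset.mem_univ, true_and, Equiv.trans_apply,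
        Equiv.coe_mulLeft, Equiv.coe_mulRight, map_mul, map_inv]
      constructor
      · intro h; rw [h]; group
      · intro h; rw [← h]; group
    · simp only [Equiv.trans_apply, Equiv.coe_mulLeft, Equiv.coe_mulRight]
      have h := irr_classFunction χ x k⁻¹
      rw [inv_inv] at h
      exact h.symm
  have hinner : ∀ (χ : IrrCharacter C) (η : IrrCharacter C'), classInner (S χ) (η : C' → ℂ) =
      if χ = inflate f hf η then (Nat.card f.ker : ℂ) else 0 := by
    intro χ η
    have h : classInner (χ : C → ℂ) (inflate f hf η : C → ℂ) =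
        if χ = inflate f hf η then 1 else 0 := Char.classInner_coe χ _
    rw [show (if χ = inflate f hf η then (Nat.card f.ker : ℂ) else 0) =
      (Nat.card f.ker : ℂ) * (if χ = inflate f hf η then 1 else 0) by split_ifs <;> simp, ← h,
      classInner, classInner, hcard, Nat.cast_mul, mul_inv, ← mul_assoc, ← mul_assoc,
      mul_inv_cancel₀ hk, one_mul, ← Finset.sum_fiberwise Finset.univ f]
    congr 1
    refine Finset.sum_congr rfl fun y' _ => ?_
    simp only [hS, Finset.sum_mul]
    refine Finset.sum_congr rfl fun x hx => ?_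
    rw [← (Finset.mem_filter.mp hx).2]
    rfl
  have hexp : ∀ χ, S χ y = ∑ η : IrrCharacter C',
      (if χ = inflate f hf η then (Nat.card f.ker : ℂ) else 0) * (η : C' → ℂ) y := fun χ => by
    have h := congrFun (Char.classFunction_expansion (hSc χ)) y
    rw [h, Finset.sum_apply]
    exact Finset.sum_congr rfl fun η _ => by rw [Pi.smul_apply, smul_eq_mul, hinner]
  calc ∑ x : C with f x = y, blockCoeff b x
      = (Nat.card C : ℂ)⁻¹ * ∑ χ : IrrCharacter C with χ ∈ b,
          (χ : C → ℂ) 1 * conj (S χ y) := by
        simp only [blockCoeff, sum_mem_eq_filter, hS, map_sum, Finset.mul_sum]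
        rw [Finset.sum_comm]
    _ = (Nat.card C : ℂ)⁻¹ * ((Nat.card f.ker : ℂ) * ∑ η : IrrCharacter C',
          if η ∈ CentralQuot.pre f hf b then (η : C' → ℂ) 1 * conj ((η : C' → ℂ) y) else 0) := by
        congr 1
        simp only [hexp, map_sum, map_mul, Finset.mul_sum]
        rw [Finset.sum_comm]
        refine Finset.sum_congr rfl fun η _ => ?_
        by_cases hη : inflate f hf η ∈ b
        · rw [if_pos (show η ∈ CentralQuot.pre f hf b from hη), Finset.sum_eq_single (inflate f hf η)]
          · rw [if_pos rfl, Complex.conj_natCast,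
              show (inflate f hf η : C → ℂ) 1 = (η : C' → ℂ) 1 from
                congrArg (η : C' → ℂ) (map_one f)]
            ring
          · exact fun χ _ hne => by rw [if_neg hne]; simp
          · exact fun h => absurd (Finset.mem_filter.mpr ⟨Finset.mem_univ _, hη⟩) h
        · rw [if_neg (show η ∉ CentralQuot.pre f hf b from hη), mul_zero]
          refine Finset.sum_eq_zero fun χ hχ => ?_
          rw [if_neg fun h : χ = inflate f hf η => hη (h ▸ (Finset.mem_filter.mp hχ).2)]
          simp
    _ = blockCoeff (CentralQuot.pre f hf b) y := by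
        rw [blockCoeff, sum_mem_eq_filter, Finset.sum_filter, hcard, Nat.cast_mul, mul_inv,
          mul_comm (Nat.card f.ker : ℂ)⁻¹, mul_assoc, inv_mul_cancel_left₀ hk]

/-- The image of the idempotent. -/
theorem mapK_eB_pre {b : Set (IrrCharacter C)} (hb : IsPBlock M b) :
    mapK M f (eB M b) = eB M (CentralQuot.pre f hf b) := by
  classical
  refine MonoidAlgebra.ext (Finsupp.ext fun y => ?_)
  rw [coeff_mapK, coeff_eB, ← sum_fibre_blockCoeff f hf b y,
    res_sum _ _ fun x _ => IsPBlock.memLocalRing_blockCoeff hb x]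
  exact Finset.sum_congr rfl fun x _ => coeff_eB x

omit f hf [Fintype C']

/-- The image of a defect group. -/
theorem isDefectGroup_pre (hM : IsPModular p M) {N : Subgroup C} [N.Normal] [Fintype (C ⧸ N)]
    (hN : IsPGroup p N) (hc : ∀ k ∈ N, ∀ g : C, Commute k g) {b : Set (IrrCharacter C)}
    (hb : IsPBlock M b) {P : Subgroup C} (hP : IsDefectGroup p M b P) :
    IsDefectGroup p M (CentralQuot.pre (QuotientGroup.mk' N) (QuotientGroup.mk'_surjective N) b)
      (P.map (QuotientGroup.mk' N)) := by
  classical
  have : Fact p.Prime := ⟨hM.1⟩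
  set π := QuotientGroup.mk' N
  have hker : π.ker = N := QuotientGroup.ker_mk' N
  obtain ⟨g, hg, hsyl⟩ := isDefectGroup_iff.mp hP
  have hb₂ := CentralQuot.isPBlock_pre π (QuotientGroup.mk'_surjective N) hM (by rw [hker]; exact hN)
    (by rw [hker]; exact hc) hb
  have hreg : IsPRegular p g := IsDefectClass.isPRegular hM hb hg
  have hcoef : blockCoeff (CentralQuot.pre π (QuotientGroup.mk'_surjective N) b) (π g) =
      blockCoeff b g := by
    rw [← sum_fibre_blockCoeff π (QuotientGroup.mk'_surjective N)]
    refine Finset.sum_eq_single g ?_ ?_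
    · intro x hx hne
      have hxe : π x = π g := by simpa using hx
      have hn : g⁻¹ * x ∈ N := (QuotientGroup.eq).mp hxe.symm
      refine blockCoeff_eq_zero_of_not_regular hM (IsPBlock.isBlockUnion hb) fun h => h ?_
      obtain ⟨k, hk⟩ := IsPGroup.iff_orderOf.mp hN ⟨_, hn⟩
      rw [Subgroup.orderOf_mk] at hk
      have hk0 : k ≠ 0 := fun h0 => hne (by
        rw [h0, pow_zero, orderOf_eq_one_iff, inv_mul_eq_one] at hk
        exact hk.symm)
      rw [← mul_inv_cancel_left g x, Commute.orderOf_mul_eq_mul_orderOf_of_coprime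
        (hc _ hn g).symm (by
          rw [hk]; exact Nat.Coprime.pow_right k ((hM.1.coprime_iff_not_dvd).mpr hreg).symm), hk]
      exact dvd_mul_of_dvd_right (dvd_pow_self p hk0) _
    · intro h
      simp at h
  have hcen : ∀ η ∈ CentralQuot.pre π (QuotientGroup.mk'_surjective N) b,
      ¬ MemLocalIdeal M (centralChar (η : C ⧸ N → ℂ) (π g)) ∧
        IsSylowCent p (π g) (P.map π) := fun η hη =>
    image_of_unit_class hM N (hg.2.2 _ hη) hsyl
  obtain ⟨η, hη⟩ := IsPBlock.nonempty hb₂
  exact isDefectGroup_iff.mpr ⟨π g, ⟨hcoef.symm ▸ hg.1, hcoef.symm ▸ hg.2.1,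
    fun ξ hξ => (hcen ξ hξ).1⟩, (hcen η hη).2⟩

end CfsgLib.Blocks.CyclicDefect
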