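import Cfsg.Agent.Lib.Blocks.FreeQuotient.Free
import Cfsg.Agent.Lib.Blocks.FreeQuotient.HeightZeroPart
import Mathlib.Algebra.CharP.Lemmas
import Mathlib.NumberTheory.Multiplicity

/-!
# The block of the centralizer of the subgroup of order `p` of a cyclic defect group

A block with cyclic defect group whose normalizer induces no automorphism of order prime to `p` is
nilpotent; the stabilizer of the block of the centralizer of the subgroup of order `p` in its
normalizer is controlled by the stabilizer of the maximal pair.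
-/

set_option autoImplicit false
set_option linter.unusedSectionVars false

namespace CfsgLib.Blocks.CyclicDefect

open Cfsg CfsgLib.GrpRing
open scoped ComplexConjugate CfsgLib.Char

variable {p : ℕ} {M : Ideal AlgInt} [M.IsPrime] {G : Type*} [Group G] [Fintype G] {P : Subgroup G}
  {c : Set (IrrCharacter (Subgroup.centralizer (P : Set G)))} {B : Set (IrrCharacter G)}

variable (p) in
/-- The elements of order prime to `p` normalizing `P` centralize it. -/
def RegActsTrivially (P : Subgroup G) : Prop :=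
  ∀ g ∈ Subgroup.normalizer (P : Set G), ¬ p ∣ orderOf g → g ∈ Subgroup.centralizer (P : Set G)

theorem comm_of_cyclic (hcyc : IsCyclic P) : ∀ x ∈ P, ∀ y ∈ P, x * y = y * x := fun x hx y hy => by
  letI : CommGroup P := IsCyclic.commGroup
  exact congrArg Subtype.val (mul_comm (⟨x, hx⟩ : P) ⟨y, hy⟩)

theorem exists_pow_eq (hp : p.Prime) {r a : ℕ} (hr : r ≡ 1 [MOD p]) :
    r ^ p ^ a ≡ 1 [MOD p ^ (a + 1)] := by
  have h : ((p : ℤ)) ∣ (r : ℤ) - 1 := by
    have := (Nat.modEq_iff_dvd.mp hr.symm)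
    simpa using this
  have h2 := dvd_sub_pow_of_dvd_sub h a
  refine (Nat.modEq_iff_dvd.mpr ?_).symm
  simpa using h2

/-- An element of order prime to `p` normalizing a cyclic `p`-group and fixing an element of order
`p` centralizes it. -/
theorem mem_centralizer_of_fix (hp : p.Prime) (hPp : IsPGroup p P) (hcyc : IsCyclic P) {g z : G}
    (hg : g ∈ Subgroup.normalizer (P : Set G)) (hreg : ¬ p ∣ orderOf g) (hz : z ∈ P)
    (hzp : orderOf z = p) (hfix : g * z * g⁻¹ = z) : g ∈ Subgroup.centralizer (P : Set G) := by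
  have : Fact p.Prime := ⟨hp⟩
  obtain ⟨⟨w, hw⟩, hgen⟩ := hcyc.exists_generator
  have hgen' : ∀ x ∈ P, ∃ i : ℕ, w ^ i = x := fun x hx => by
    obtain ⟨i, hi⟩ := (mem_powers_iff_mem_zpowers.mpr (hgen ⟨x, hx⟩))
    exact ⟨i, congrArg Subtype.val hi⟩
  obtain ⟨r, hr⟩ := hgen' _ ((Subgroup.mem_normalizer_iff.mp hg w).mp hw)
  have hpow : ∀ i : ℕ, g * w ^ i * g⁻¹ = (w ^ i) ^ r := fun i => by
    rw [← conj_pow, ← hr, ← pow_mul, ← pow_mul, mul_comm]
  have hr1 : r ≡ 1 [MOD p] := by
    obtain ⟨i, rfl⟩ := hgen' z hz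
    rw [hpow] at hfix
    conv_rhs at hfix => rw [← pow_one (w ^ i)]
    rwa [pow_eq_pow_iff_modEq, hzp] at hfix
  obtain ⟨a, ha⟩ := IsPGroup.iff_orderOf.mp hPp ⟨w, hw⟩
  have hit : ∀ n i : ℕ, g ^ n * w ^ i * (g ^ n)⁻¹ = w ^ (i * r ^ n) := by
    intro n
    induction n with
    | zero => intro i; simp
    | succ n ih =>
      intro i
      rw [pow_succ g, show g ^ n * g * w ^ i * (g ^ n * g)⁻¹ = g ^ n * (g * w ^ i * g⁻¹) * (g ^ n)⁻¹ by
        group, hpow, ← pow_mul, ih]
      congr 1
      ring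
  have hgp : g ^ p ^ a ∈ Subgroup.centralizer (P : Set G) := fun x hx => by
    obtain ⟨i, rfl⟩ := hgen' x hx
    have h := hit (p ^ a) i
    have h1 : w ^ (i * r ^ p ^ a) = w ^ i := by
      rw [pow_eq_pow_iff_modEq]
      conv_rhs => rw [← mul_one i]
      refine Nat.ModEq.mul_left _ ((exists_pow_eq hp hr1).of_dvd ?_)
      rw [← Subgroup.orderOf_mk w hw, ha]
      exact pow_dvd_pow p (Nat.le_succ a)
    rw [h1, mul_inv_eq_iff_eq_mul] at h
    exact h.symm
  obtain ⟨s, hs⟩ := exists_pow_eq_self_of_coprime (n := p ^ a) (x := g)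
    (Nat.Coprime.pow_left a (hp.coprime_iff_not_dvd.mpr hreg))
  rw [← hs]
  exact pow_mem hgp s

/-- The inertial group of a block whose defect group has no automorphism of order prime to `p`. -/
theorem blockT_le_centralizer (hM : IsPModular p M) (hmax : IsMaximalBrauerPair p M B P c)
    (hcyc : IsCyclic P) (hCI : RegActsTrivially p P) :
    blockT P c ≤ Subgroup.centralizer (P : Set G) := by
  have hp := hM.1
  obtain ⟨-, hm⟩ := maximal_of_induced hM (isDefectGroup_of_maximal hM hmax) (comm_of_cyclic hcyc)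
    (FreeQuot.induced_of_maximal hM hmax (comm_of_cyclic hcyc))
  intro g hg
  set v := (orderOf g).factorization p
  have hgp : g ^ p ^ v ∈ Subgroup.centralizer (P : Set G) :=
    hCI _ (pow_mem (blockT_le_normalizer hg) _) (by
      rw [orderOf_pow_of_dvd (pow_ne_zero _ hp.ne_zero) (Nat.ordProj_dvd _ p)]
      exact Nat.not_dvd_ordCompl hp (orderOf_pos g).ne')
  set m := (Subgroup.centralizer (P : Set G)).relIndex (blockT P c)
  have hC : ((Subgroup.centralizer (P : Set G)).subgroupOf (blockT P c)).Normal :=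
    Subgroup.normal_subgroupOf_of_le_normalizer
      (blockT_le_normalizer.trans fun a ha => mem_normalizer_centralizer ha)
  have hgm : g ^ m ∈ Subgroup.centralizer (P : Set G) :=
    Subgroup.mem_subgroupOf.mp (Subgroup.pow_index_mem
      ((Subgroup.centralizer (P : Set G)).subgroupOf (blockT P c)) (⟨g, hg⟩ : blockT P c))
  obtain ⟨a, b, hab⟩ := Int.isCoprime_iff_nat_coprime.mpr
    (show Nat.Coprime (m : ℤ).natAbs ((p ^ v : ℕ) : ℤ).natAbs by
      rw [Int.natAbs_natCast, Int.natAbs_natCast]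
      exact Nat.Coprime.pow_right _ (hp.coprime_iff_not_dvd.mpr hm).symm)
  rw [← zpow_one g, ← hab, zpow_add, mul_comm a, mul_comm b, zpow_mul, zpow_mul, zpow_natCast,
    zpow_natCast]
  exact mul_mem (zpow_mem hgm a) (zpow_mem hgp b)

/-- Such a block is nilpotent. -/
theorem isNilpotentBlock_of_trivial (hM : IsPModular p M) (hmax : IsMaximalBrauerPair p M B P c)
    (hcyc : IsCyclic P) (hCI : RegActsTrivially p P) : IsNilpotentBlock p M B := by
  refine ⟨hmax.1.2.1, fun Q f hQf x hx hst _ => ?_⟩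
  obtain ⟨g, hg⟩ := exists_conjPair_le_maximal hM hmax hQf
  have hy := blockT_conjPair (g := g) (mem_blockT.mpr ⟨hx, hst⟩)
  refine mem_centralizer_of_conj (g := g) ?_
  set y := g * x * g⁻¹
  have hc := carries_of_mem_blockT hg hy
  obtain ⟨y', hy', hagree⟩ := FreeQuot.exists_blockT_agree hM hmax (comm_of_cyclic hcyc) hc
  refine Fusion.mem_centralizer_of_conj_eq fun z hz => ?_
  rw [hagree z hz]
  have hzP : z ∈ P := hc.le hz
  exact mul_inv_eq_iff_eq_mul.mpr (blockT_le_centralizer hM hmax hcyc hCI hy' z hzP).symm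

/-- Its rank is one. -/
theorem blockRank_eq_one_of_trivial (hM : IsPModular p M) (hB : IsPBlock M B)
    (hPD : IsDefectGroup p M B P) (hcyc : IsCyclic P) (hCI : RegActsTrivially p P) :
    blockRank p B = 1 := by
  obtain ⟨c, hc⟩ := exists_pair_of_defectGroup hM hB hPD
  exact (blockRank_eq_one_of_nilpotent hM
    (isNilpotentBlock_of_trivial hM (isMaximalBrauerPair_of_defectGroup hM hPD hc) hcyc hCI)).1

/-- The trivial intersection action. -/
theorem free_of_trivial (hM : IsPModular p M) (hmax : IsMaximalBrauerPair p M B P c)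
    (hcyc : IsCyclic P) (hCI : RegActsTrivially p P) :
    ∀ g ∈ blockT P c, ∀ x ∈ P, x ≠ 1 → g * x * g⁻¹ = x →
      g ∈ Subgroup.centralizer (P : Set G) :=
  fun _ hg _ _ _ _ => blockT_le_centralizer hM hmax hcyc hCI hg

/-- The block of `cz z` below the pair has defect group `P`. -/
theorem isDefectGroup_bk (hM : IsPModular p M) (hmax : IsMaximalBrauerPair p M B P c)
    (hab : ∀ x ∈ P, ∀ y ∈ P, x * y = y * x) {z : G} [Fintype (cz z)] (hz : z ∈ P) :
    IsDefectGroup p M (FreeQuot.bk p M P c z) (P.subgroupOf (cz z)) := by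
  classical
  have hPH : P ≤ cz z := fun a ha b hb => hab b (Subgroup.zpowers_le.mpr hz hb) a ha
  obtain ⟨-, hpair⟩ := below_data hM hmax.1.1 hab hPH (FreeQuot.bk_subpair hM hmax.1.1 hz)
  have hb := FreeQuot.bk_isBlock hM hmax.1.1 hz
  obtain ⟨D, hD⟩ := exists_isDefectGroup hM hb
  obtain ⟨e, he⟩ := exists_pair_of_defectGroup hM hb hD
  obtain ⟨x, hx⟩ := exists_conjPair_le_maximal hM (isMaximalBrauerPair_of_defectGroup hM hD he) hpair
  have hle : (P.subgroupOf (cz z)).map (MulAut.conj x).toMonoidHom ≤ D := PairLE.fst_le hx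
  obtain ⟨E, hE, hDE⟩ := IsInducedBlock.exists_defectGroup_le hM (FreeQuot.bk_induced hM hmax hz) hD
  obtain ⟨g, hg⟩ := IsDefectGroup.exists_conj_eq hM hmax.1.2.1 (isDefectGroup_of_maximal hM hmax) hE
  have h1 : Nat.card D ≤ Nat.card P := by
    rw [← Subgroup.card_map_of_injective (cz z).subtype_injective, ← card_map_conj P g, ← hg]
    exact Subgroup.card_le_of_le hDE
  have h2 : (P.subgroupOf (cz z)).map (MulAut.conj x).toMonoidHom = D := by
    refine Subgroup.eq_of_le_of_card_ge hle ?_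
    rw [card_map_conj, Nat.card_congr (Subgroup.subgroupOfEquivOfLe hPH).toEquiv]
    exact h1
  have h3 := IsDefectGroup.conj hM (h2 ▸ hD) x⁻¹
  convert h3 using 1
  rw [Subgroup.map_map]
  conv_lhs => rw [← Subgroup.map_id (P.subgroupOf (cz z))]
  congr 1
  ext a
  simp [mul_assoc]

/-- The stabilizer of the block below the pair. -/
theorem exists_agree_of_stab (hM : IsPModular p M) (hmax : IsMaximalBrauerPair p M B P c)
    (hab : ∀ x ∈ P, ∀ y ∈ P, x * y = y * x) {z : G} (hz : z ∈ P) {g : G}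
    (hg : g ∈ blockT (Subgroup.zpowers z) (FreeQuot.bk p M P c z)) :
    ∃ y ∈ blockT P c, y⁻¹ * g ∈ cz z := by
  have hle := FreeQuot.bk_le hM hmax.1.1 hz
  have hc : Carries p M P c g (Subgroup.zpowers z) := carries_of_mem_blockT hle hg
  obtain ⟨y, hy, hagree⟩ := FreeQuot.exists_blockT_agree hM hmax hab hc
  refine ⟨y, hy, fun x hx => ?_⟩
  have h := hagree x hx
  calc x * (y⁻¹ * g) = y⁻¹ * (y * x * y⁻¹) * g := by group
    _ = y⁻¹ * (g * x * g⁻¹) * g := by rw [h]
    _ = y⁻¹ * g * x := by group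

/-- The stabilizer of the pair stabilizes the block, when it normalizes the subgroup. -/
theorem mem_blockT_bk (hM : IsPModular p M) (hmax : IsMaximalBrauerPair p M B P c) {z y : G}
    (hz : z ∈ P) (hy : y ∈ blockT P c) (hn : y ∈ Subgroup.normalizer ((Subgroup.zpowers z : Subgroup G) : Set G)) :
    y ∈ blockT (Subgroup.zpowers z) (FreeQuot.bk p M P c z) := by
  refine mem_blockT.mpr ⟨hn, stabilizesBlock_iff.mpr ⟨mem_normalizer_centralizer hn, ?_⟩⟩
  have h := subpairLE_conjPair y (FreeQuot.bk_le hM hmax.1.1 hz)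
  rw [FreeQuot.conjPair_top_blockT hy, conjPair_of_mem_normalizer hn] at h
  exact eq_of_le_top hM hmax.1.1 h (FreeQuot.bk_le hM hmax.1.1 hz)

end CfsgLib.Blocks.CyclicDefect
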