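import Cfsg.Agent.Lib.Blocks.CyclicDefect.BlockIdem
import Cfsg.Agent.Lib.Blocks.CyclicDefect.CornerUnits
import Cfsg.Agent.Lib.Blocks.PrimeDefect.Modular

/-!
# The simple modules of a block

The simple components of the block algebra are at most as many as the rank of the block, a block of
rank one has one class of primitive idempotents, and the reduction of a character is a trace
functional that vanishes on the nilpotent elements.
-/

set_option autoImplicit false
set_option linter.unusedSectionVars false
set_option linter.style.haveILetI false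

noncomputable section

namespace CfsgLib.Blocks.CyclicDefect

open Cfsg CfsgLib.GrpRing
open MonoidAlgebra (of single)
open scoped ComplexConjugate CfsgLib.Char

variable {p : ℕ} {M : Ideal AlgInt} [M.IsPrime] {G : Type*} [Group G] [Fintype G]
  {B : Set (IrrCharacter G)}

variable (M G) in
/-- The semisimple quotient of the group algebra. -/
theorem exists_simples : ∃ (r : ℕ) (m : Fin r → ℕ), (∀ i, NeZero (m i)) ∧
    ∃ (π : KG M G →ₐ[ResField M] Π i, Matrix (Fin (m i)) (Fin (m i)) (ResField M)) (N : ℕ),
      Function.Surjective π ∧ (RingHom.ker π) ^ N = ⊥ := by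
  haveI : IsArtinianRing (KG M G) := IsArtinianRing.of_finite (ResField M) _
  set J := Ring.jacobson (KG M G) with hJ
  haveI : IsSemisimpleRing (KG M G ⧸ J) := IsArtinianRing.isSemisimpleRing_iff_jacobson.mpr
    (Ring.jacobson_quotient_jacobson _)
  haveI : FiniteDimensional (ResField M) (KG M G ⧸ J) :=
    Module.Finite.of_surjective (Ideal.Quotient.mkₐ (ResField M) J).toLinearMap
      (Ideal.Quotient.mkₐ_surjective (ResField M) J)
  obtain ⟨N, hN⟩ : IsNilpotent J := IsSemiprimaryRing.isNilpotent
  obtain ⟨r, m, hm, ⟨ψ⟩⟩ :=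
    IsSemisimpleRing.exists_algEquiv_pi_matrix_of_isAlgClosed (ResField M) (KG M G ⧸ J)
  refine ⟨r, m, hm, ψ.toAlgHom.comp (Ideal.Quotient.mkₐ (ResField M) J), N,
    ψ.surjective.comp (Ideal.Quotient.mkₐ_surjective (ResField M) J), ?_⟩
  have hker : (RingHom.ker (ψ.toAlgHom.comp (Ideal.Quotient.mkₐ (ResField M) J)) :
      Ideal (KG M G)) = J := Ideal.ext fun x => by
    show ψ (Ideal.Quotient.mk J x) = 0 ↔ _
    rw [map_eq_zero_iff ψ ψ.injective, Ideal.Quotient.eq_zero_iff_mem]
  rw [hker, hN]
  rfl

theorem eq_sum_of (a : KG M G) : a = ∑ g, a.coeff g • of (ResField M) G g := by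
  conv_lhs => rw [← BlockTwo.elt_coeff a]
  simp [BlockTwo.elt, of]

/-- The components of a block are at most as many as its rank. -/
theorem card_le_blockRank (hM : IsPModular p M) (hB : IsPBlock M B) {r : ℕ} {m : Fin r → ℕ}
    (hm : ∀ i, NeZero (m i))
    (π : KG M G →ₐ[ResField M] Π i, Matrix (Fin (m i)) (Fin (m i)) (ResField M))
    (hπs : Function.Surjective π) :
    Nat.card {i : Fin r // π (eB M B) i = 1} ≤ blockRank p B := by
  classical
  have : Fact p.Prime := ⟨hM.1⟩
  have := charP_resField hM
  let ρ : ∀ i, G →* Matrix (Fin (m i)) (Fin (m i)) (ResField M) := fun i =>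
    ((Pi.evalMonoidHom (fun i => Matrix (Fin (m i)) (Fin (m i)) (ResField M)) i).comp
      π.toMonoidHom).comp (of (ResField M) G)
  let τ : {i : Fin r // π (eB M B) i = 1} → G → ResField M := fun i g => (ρ i.1 g).trace
  have hτreg : ∀ i g y x, IsPPart p g x → x * y = g → τ i g = τ i y := by
    rintro i g y x ⟨y', hy', hcom, ⟨k, hk⟩, -⟩ hxy
    obtain rfl : y' = y := mul_left_cancel (hy'.trans hxy.symm)
    rw [← hxy]
    show (ρ i.1 (x * y')).trace = (ρ i.1 y').trace
    rw [map_mul]
    exact PrimeDefect.trace_mul_unipotent (p := p) (hcom.map (ρ i.1)) (k := k)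
      (by rw [← map_pow, ← hk, pow_orderOf_eq_one, map_one])
  choose sect hsect using fun a : ResField M => Ideal.Quotient.mk_surjective (I := locIdeal M) a
  let fl : {i : Fin r // π (eB M B) i = 1} → G → ℂ := fun i g => (sect (τ i g) : ℂ)
  have hfl : ∀ i, IsClassFunction G (fl i) := fun i g h => by
    show ((sect _ : locRing M) : ℂ) = ((sect _ : locRing M) : ℂ)
    congr 2
    show (ρ i.1 (h * g * h⁻¹)).trace = (ρ i.1 g).trace
    rw [map_mul, map_mul, Matrix.trace_mul_comm, ← mul_assoc, ← map_mul, inv_mul_cancel, map_one,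
      one_mul]
  have hl := IsPBlock.memLocalRing_blockCoeff hB
  let w : {i : Fin r // π (eB M B) i = 1} → G → ℂ := fun i y =>
    ∑ z, blockCoeff B z * fl i (z * y)
  have hwl : ∀ i y, MemLocalRing M (w i y) := fun i y =>
    memLocalRing_sum _ _ fun z _ => memLocalRing_mul (hl z) (sect _).2
  have hwres : ∀ i y, res M (w i y) = τ i y := by
    intro i y
    rw [res_sum _ _ fun z _ => memLocalRing_mul (hl z) (sect _).2]
    have h1 : π (eB M B * of (ResField M) G y) i.1 = ρ i.1 y := by
      rw [map_mul, Pi.mul_apply, i.2, one_mul]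
      rfl
    show _ = (ρ i.1 y).trace
    rw [← h1]
    refine Eq.trans ?_ (congrArg (fun a => (π (a * of (ResField M) G y) i.1).trace)
      (eq_sum_of (eB M B)).symm)
    simp only [Finset.sum_mul, map_sum, Finset.sum_apply, Matrix.trace_sum]
    refine Finset.sum_congr rfl fun z _ => ?_
    rw [res_mul (hl z) (sect _).2, smul_mul_assoc, ← map_mul, map_smul, Pi.smul_apply,
      Matrix.trace_smul, coeff_eB, smul_eq_mul]
    congr 1
    exact (res_coe (sect _)).trans (hsect _)
  have hli : LinearIndependent (ResField M)
      fun i (y : {y : G // IsPRegular p y}) => res M (w i y.1) := by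
    simp only [hwres]
    rw [Fintype.linearIndependent_iff]
    intro c hc j
    have hall : ∀ g, ∑ i, c i * τ i g = 0 := fun g => by
      obtain ⟨x, hx, -⟩ := exists_isPPart hM.1 g
      obtain ⟨y, hy, hcom, hord, hreg⟩ := hx
      have h := congrFun hc ⟨y, hreg⟩
      simp only [Finset.sum_apply, Pi.smul_apply, smul_eq_mul, Pi.zero_apply] at h
      rw [← h]
      exact Finset.sum_congr rfl fun i _ => by rw [hτreg i g y x ⟨y, hy, hcom, hord, hreg⟩ hy]
    have hlin : ∀ a, ∑ i, c i * (π a i.1).trace = 0 := fun a => by
      rw [eq_sum_of a]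
      simp only [map_sum, map_smul, Finset.sum_apply, Pi.smul_apply, Matrix.trace_sum,
        Matrix.trace_smul, smul_eq_mul, Finset.mul_sum]
      rw [Finset.sum_comm]
      refine Finset.sum_eq_zero fun g _ => ?_
      rw [Finset.sum_congr rfl (g := fun i => a.coeff g * (c i * τ i g)) fun i _ => by
        show c i * (a.coeff g * (π (of (ResField M) G g) i.1).trace) = _
        show c i * (a.coeff g * τ i g) = _
        ring, ← Finset.mul_sum, hall, mul_zero]
    haveI := hm j.1
    obtain ⟨a, ha⟩ := hπs (Pi.single j.1 (Matrix.single (0 : Fin (m j.1)) 0 1))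
    have h := hlin a
    rw [Finset.sum_eq_single j, ha, Pi.single_eq_same, Matrix.trace_single_eq_same, mul_one] at h
    · exact h
    · intro i _ hi
      rw [ha, Pi.single_eq_of_ne (fun h' => hi (Subtype.ext h'))]
      simp
    · simp
  -- independent over the complex numbers
  have hliC : LinearIndependent ℂ fun i (y : {y : G // IsPRegular p y}) => w i y.1 := by
    obtain ⟨N, hN⟩ := LinearMap.exists_leftInverse_of_injective
      (Fintype.linearCombination (ResField M) fun i (y : {y : G // IsPRegular p y}) =>
        res M (w i y.1))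
      (LinearMap.ker_eq_bot.mpr hli.fintypeLinearCombination_injective)
    choose N' hN' using fun (y : {y : G // IsPRegular p y})
        (i : {i : Fin r // π (eB M B) i = 1}) =>
      Ideal.Quotient.mk_surjective (I := locIdeal M) (N (Pi.single y 1) i)
    let A : Matrix {i : Fin r // π (eB M B) i = 1} {i : Fin r // π (eB M B) i = 1} (locRing M) :=
      Matrix.of fun i k => ∑ y : {y : G // IsPRegular p y}, ⟨w k y.1, hwl k y.1⟩ * N' y i
    have hA : A.map (Ideal.Quotient.mk (locIdeal M)) = 1 := by
      ext i k
      have h1 := congrFun (LinearMap.congr_fun hN (Pi.single k 1)) i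
      rw [LinearMap.comp_apply, LinearMap.id_apply, Fintype.linearCombination_apply_single,
        one_smul] at h1
      have e : (fun y : {y : G // IsPRegular p y} => res M (w k y.1)) =
          ∑ y : {y : G // IsPRegular p y}, res M (w k y.1) •
            (Pi.single y 1 : {y : G // IsPRegular p y} → ResField M) :=
        pi_eq_sum_univ' _
      rw [e, map_sum, Finset.sum_apply] at h1
      simp only [Matrix.map_apply, A, Matrix.of_apply, map_sum, map_mul, hN']
      simp only [map_smul, Pi.smul_apply, smul_eq_mul] at h1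
      rw [Matrix.one_apply]
      rw [Pi.single_apply] at h1
      rw [← h1]
      exact Finset.sum_congr rfl fun y _ => by rw [res_mk (hwl k y.1)]
    have hdet : (A.map ((↑) : locRing M → ℂ)).det ≠ 0 := by
      intro h0
      have h1 : A.det = 0 := Subtype.ext (by
        show ((locRing M).subtype A.det) = _
        rw [RingHom.map_det]
        exact h0)
      have h2 := congrArg (Ideal.Quotient.mk (locIdeal M)) h1
      rw [RingHom.map_det, map_zero] at h2
      have h3 : (A.map (Ideal.Quotient.mk (locIdeal M))).det = 0 := h2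
      rw [hA, Matrix.det_one] at h3
      exact one_ne_zero h3
    rw [Fintype.linearIndependent_iff]
    intro c hc
    have hmul : (A.map ((↑) : locRing M → ℂ)).mulVec c = 0 := by
      funext i
      simp only [Matrix.mulVec, dotProduct, Matrix.map_apply, A, Matrix.of_apply,
        AddSubmonoidClass.coe_finsetSum, MulMemClass.coe_mul, Finset.sum_mul, Pi.zero_apply]
      rw [Finset.sum_comm]
      refine Finset.sum_eq_zero fun y _ => ?_
      have h := congrFun hc y
      simp only [Finset.sum_apply, Pi.smul_apply, smul_eq_mul, Pi.zero_apply] at h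
      rw [Finset.sum_congr rfl (g := fun k => ((N' y i : locRing M) : ℂ) * (c k * w k y.1))
        fun k _ => by ring, ← Finset.mul_sum, h, mul_zero]
    exact fun i => congrFun (Matrix.eq_zero_of_mulVec_eq_zero hdet hmul) i
  let v : {i : Fin r // π (eB M B) i = 1} → G → ℂ := fun i => regPart p (blockPart B (fl i))
  have hvw : ∀ i (y : {y : G // IsPRegular p y}), v i y.1 = w i y.1 := fun i y => by
    show regPart p (blockPart B (fl i)) y.1 = _
    rw [regPart_of_regular y.2, blockPart_eq_sum _ (hfl i)]
  have hliv : LinearIndependent ℂ v :=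
    LinearIndependent.of_comp (LinearMap.funLeft ℂ ℂ (Subtype.val : {y : G // IsPRegular p y} → G))
      (by convert hliC using 1; funext i y; exact hvw i y)
  have hsub : Submodule.span ℂ (Set.range v) ≤
      Submodule.span ℂ ((fun χ : IrrCharacter G => pRegularPart p (χ : G → ℂ)) '' B) := by
    rw [Submodule.span_le]
    rintro _ ⟨i, rfl⟩
    have : v i = ∑ χ : IrrCharacter G with χ ∈ B,
        classInner (fl i) (χ : G → ℂ) • pRegularPart p (χ : G → ℂ) := by
      funext g
      simp only [v, Finset.sum_apply, Pi.smul_apply, smul_eq_mul, pRegularPart_eq_regPart]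
      by_cases hg : IsPRegular p g
      · simp only [regPart_of_regular hg]
        rw [blockPart_eq_filter]
      · simp [regPart_of_singular hg]
    rw [this]
    exact Submodule.sum_mem _ fun χ hχ => Submodule.smul_mem _ _
      (Submodule.subset_span ⟨χ, (Finset.mem_filter.mp hχ).2, rfl⟩)
  rw [Nat.card_eq_fintype_card, ← finrank_span_eq_card hliv, blockRank]
  exact Submodule.finrank_mono hsub

/-- A block of rank one has one class of primitive idempotents. -/
theorem equiv_of_rank_one (hM : IsPModular p M) (hB : IsPBlock M B) (h1 : blockRank p B = 1)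
    {j j' : KG M G} (hj : Corner.IsPrim j) (hj' : Corner.IsPrim j') (hje : eB M B * j = j)
    (hje' : eB M B * j' = j') : Corner.Equiv' j j' := by
  classical
  obtain ⟨r, m, hm, π, N, hπs, hN⟩ := exists_simples M G
  have hnil : ∀ a, π a = 0 → IsNilpotent a := fun a ha => ⟨N + 1, by
    have h : a ^ (N + 1) ∈ (RingHom.ker π) ^ (N + 1) := Ideal.pow_mem_pow (RingHom.mem_ker.mpr ha) _
    rcases Nat.eq_zero_or_pos N with h0 | h0
    · rw [h0] at hN
      rw [Submodule.pow_zero, Ideal.one_eq_top] at hN
      have : a ^ (N + 1) ∈ (⊥ : Ideal (KG M G)) := hN ▸ trivial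
      exact this
    · rw [Submodule.pow_succ' _ h0.ne', hN] at h
      simpa using h⟩
  have hcomp : ∀ {f : KG M G}, Corner.IsPrim f → eB M B * f = f →
      ∃ i, π (eB M B) i = 1 ∧ π f i ≠ 0 := by
    intro f hf hef
    have hne : π f ≠ 0 := fun h => hf.ne_zero ((hnil f h).eq_zero_of_isIdempotentElem hf.idem)
    obtain ⟨i, hi⟩ : ∃ i, π f i ≠ 0 := by
      by_contra hc
      push Not at hc
      exact hne (funext hc)
    refine ⟨i, ?_, hi⟩
    haveI := hm i
    set E := π (eB M B) i with hE
    have hcen : ∀ A, E * A = A * E := fun A => by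
      obtain ⟨a, ha⟩ := hπs (Pi.single i A)
      have := congrFun (congrArg π (eB_comm B a)) i
      simpa [map_mul, ha] using this
    have hsc : E = E 0 0 • 1 := PrimeDefect.scalar_of_central hcen 0
    have hidem : E * E = E := by
      have := congrFun (congrArg π (isIdempotentElem_eB hB).eq) i
      simpa [map_mul] using this
    rcases eq_or_ne (E 0 0) 0 with h0 | h0
    · exfalso
      refine hi ?_
      rw [← hef, map_mul, Pi.mul_apply, ← hE, hsc, h0, zero_smul, zero_mul]
    · rw [hsc] at hidem
      have := congrFun (congrFun hidem 0) 0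
      simp only [smul_mul_assoc, one_mul, mul_smul_comm, Matrix.smul_apply, Matrix.one_apply_eq,
        smul_eq_mul, mul_one] at this
      rw [hsc, mul_right_cancel₀ h0 (this.trans (one_mul _).symm), one_smul]
  obtain ⟨i, hi, hji⟩ := hcomp hj hje
  obtain ⟨i', hi', hji'⟩ := hcomp hj' hje'
  obtain rfl : i = i' := by
    have h := card_le_blockRank hM hB hm π hπs
    rw [h1, Nat.card_eq_fintype_card, Fintype.card_le_one_iff_subsingleton] at h
    exact congrArg Subtype.val (h.elim ⟨i, hi⟩ ⟨i', hi'⟩)
  -- a product that is not nilpotent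
  obtain ⟨a, b, hab⟩ : ∃ a b, ¬ IsNilpotent (j * a * j' * b * j) := by
    by_contra hc
    push Not at hc
    obtain ⟨x, y, hxy⟩ : ∃ x y, π j i x y ≠ 0 := by
      by_contra hz
      push Not at hz
      exact hji (Matrix.ext hz)
    obtain ⟨x', y', hxy'⟩ : ∃ x' y', π j' i x' y' ≠ 0 := by
      by_contra hz
      push Not at hz
      exact hji' (Matrix.ext hz)
    obtain ⟨a, ha⟩ := hπs (Pi.single i (Matrix.single y x' 1))
    obtain ⟨b, hb⟩ := hπs (Pi.single i (Matrix.single y' x 1))
    have hn : IsNilpotent (π (j * a * j' * b * j) i) :=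
      ((hc a b).map π).map (Pi.evalRingHom _ i)
    have hUU : π j i * π j i = π j i := by rw [← Pi.mul_apply, ← map_mul, hj.idem.eq]
    have heq : π (j * a * j' * b * j) i =
        π j i * Matrix.single y x (π j' i x' y') * π j i := by
      simp only [map_mul, Pi.mul_apply, ha, hb, Pi.single_eq_same]
      rw [show π j i * Matrix.single y x' 1 * π j' i * Matrix.single y' x 1 * π j i =
        π j i * (Matrix.single y x' 1 * π j' i * Matrix.single y' x 1) * π j i by
          simp only [mul_assoc],
        Matrix.single_mul_mul_single, one_mul, mul_one]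
    rw [heq] at hn
    have htr := (Matrix.isNilpotent_trace_of_isNilpotent hn).eq_zero
    rw [Matrix.trace_mul_comm, ← mul_assoc, hUU, Matrix.trace_mul_comm, Matrix.trace_single_mul,
      smul_eq_mul, mul_eq_zero] at htr
    exact htr.elim hxy' hxy
  set s := j * a * j' * b * j with hs
  have hjs : j * s = s := by simp only [hs, ← mul_assoc, hj.idem.eq]
  have hsj : s * j = s := by simp only [hs, mul_assoc, hj.idem.eq]
  rcases hj.dichotomy (K := ResField M) hjs hsj with h | ⟨t, hjt, -, -, hst⟩
  · exact absurd h hab
  have h1 : j * a * j' * (j' * b * t) = j := by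
    calc j * a * j' * (j' * b * t) = j * a * (j' * j') * b * (j * t) := by
          rw [hjt]
          simp only [mul_assoc]
      _ = s * t := by rw [hj'.idem.eq, hs]; simp only [mul_assoc]
      _ = j := hst
  refine ⟨j * a * j', j' * b * t, h1, ?_⟩
  set q := j' * b * t * (j * a * j') with hqdef
  have hq : q * q = q := by
    calc q * q = j' * b * t * ((j * a * j' * (j' * b * t)) * j) * a * j' := by
          simp only [hqdef, mul_assoc]
      _ = j' * b * t * j * a * j' := by rw [h1, hj.idem.eq]
      _ = q := by simp only [hqdef, mul_assoc]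
  rcases hj'.eq_of_le q hq (by simp only [hqdef, ← mul_assoc, hj'.idem.eq])
    (by simp only [hqdef, mul_assoc, hj'.idem.eq]) with h | h
  · exfalso
    refine hj.ne_zero ?_
    calc j = (j * a * j' * (j' * b * t)) * (j * a * j' * (j' * b * t)) := by rw [h1, hj.idem.eq]
      _ = j * a * j' * q * (j' * b * t) := by simp only [hqdef, mul_assoc]
      _ = 0 := by rw [h, mul_zero, zero_mul]
  · exact h

/-- Matrix units of a block of rank one. -/
theorem nonempty_matUnits (hM : IsPModular p M) (hB : IsPBlock M B) (h1 : blockRank p B = 1)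
    (hne : eB M B ≠ 0) : Nonempty (MatUnits (ResField M) (eB M B)) :=
  exists_matUnits (isIdempotentElem_eB hB) hne fun _ _ hj hj' hje _ hje' _ =>
    equiv_of_rank_one hM hB h1 hj hj' hje hje'

end CfsgLib.Blocks.CyclicDefect
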