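import Cfsg.Agent.Lib.Blocks.CyclicDefect.SectionBlock
import Cfsg.Agent.Lib.Blocks.CyclicDefect.Simples
import Cfsg.Agent.Lib.Blocks.CyclicDefect.CornerRadical

/-!
# The data at the subgroup of order `p`

The idempotent of the block of the centralizer of the subgroup of order `p` is a trace from the
defect group, orthogonal to its conjugates, and has a uniserial corner as soon as its block does.
-/

set_option autoImplicit false
set_option linter.unusedSectionVars false

noncomputable section

namespace CfsgLib.Blocks.CyclicDefect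

open Cfsg CfsgLib.GrpRing
open MonoidAlgebra (of)
open scoped ComplexConjugate CfsgLib.Char

variable {p : ℕ} {M : Ideal AlgInt} [M.IsPrime] {G : Type*} [Group G] [Fintype G]

theorem mapK_injective (K : Subgroup G) [Fintype K] : Function.Injective (mapK M K.subtype) := by
  classical
  intro a b h
  refine MonoidAlgebra.ext (Finsupp.ext fun g => ?_)
  have h1 := congrArg (fun x : KG M G => x.coeff (g : G)) h
  have e : ∀ x : KG M K, (mapK M K.subtype x).coeff (g : G) = x.coeff g := fun x => by
    rw [coeff_mapK, Finset.sum_eq_single g]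
    · exact fun z hz hne => absurd (Subtype.ext (Finset.mem_filter.mp hz).2) hne
    · exact fun h => absurd (Finset.mem_filter.mpr ⟨Finset.mem_univ g, (rfl : K.subtype g = g)⟩) h
  simpa only [e] using h1

theorem mapK_mem_spanH (K : Subgroup G) [Fintype K] (a : KG M K) :
    mapK M K.subtype a ∈ spanH (ResField M) K := by
  induction a using MonoidAlgebra.induction_on with
  | of g => rw [mapK_of]; exact of_mem_spanH g.2
  | add a b ha hb => rw [map_add]; exact add_mem ha hb
  | smul r a ha => rw [map_smul]; exact Submodule.smul_mem _ _ ha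

/-- Transport of matrix units. -/
def CornerSys.mapHom {k A A' : Type*} [Field k] [Ring A] [Algebra k A] [Ring A'] [Algebra k A']
    {e : A} (U : CornerSys e) (ψ : A →ₐ[k] A') : CornerSys (ψ e) where
  n := U.n
  E i j := ψ (U.E i j)
  mul i j r l := by rw [← map_mul, U.mul]; split_ifs <;> simp
  sum := by rw [← map_sum, U.sum]

/-- A corner generated by one element gives the data of the local corner in the group. -/
theorem exists_localCorner {K : Subgroup G} [Fintype K] {e : KG M K} (U : MatUnits (ResField M) e)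
    (hc : ∀ a, e * a = a * e)
    (hgen : ∃ y ∈ U.rad, U.rad ≤ Submodule.span (ResField M) {y} ⊔ U.rad * U.rad) :
    ∃ L : LocalCorner (ResField M) K (mapK M K.subtype e),
      L.U = U.toCornerSys.mapHom (mapK M K.subtype) := by
  classical
  obtain ⟨y, hy, hgen⟩ := hgen
  have hex : ∃ N, y ^ N = 0 := U.isNilpotent_of_mem_rad hy
  have hN0 : Nat.find hex ≠ 0 := fun h => by
    have := Nat.find_spec hex
    rw [h, pow_zero] at this
    exact U.ne (by rw [← mul_one (U.E 0 0), this, mul_zero])
  have hN' : U.eps * y ^ (Nat.find hex - 1) ≠ 0 := by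
    rcases eq_or_ne (Nat.find hex) 1 with h | h
    · rw [h, Nat.sub_self, pow_zero, mul_one]; exact U.ne
    · obtain ⟨j, hj⟩ : ∃ j, Nat.find hex - 1 = j + 1 := ⟨Nat.find hex - 2, by omega⟩
      rw [hj, pow_succ', ← mul_assoc, hy.1.1, ← pow_succ', ← hj]
      exact Nat.find_min hex (by omega)
  refine ⟨{
    U := U.toCornerSys.mapHom (mapK M K.subtype)
    y := mapK M K.subtype y
    N := Nat.find hex
    hy := by
      show mapK M K.subtype U.eps * _ = _ ∧ _ * mapK M K.subtype U.eps = _
      rw [← map_mul, ← map_mul, hy.1.1, hy.1.2]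
      exact ⟨rfl, rfl⟩
    hN := Nat.pos_of_ne_zero hN0
    hyN := by rw [← map_pow, Nat.find_spec hex, map_zero]
    hyN' := fun h => hN' (mapK_injective K (by rw [map_mul, map_pow, map_zero]; exact h))
    mem_E := fun i j => mapK_mem_spanH K _
    mem_y := mapK_mem_spanH K _
    coordH := fun h hh i j => ?_
    comm := fun h hh => ?_ }, rfl⟩
  · have hsp := U.corner_mem_span hy hgen (U.coord (of (ResField M) K ⟨h, hh⟩) i j)
    rw [(U.eps_coord _ i j).1, (U.eps_coord _ i j).2] at hsp
    have h2 := Submodule.mem_map_of_mem (f := (mapK M K.subtype).toLinearMap) hsp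
    rw [Submodule.map_span, ← Set.range_comp] at h2
    convert h2 using 1
    · refine congrArg _ (congrArg Set.range (funext fun r => ?_))
      simp only [Function.comp_apply, AlgHom.toLinearMap_apply, map_mul, map_pow, CornerSys.mapHom]
    · simp only [CornerSys.coord, AlgHom.toLinearMap_apply, map_mul, mapK_of]
      rfl
  · have := congrArg (mapK M K.subtype) (hc (of (ResField M) K ⟨h, hh⟩))
    rwa [map_mul, map_mul, mapK_of] at this

/-- The trace from the defect group in the group of a subgroup. -/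
theorem exists_trace_inH (hM : IsPModular p M) {K P : Subgroup G} [Fintype K] (hPK : P ≤ K)
    {b : Set (IrrCharacter K)} (hb : IsPBlock M b)
    (hPD : IsDefectGroup p M b (P.subgroupOf K)) :
    ∃ β : KG M G, (∀ s ∈ P, β * of (ResField M) G s = of (ResField M) G s * β) ∧
      ∑ q ∈ inH K P, cjQ (of (ResField M) G) β q = blkK M K b := by
  classical
  obtain ⟨β, hβ, htr⟩ := exists_trQ_eq_eB hM hb hPD
  have hβ' : ∀ s ∈ P, mapK M K.subtype β * of (ResField M) G s =
      of (ResField M) G s * mapK M K.subtype β := fun s hs => by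
    have := congrArg (mapK M K.subtype) (hβ ⟨s, hPK hs⟩ hs)
    rwa [map_mul, map_mul, mapK_of] at this
  refine ⟨_, hβ', ?_⟩
  rw [← mapK_eB, ← htr]
  let : Fintype (K ⧸ P.subgroupOf K) := Fintype.ofFinite _
  rw [trQ_eq, map_sum]
  have hout : ∀ g : G, (Quotient.out (g : G ⧸ P) ∈ K ↔ g ∈ K) := fun g => by
    obtain ⟨s, hs⟩ := QuotientGroup.mk_out_eq_mul P g
    rw [hs]
    exact K.mul_mem_cancel_right (hPK s.2)
  symm
  refine Finset.sum_bij' (fun r _ => (((Quotient.out r : K) : G) : G ⧸ P))
    (fun q hq => ((⟨Quotient.out q, mem_inH.mp hq⟩ : K) : K ⧸ P.subgroupOf K))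
    (fun r _ => mem_inH.mpr ((hout _).mpr (Quotient.out r).2)) (fun q _ => Finset.mem_univ _)
    (fun r _ => ?_) (fun q hq => ?_) fun r _ => ?_
  · obtain ⟨s, hs⟩ := QuotientGroup.mk_out_eq_mul P ((Quotient.out r : K) : G)
    conv_rhs => rw [← QuotientGroup.out_eq' r]
    refine QuotientGroup.eq.mpr (Subgroup.mem_subgroupOf.mpr ?_)
    simp only [Subgroup.coe_mul, Subgroup.coe_inv]
    rw [hs]
    simpa using inv_mem s.2
  · obtain ⟨s, hs⟩ := QuotientGroup.mk_out_eq_mul (P.subgroupOf K)
      (⟨Quotient.out q, mem_inH.mp hq⟩ : K)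
    rw [hs, Subgroup.coe_mul, QuotientGroup.mk_mul_of_mem _ (Subgroup.mem_subgroupOf.mp s.2)]
    exact QuotientGroup.out_eq' _
  · rw [cjQ_mk _ hβ', cjQ, cj_apply, cj_apply, map_mul, map_mul, mapK_of, mapK_of]
    rfl

theorem exists_pow_eq_of_mem {P : Subgroup G} (hcyc : IsCyclic P) {x y : G} (hx : x ∈ P)
    (hy : y ∈ P) (h : orderOf x = orderOf y) : y ∈ Subgroup.zpowers x := by
  classical
  have : Fintype P := Fintype.ofFinite P
  set S : Finset P := Finset.univ.filter fun a : P => a ^ orderOf x = 1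
  set T : Finset P := Finset.univ.filter fun a : P => (a : G) ∈ Subgroup.zpowers x
  have hS : S.card ≤ orderOf x := IsCyclic.card_pow_eq_one_le (orderOf_pos x)
  have hsub : T ⊆ S := fun a ha => by
    refine Finset.mem_filter.mpr ⟨Finset.mem_univ _, Subtype.ext ?_⟩
    obtain ⟨i, hi⟩ := Subgroup.mem_zpowers_iff.mp (Finset.mem_filter.mp ha).2
    rw [Subgroup.coe_pow, ← hi, ← zpow_natCast, ← zpow_mul, mul_comm, zpow_mul, zpow_natCast,
      pow_orderOf_eq_one, one_zpow, Subgroup.coe_one]
  have hT : T.card = orderOf x := by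
    rw [← Nat.card_zpowers, ← Nat.card_eq_finsetCard]
    exact Nat.card_congr
      { toFun := fun a => ⟨(a.1 : G), (Finset.mem_filter.mp a.2).2⟩
        invFun := fun a => ⟨⟨a.1, Subgroup.zpowers_le.mpr hx a.2⟩,
          Finset.mem_filter.mpr ⟨Finset.mem_univ _, a.2⟩⟩
        left_inv := fun _ => rfl
        right_inv := fun _ => rfl }
  have hy' : (⟨y, hy⟩ : P) ∈ T := by
    rw [Finset.eq_of_subset_of_card_le hsub (hT ▸ hS)]
    exact Finset.mem_filter.mpr ⟨Finset.mem_univ _, Subtype.ext (h ▸ pow_orderOf_eq_one y)⟩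
  exact (Finset.mem_filter.mp hy').2

/-- The trace data at the subgroup of order `p`. -/
theorem traceData_section (hM : IsPModular p M) {P : Subgroup G}
    {c : Set (IrrCharacter (Subgroup.centralizer (P : Set G)))} {B : Set (IrrCharacter G)}
    (hmax : IsMaximalBrauerPair p M B P c) (hcyc : IsCyclic P) {z : G} [Fintype (cz z)]
    (hz : z ∈ P) (hzp : orderOf z = p)
    (he : ((cz z).relIndex (blockT (Subgroup.zpowers z) (FreeQuot.bk p M P c z)) : ResField M) ≠ 0) :
    ∃ β : KG M G, TraceData (of (ResField M) G)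
      (blockT (Subgroup.zpowers z) (FreeQuot.bk p M P c z)) P
      (Subgroup.normalizer ((Subgroup.zpowers z : Subgroup G) : Set G))
      (blkK M (cz z) (FreeQuot.bk p M P c z)) β := by
  classical
  have hp := hM.1
  have : Fact p.Prime := ⟨hp⟩
  have hPp : IsPGroup p P := hmax.1.1.1
  have hab := comm_of_cyclic hcyc
  have hb := FreeQuot.bk_isBlock hM hmax.1.1 hz
  have hPH : P ≤ cz z := fun a ha b hb' => hab b (Subgroup.zpowers_le.mpr hz hb') a ha
  set b := FreeQuot.bk p M P c z
  set H := blockT (Subgroup.zpowers z) b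
  obtain ⟨β, hβ, hsum⟩ := exists_trace_inH hM hPH hb (isDefectGroup_bk hM hmax hab hz)
  have hfix : ∀ h ∈ H, blkK M (cz z) b * of (ResField M) G h =
      of (ResField M) G h * blkK M (cz z) b := fun h hh => by
    obtain ⟨hn, hs⟩ := stabilizesBlock_iff.mp (mem_blockT.mp hh).2
    exact ((blkK_fixed_of_conjSet hn hs).eq).symm
  set ei : ResField M := ((cz z).relIndex H : ResField M)⁻¹
  refine ⟨ei • β, ⟨hPH.trans centralizer_le_blockT, blockT_le_normalizer, ?_,
    (isIdempotentElem_blkK hb).eq, fun s hs => by rw [smul_mul_assoc, mul_smul_comm, hβ s hs],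
    hfix, ?_, ?_⟩⟩
  · intro g t ht x hx hx1 hmem
    obtain ⟨k, hk⟩ := IsPGroup.iff_orderOf.mp hPp ⟨x, hx⟩
    rw [Subgroup.orderOf_mk] at hk
    have hk1 : k ≠ 0 := fun h => hx1 (orderOf_eq_one_iff.mp (by rw [hk, h, pow_zero]))
    set x' := x ^ p ^ (k - 1)
    have hx'o : orderOf x' = p := by
      rw [orderOf_pow_of_dvd (pow_ne_zero _ hp.ne_zero) (hk ▸ pow_dvd_pow p (Nat.sub_le k 1)), hk,
        Nat.pow_div (Nat.sub_le k 1) hp.pos, show k - (k - 1) = 1 by omega, pow_one]
    have hmem' : t⁻¹ * (g * x' * g⁻¹) * t ∈ P := by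
      have := pow_mem hmem (p ^ (k - 1))
      rwa [show t⁻¹ * (g * x * g⁻¹) * t = t⁻¹ * (g * x * g⁻¹) * t⁻¹⁻¹ by rw [inv_inv], conj_pow,
        conj_pow, inv_inv] at this
    have h1 : t⁻¹ * (g * x' * g⁻¹) * t ∈ Subgroup.zpowers z := exists_pow_eq_of_mem hcyc hz hmem' (by
      rw [hzp, show t⁻¹ * (g * x' * g⁻¹) * t = (MulAut.conj t⁻¹) ((MulAut.conj g) x') by
        simp [mul_assoc], MulEquiv.orderOf_eq, MulEquiv.orderOf_eq, hx'o])
    have h2 : g * x' * g⁻¹ ∈ Subgroup.zpowers z := by
      have := (Subgroup.mem_normalizer_iff.mp (blockT_le_normalizer ht) _).mp h1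
      simpa [mul_assoc] using this
    have h3 : z ∈ Subgroup.zpowers x' :=
      exists_pow_eq_of_mem hcyc (pow_mem hx _) hz (by rw [hx'o, hzp])
    refine Subgroup.mem_normalizer_iff_map_conj_eq.mpr
      (Subgroup.eq_of_le_of_card_ge ?_ (card_map_conj _ _).ge)
    rw [MonoidHom.map_zpowers, Subgroup.zpowers_le]
    obtain ⟨i, hi⟩ := Subgroup.mem_zpowers_iff.mp h3
    have h4 := zpow_mem h2 i
    rw [conj_zpow, hi] at h4
    simpa using h4
  · rw [show ∑ q ∈ inH H P, cjQ (of (ResField M) G) (ei • β) q =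
      ei • ∑ q ∈ inH H P, cjQ (of (ResField M) G) β q by
        simp only [cjQ, cj_apply, mul_smul_comm, smul_mul_assoc, Finset.smul_sum],
      sum_inH _ hPH centralizer_le_blockT hβ hfix hsum, ← Nat.cast_smul_eq_nsmul (ResField M),
      smul_smul, inv_mul_cancel₀ he, one_smul]
  · intro g hg hgH
    have hne : conjSet g (cz z) (cz z) b ≠ b := fun h =>
      hgH (mem_blockT.mpr ⟨hg, stabilizesBlock_iff.mpr ⟨mem_normalizer_centralizer hg, h⟩⟩)
    have hiff : ∀ u, g * u * g⁻¹ ∈ cz z ↔ u ∈ cz z :=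
      conj_mem_iff_of_mem_normalizer (mem_normalizer_centralizer hg)
    rw [cj_apply, show of (ResField M) G g * blkK M (cz z) b * of (ResField M) G g⁻¹ =
      conjAlg (ResField M) g (blkK M (cz z) b) by
        refine MonoidAlgebra.ext (Finsupp.ext fun u => ?_)
        rw [coeff_conjAlg]
        simp [of, mul_assoc],
      conjAlg_blkK hiff]
    exact blkK_mul_ne hb (isPBlock_conjSet hiff hb) (Ne.symm hne)

/-- The stabilizer is the centralizer when the inertial quotient is trivial. -/
theorem blockT_bk_eq (hM : IsPModular p M) {P : Subgroup G}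
    {c : Set (IrrCharacter (Subgroup.centralizer (P : Set G)))} {B : Set (IrrCharacter G)}
    (hmax : IsMaximalBrauerPair p M B P c) (hcyc : IsCyclic P)
    (hT : blockT P c ≤ Subgroup.centralizer (P : Set G)) {z : G} (hz : z ∈ P) :
    blockT (Subgroup.zpowers z) (FreeQuot.bk p M P c z) = cz z := by
  refine le_antisymm (fun g hg => ?_) centralizer_le_blockT
  obtain ⟨y, hy, hyg⟩ := exists_agree_of_stab hM hmax (comm_of_cyclic hcyc) hz hg
  have := mul_mem (Subgroup.centralizer_le
    (SetLike.coe_subset_coe.mpr (Subgroup.zpowers_le.mpr hz)) (hT hy)) hyg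
  rwa [mul_inv_cancel_left] at this

end CfsgLib.Blocks.CyclicDefect
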