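import Cfsg.Agent.Lib.Blocks.CyclicDefect.LocalTwist
import Mathlib.Algebra.Polynomial.AlgebraMap
import Mathlib.Algebra.Polynomial.Inductions
import Mathlib.FieldTheory.IsAlgClosed.Basic

/-!
# Existence of the data of a twist

A uniserial local corner fixed by `t` up to an inner twist gives, after taking a root and an
eigenvector, the data of a twist.
-/

set_option autoImplicit false
set_option linter.unusedSectionVars false

noncomputable section

namespace CfsgLib.Blocks.CyclicDefect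

open MonoidAlgebra (of)
open Polynomial (X C aeval)

variable {k : Type*} [Field k] {Γ : Type*} [Group Γ] {Cc : Subgroup Γ} {c : MonoidAlgebra k Γ}

namespace LocalCorner

variable (L : LocalCorner k Cc c)

/-- Polynomials in `y` under the first idempotent. -/
def pe (f : Polynomial k) : MonoidAlgebra k Γ := L.eps * aeval L.y f

theorem commute_eps_aeval (f : Polynomial k) : Commute L.eps (aeval L.y f) := by
  induction f using Polynomial.induction_on' with
  | add f g hf hg => rw [map_add]; exact hf.add_right hg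
  | monomial n a =>
    rw [Polynomial.aeval_monomial]
    exact ((Algebra.commute_algebraMap_right a L.eps)).mul_right (L.eps_pow n)

theorem pe_mul (f g : Polynomial k) : L.pe f * L.pe g = L.pe (f * g) := by
  rw [pe, pe, pe, map_mul, mul_assoc, ← mul_assoc (aeval L.y f), ← (L.commute_eps_aeval f).eq,
    ← mul_assoc, ← mul_assoc, L.U.mul_same, mul_assoc]

theorem pe_add (f g : Polynomial k) : L.pe (f + g) = L.pe f + L.pe g := by
  rw [pe, map_add, mul_add]; rfl

theorem pe_smul (a : k) (f : Polynomial k) : L.pe (a • f) = a • L.pe f := by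
  rw [pe, map_smul, mul_smul_comm]; rfl

theorem pe_zero : L.pe 0 = 0 := by rw [pe, map_zero, mul_zero]

theorem pe_one : L.pe 1 = L.eps := by rw [pe, map_one, mul_one]

theorem pe_X : L.pe X = L.y := by rw [pe, Polynomial.aeval_X, L.hy.1]

theorem pe_C (a : k) : L.pe (C a) = a • L.eps := by
  rw [pe, Polynomial.aeval_C, ← Algebra.commutes, ← Algebra.smul_def]

theorem pe_corner (f : Polynomial k) : L.eps * L.pe f = L.pe f ∧ L.pe f * L.eps = L.pe f := by
  rw [← L.pe_one, L.pe_mul, L.pe_mul, one_mul, mul_one]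
  exact ⟨rfl, rfl⟩

theorem pe_X_pow (n : ℕ) : L.pe (X ^ n) = L.eps * L.y ^ n := by
  rw [pe, map_pow, Polynomial.aeval_X]

theorem pe_pow (f : Polynomial k) (n : ℕ) : L.pe f ^ (n + 1) = L.pe (f ^ (n + 1)) := by
  induction n with
  | zero => simp
  | succ n ih => rw [pow_succ, ih, L.pe_mul, ← pow_succ]

theorem mem_poly_iff {q : MonoidAlgebra k Γ} : q ∈ L.poly ↔ ∃ f, L.pe f = q := by
  constructor
  · intro hq
    induction hq using Submodule.span_induction with
    | mem x hx => obtain ⟨r, rfl⟩ := hx; exact ⟨_, L.pe_X_pow r⟩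
    | zero => exact ⟨0, L.pe_zero⟩
    | add x y _ _ h1 h2 =>
      obtain ⟨f, rfl⟩ := h1
      obtain ⟨g, rfl⟩ := h2
      exact ⟨f + g, L.pe_add f g⟩
    | smul a x _ h1 => obtain ⟨f, rfl⟩ := h1; exact ⟨a • f, L.pe_smul a f⟩
  · rintro ⟨f, rfl⟩
    induction f using Polynomial.induction_on' with
    | add f g hf hg => rw [L.pe_add]; exact add_mem hf hg
    | monomial n a =>
      rw [← Polynomial.C_mul_X_pow_eq_monomial, Polynomial.C_mul', L.pe_smul, L.pe_X_pow]
      exact Submodule.smul_mem _ _ (Submodule.subset_span ⟨n, rfl⟩)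

theorem pe_mul_X_pow (f : Polynomial k) {n : ℕ} (hn : L.N ≤ n) : L.pe (X ^ n * f) = 0 := by
  rw [← L.pe_mul, L.pe_X_pow, ← Nat.add_sub_cancel' hn, pow_add, L.hyN, zero_mul, mul_zero, zero_mul]

theorem isNilpotent_pe_X_mul (f : Polynomial k) : IsNilpotent (L.pe (X * f)) :=
  ⟨L.N + 1, by rw [L.pe_pow, mul_pow]; exact L.pe_mul_X_pow _ (Nat.le_succ _)⟩

theorem eps_ne_zero : L.eps ≠ 0 := fun h =>
  L.hyN' ((congrArg (· * L.y ^ (L.N - 1)) h).trans (zero_mul _))

theorem coeff_zero_of_nilpotent {f : Polynomial k} (h : IsNilpotent (L.pe f)) :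
    f.coeff 0 = 0 := by
  have h1 : L.pe f = (f.coeff 0) • L.eps + L.pe (X * f.divX) := by
    rw [← L.pe_C, ← L.pe_add, add_comm, Polynomial.X_mul_divX_add]
  have hcom : Commute (L.pe f) (L.pe (X * f.divX)) := by
    rw [Commute, SemiconjBy, L.pe_mul, L.pe_mul, mul_comm]
  obtain ⟨m, hm⟩ := hcom.isNilpotent_sub h (L.isNilpotent_pe_X_mul f.divX)
  rw [h1, add_sub_cancel_right] at hm
  have hid : IsIdempotentElem L.eps := L.U.mul_same 0 0 0
  have h4 : (f.coeff 0 • L.eps) ^ (m + 1) = 0 := by rw [pow_succ, hm, zero_mul]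
  rw [_root_.smul_pow, hid.pow_succ_eq m, smul_eq_zero] at h4
  exact eq_zero_of_pow_eq_zero (h4.resolve_right L.eps_ne_zero)

/-- Change of the generator. -/
theorem exists_change {y₁ : MonoidAlgebra k Γ} {g : Polynomial k}
    (hy₁ : y₁ = L.pe (X + X ^ 2 * g)) :
    ∃ L₁ : LocalCorner k Cc c, L₁.U = L.U ∧ L₁.y = y₁ := by
  set f := 1 + X * g with hf
  have hyf : y₁ = L.pe (X * f) := by rw [hy₁, hf]; congr 1; ring
  have hpow : ∀ r : ℕ, L.eps * y₁ ^ r = L.pe (X ^ r * f ^ r) := fun r => by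
    rcases r with - | r
    · simp [L.pe_one]
    · rw [hyf, L.pe_pow, (L.pe_corner _).1, mul_pow]
  have hspan : ∀ (d r : ℕ), L.N ≤ r + d → ∀ h : Polynomial k, L.pe (X ^ r * h) ∈
      Submodule.span k (Set.range fun i : ℕ => L.eps * y₁ ^ i) := by
    intro d
    induction d with
    | zero => intro r hr h; rw [L.pe_mul_X_pow h (by omega)]; exact zero_mem _
    | succ d ih =>
      intro r hr h
      obtain ⟨g', hg'⟩ : ∃ g', f ^ r = 1 + X * g' := by
        clear hpow hr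
        induction r with
        | zero => exact ⟨0, by simp⟩
        | succ r ihr =>
          obtain ⟨g', hg'⟩ := ihr
          exact ⟨g' + g + X * g' * g, by rw [pow_succ, hg', hf]; ring⟩
      have e : X ^ r * h = h.coeff 0 • (X ^ r * f ^ r) +
          X ^ (r + 1) * (h.divX - h.coeff 0 • g') := by
        conv_lhs => rw [← Polynomial.X_mul_divX_add h]
        rw [hg']
        simp only [Polynomial.smul_eq_C_mul]
        ring
      rw [e, L.pe_add, L.pe_smul, ← hpow]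
      exact add_mem (Submodule.smul_mem _ _ (Submodule.subset_span ⟨r, rfl⟩))
        (ih (r + 1) (by omega) _)
  refine ⟨{
    U := L.U
    y := y₁
    N := L.N
    hy := ?_
    hN := L.hN
    hyN := ?_
    hyN' := ?_
    mem_E := L.mem_E
    mem_y := ?_
    coordH := fun h hh i j => ?_
    comm := L.comm }, rfl, rfl⟩
  · rw [hyf]; exact L.pe_corner _
  · obtain ⟨n, hn⟩ := Nat.exists_eq_succ_of_ne_zero (Nat.pos_iff_ne_zero.mp L.hN)
    rw [hn, Nat.succ_eq_add_one, hyf, L.pe_pow, mul_pow]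
    exact L.pe_mul_X_pow _ (by omega)
  · rw [hpow]
    obtain ⟨g', hg'⟩ : ∃ g', f ^ (L.N - 1) = 1 + X * g' := by
      generalize L.N - 1 = r
      induction r with
      | zero => exact ⟨0, by simp⟩
      | succ r ihr =>
        obtain ⟨g', hg'⟩ := ihr
        exact ⟨g' + g + X * g' * g, by rw [pow_succ, hg', hf]; ring⟩
    have h0 := L.pe_mul_X_pow g' (n := L.N - 1 + 1) (by have := L.hN; omega)
    rw [hg', mul_add, mul_one, ← mul_assoc, ← pow_succ, L.pe_add, h0, add_zero, L.pe_X_pow]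
    exact L.hyN'
  · rw [hyf]; exact L.poly_le (L.mem_poly_iff.mpr ⟨_, rfl⟩)
  · obtain ⟨q, hq⟩ := L.mem_poly_iff.mp (L.coordH h hh i j)
    rw [← hq, ← one_mul q, ← pow_zero (X : Polynomial k)]
    exact hspan L.N 0 (by omega) q

end LocalCorner

/-- The component of degree `j` for `t`. -/
def Deg (Cc : Subgroup Γ) (t : Γ) (j : ℕ) (x : MonoidAlgebra k Γ) : Prop :=
  of k Γ (t ^ j) * x ∈ spanH k Cc

theorem deg_zero {t : Γ} {x : MonoidAlgebra k Γ} : Deg Cc t 0 x ↔ x ∈ spanH k Cc := by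
  rw [Deg, pow_zero, map_one, one_mul]

theorem pow_conj_mem {t : Γ} (hn : ∀ a ∈ Cc, t * a * t⁻¹ ∈ Cc) (j : ℕ) :
    ∀ a ∈ Cc, t ^ j * a * (t ^ j)⁻¹ ∈ Cc := by
  induction j with
  | zero => intro a ha; simpa using ha
  | succ j ih =>
    intro a ha
    have := ih _ (hn a ha)
    simpa [pow_succ, mul_assoc] using this

theorem Deg.mul {t : Γ} (hn : ∀ a ∈ Cc, t * a * t⁻¹ ∈ Cc) {i j : ℕ} {x z : MonoidAlgebra k Γ}
    (hx : Deg Cc t i x) (hz : Deg Cc t j z) : Deg Cc t (i + j) (x * z) := by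
  have h := mul_mem_spanH (conj_mem_spanH (pow_conj_mem hn j) hx) hz
  rw [Deg]
  convert h using 1
  rw [add_comm i j, pow_add, map_mul]
  simp only [mul_assoc]
  rw [← mul_assoc (of k Γ (t ^ j)⁻¹) (of k Γ (t ^ j)), ← map_mul, inv_mul_cancel, map_one, one_mul]

theorem Deg.pow {t : Γ} (hn : ∀ a ∈ Cc, t * a * t⁻¹ ∈ Cc) {x : MonoidAlgebra k Γ}
    (hx : Deg Cc t 1 x) (j : ℕ) : Deg Cc t j (x ^ j) := by
  induction j with
  | zero => rw [pow_zero, deg_zero]; exact one_mem_spanH Cc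
  | succ j ih => rw [pow_succ]; exact ih.mul hn hx

theorem Deg.of_mem {t : Γ} {j : ℕ} (hj : t ^ j ∈ Cc) {x : MonoidAlgebra k Γ} (hx : Deg Cc t j x) :
    x ∈ spanH k Cc := by
  have h := mul_mem_spanH (of_mem_spanH (k := k) (Cc.inv_mem hj)) hx
  rwa [← mul_assoc, ← map_mul, inv_mul_cancel, map_one, one_mul] at h

variable [IsAlgClosed k]

/-- The normalised element of degree one. -/
theorem exists_twist_elem {p : ℕ} [Fact p.Prime] [CharP k p] {e : ℕ} (he : 0 < e)
    (hek : (e : k) ≠ 0) (L : LocalCorner k Cc c) {t : Γ} (hn : ∀ a ∈ Cc, t * a * t⁻¹ ∈ Cc)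
    (hte : t ^ e ∈ Cc) (hct : c * of k Γ t = of k Γ t * c) {u v : MonoidAlgebra k Γ}
    (hu : u ∈ spanH k Cc) (huv : u * v = c) (hvu : v * u = c) (hcu : c * u = u) (huc : u * c = u)
    (hint : ∀ i j, u * (of k Γ t⁻¹ * L.U.E i j * of k Γ t) = L.U.E i j * u) :
    ∃ s, Deg Cc t 1 s ∧ (∀ i j, s * L.U.E i j = L.U.E i j * s) ∧ (c * s = s ∧ s * c = s) ∧
      s ^ e = c := by
  classical
  have hcc : c * c = c := L.U.idem
  have hti : ∀ x : MonoidAlgebra k Γ, of k Γ t⁻¹ * (of k Γ t * x) = x := fun x => by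
    rw [← mul_assoc, ← map_mul, inv_mul_cancel, map_one, one_mul]
  have hti' : ∀ x : MonoidAlgebra k Γ, of k Γ t * (of k Γ t⁻¹ * x) = x := fun x => by
    rw [← mul_assoc, ← map_mul, mul_inv_cancel, map_one, one_mul]
  have hct' : c * of k Γ t⁻¹ = of k Γ t⁻¹ * c := by
    calc c * of k Γ t⁻¹ = of k Γ t⁻¹ * (of k Γ t * c) * of k Γ t⁻¹ := by rw [hti]
      _ = of k Γ t⁻¹ * (c * of k Γ t) * of k Γ t⁻¹ := by rw [hct]
      _ = _ := by
        simp only [mul_assoc]
        rw [← map_mul, mul_inv_cancel, map_one, mul_one]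
  set s₀ := u * of k Γ t⁻¹ with hs₀
  have hsd : Deg Cc t 1 s₀ := by
    rw [Deg, pow_one, hs₀, ← mul_assoc]
    exact conj_mem_spanH hn hu
  have hsc : c * s₀ = s₀ ∧ s₀ * c = s₀ :=
    ⟨by rw [hs₀, ← mul_assoc, hcu], by rw [hs₀, mul_assoc, ← hct', ← mul_assoc, huc]⟩
  have hsE : ∀ i j, s₀ * L.U.E i j = L.U.E i j * s₀ := fun i j => by
    have h := congrArg (· * of k Γ t⁻¹) (hint i j)
    simp only [mul_assoc, ← map_mul, mul_inv_cancel, map_one, mul_one] at h
    rw [hs₀, mul_assoc]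
    exact h
  have hsv : s₀ * (of k Γ t * v) = c := by rw [hs₀, mul_assoc, hti, huv]
  have hvs : of k Γ t * v * s₀ = c := by
    rw [hs₀, ← mul_assoc, mul_assoc (of k Γ t) v u, hvu, mul_assoc, hct', hti']
  set a := s₀ ^ e with hadef
  have haC : a ∈ spanH k Cc := (hsd.pow hn e).of_mem hte
  have haE : ∀ i j, Commute a (L.U.E i j) := fun i j => (show Commute s₀ _ from hsE i j).pow_left e
  obtain ⟨e', he'⟩ := Nat.exists_eq_succ_of_ne_zero he.ne'
  have hca : c * a = a ∧ a * c = a := by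
    rw [hadef, he', Nat.succ_eq_add_one]
    exact ⟨by rw [pow_succ', ← mul_assoc, hsc.1], by rw [pow_succ, mul_assoc, hsc.2]⟩
  obtain ⟨f, hf⟩ := L.mem_poly_iff.mp (L.coord_mem haC 0 0)
  have ha0 : L.U.coord a 0 0 = a * L.eps := by
    rw [CornerSys.coord, ← (haE 0 0).eq, mul_assoc, L.U.mul_same]
  set lam := f.coeff 0
  have hnil : IsNilpotent (a - lam • c) := by
    refine ⟨L.N + 1, ?_⟩
    have hb : ∀ i, Commute (a - lam • c) (L.U.E i 0) := fun i =>
      (haE i 0).sub_left ((show Commute c (L.U.E i 0) by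
        rw [Commute, SemiconjBy, L.U.e_mul, L.U.mul_e]).smul_left lam)
    have hz : (a - lam • c) ^ (L.N + 1) * L.eps = 0 := by
      have h0 : Commute (a - lam • c) L.eps := hb 0
      rw [← (show IsIdempotentElem L.eps from L.U.mul_same 0 0 0).pow_succ_eq L.N, ← h0.mul_pow,
        sub_mul, smul_mul_assoc, L.U.e_mul, ← ha0, ← hf, ← L.pe_C, sub_eq_add_neg,
        ← neg_one_smul k (L.pe _), ← L.pe_smul, ← L.pe_add, neg_one_smul, ← sub_eq_add_neg,
        show f - C lam = X * f.divX by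
          conv_lhs => rw [← Polynomial.X_mul_divX_add f]
          rw [add_sub_cancel_right],
        L.pe_pow, mul_pow]
      exact L.pe_mul_X_pow _ (Nat.le_succ _)
    calc (a - lam • c) ^ (L.N + 1) = (a - lam • c) ^ (L.N + 1) * c := by
          rw [pow_succ, mul_assoc, sub_mul, hca.2, smul_mul_assoc, hcc]
      _ = ∑ i, (a - lam • c) ^ (L.N + 1) * L.U.E i i := by rw [← Finset.mul_sum, L.U.sum]
      _ = 0 := Finset.sum_eq_zero fun i _ => by
          rw [← L.U.mul_same i 0 i, ← L.U.mul_same i 0 0, ← mul_assoc, ← mul_assoc,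
            ((hb i).pow_left _).eq, mul_assoc (L.U.E i 0), hz, mul_zero, zero_mul]
  have hlam : lam ≠ 0 := by
    intro h0
    rw [h0, zero_smul, sub_zero] at hnil
    have hcomm : Commute s₀ (of k Γ t * v) := hsv.trans hvs.symm
    have hb : a * (of k Γ t * v) ^ e = c := by
      rw [hadef, ← hcomm.mul_pow, hsv, he',
        (show IsIdempotentElem c from hcc).pow_succ_eq e']
    obtain ⟨m, hm⟩ := (show Commute a ((of k Γ t * v) ^ e) from
      (hcomm.pow_pow e e)).isNilpotent_mul_right hnil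
    rw [hb] at hm
    have hc0 : c = 0 := by
      rw [← (show IsIdempotentElem c from hcc).pow_succ_eq m, pow_succ, hm, zero_mul]
    refine L.eps_ne_zero ?_
    show L.U.E 0 0 = 0
    rw [← L.U.e_mul 0 0]
    exact (congrArg (· * L.U.E 0 0) hc0).trans (zero_mul _)
  obtain ⟨γ, hγ⟩ := IsAlgClosed.exists_pow_nat_eq lam he
  set a' := lam⁻¹ • a with ha'
  have hn' : IsNilpotent (a' - c) := by
    have := hnil.smul lam⁻¹
    rwa [smul_sub, smul_smul, inv_mul_cancel₀ hlam, one_smul] at this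
  obtain ⟨Mn, hMn⟩ := hn'
  have : CharP (MonoidAlgebra k Γ) p :=
    charP_of_injective_algebraMap (algebraMap k (MonoidAlgebra k Γ)).injective p
  have hp : p.Prime := Fact.out
  set q := p ^ Mn
  have hMq : Mn ≤ q := (Nat.lt_pow_self hp.one_lt).le
  have hac : c * a' = a' ∧ a' * c = a' := by
    rw [ha', mul_smul_comm, smul_mul_assoc, hca.1, hca.2]; exact ⟨rfl, rfl⟩
  obtain ⟨q', hq'⟩ := Nat.exists_eq_succ_of_ne_zero (pow_ne_zero Mn hp.ne_zero)
  have haq : a' ^ q = c := by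
    have h0 : (a' - c) ^ q = 0 := by rw [← Nat.add_sub_cancel' hMq, pow_add, hMn, zero_mul]
    rw [sub_pow_char_pow_of_commute _ _ (show Commute a' c from hac.2.trans hac.1.symm),
      show c ^ q = c by rw [show q = q' + 1 from hq']; exact (show IsIdempotentElem c from hcc).pow_succ_eq q', sub_eq_zero] at h0
    exact h0
  have hcop : Nat.Coprime e q := by
    refine Nat.Coprime.pow_right _ ((hp.coprime_iff_not_dvd).mpr fun hd => hek ?_).symm
    exact (CharP.cast_eq_zero_iff k p e).mpr hd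
  obtain ⟨x, hx⟩ : ∃ x : ℕ, e * x ≡ q' [MOD q] := by
    obtain ⟨x0, -, hx0⟩ := Nat.exists_mul_mod_eq_of_coprime 1 hcop (pow_ne_zero Mn hp.ne_zero)
    replace hx0 : e * x0 ≡ 1 [MOD q] := hx0
    exact ⟨x0 * q', by rw [← mul_assoc]; simpa using hx0.mul_right q'⟩
  refine ⟨γ⁻¹ • (s₀ * a' ^ x), ?_, fun i j => ?_, ⟨?_, ?_⟩, ?_⟩
  · rw [Deg, mul_smul_comm]
    refine Submodule.smul_mem _ _ ?_
    have h1 : Deg Cc t 0 (a' ^ x) := deg_zero.mpr (pow_mem_spanH (Submodule.smul_mem _ _ haC) x)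
    have h2 := Deg.mul hn hsd h1
    rw [Nat.add_zero, Deg] at h2
    exact h2
  · rw [smul_mul_assoc, mul_smul_comm, mul_assoc,
      (((haE i j).smul_left lam⁻¹).pow_left x).eq, ← mul_assoc, hsE, mul_assoc]
  · rw [mul_smul_comm, ← mul_assoc, hsc.1]
  · rw [smul_mul_assoc, mul_assoc, ((show Commute a' c from hac.2.trans hac.1.symm).pow_left x).eq,
      ← mul_assoc, hsc.2]
  · have hcm : Commute s₀ (a' ^ x) :=
      (((Commute.refl s₀).pow_right e).smul_right lam⁻¹).pow_right x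
    have hdvd : q ∣ x * e + 1 := by
      have h1 : x * e + 1 ≡ q' + 1 [MOD q] := by rw [mul_comm x e]; exact hx.add_right 1
      exact Nat.modEq_zero_iff_dvd.mp (h1.trans (by
        rw [show q' + 1 = q from hq'.symm]; exact Nat.modEq_zero_iff_dvd.mpr dvd_rfl))
    obtain ⟨r, hr⟩ := hdvd
    obtain ⟨r', rfl⟩ := Nat.exists_eq_succ_of_ne_zero (n := r) fun h => by rw [h, mul_zero] at hr; omega
    rw [_root_.smul_pow, hcm.mul_pow, ← pow_mul, inv_pow, hγ, ← smul_mul_assoc,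
      show lam⁻¹ • s₀ ^ e = a' from rfl, ← pow_succ', hr, pow_mul, haq,
      (show IsIdempotentElem c from hcc).pow_succ_eq r']

/-- An eigenvector generating the corner. -/
theorem exists_twist_eigen {e : ℕ} (he : 0 < e) (hek : (e : k) ≠ 0) (L : LocalCorner k Cc c)
    {s : MonoidAlgebra k Γ} (hmem : ∀ q ∈ L.poly, s * q * s ^ (e - 1) ∈ spanH k Cc)
    (hsE : ∀ i j, s * L.U.E i j = L.U.E i j * s) (hsc : c * s = s ∧ s * c = s) (hse : s ^ e = c) :
    ∃ (L₁ : LocalCorner k Cc c) (α : k), α ^ e = 1 ∧ L₁.U = L.U ∧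
      s * L₁.y = α • (L₁.y * s) := by
  classical
  set σ : MonoidAlgebra k Γ →ₗ[k] MonoidAlgebra k Γ :=
    (LinearMap.mulRight k (s ^ (e - 1))).comp (LinearMap.mulLeft k s) with hσ
  have hσa : ∀ x, σ x = s * x * s ^ (e - 1) := fun x => rfl
  have hes : Commute L.eps s := (hsE 0 0).symm
  have hpoly : ∀ q ∈ L.poly, σ q ∈ L.poly := fun q hq => by
    have h := L.coord_mem (hmem q hq) 0 0
    obtain ⟨f, rfl⟩ := L.mem_poly_iff.mp hq
    rw [CornerSys.coord] at h
    rw [hσa]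
    convert h using 1
    show s * L.pe f * s ^ (e - 1) = L.eps * (s * L.pe f * s ^ (e - 1)) * L.eps
    simp only [← mul_assoc]
    rw [hes.eq, mul_assoc s L.eps, (L.pe_corner f).1, mul_assoc (s * L.pe f),
      ← (hes.pow_right (e - 1)).eq, ← mul_assoc, mul_assoc s (L.pe f) L.eps, (L.pe_corner f).2]
  choose! F hF using fun q hq => L.mem_poly_iff.mp (hpoly q hq)
  have hqc : ∀ q ∈ L.poly, c * q = q ∧ q * c = q := fun q hq => by
    obtain ⟨f, rfl⟩ := L.mem_poly_iff.mp hq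
    exact ⟨by rw [← (L.pe_corner f).1, ← mul_assoc, L.U.e_mul],
      by rw [← (L.pe_corner f).2, mul_assoc, L.U.mul_e]⟩
  have hσmul : ∀ q ∈ L.poly, ∀ q' ∈ L.poly, σ (q * q') = σ q * σ q' := fun q hq q' hq' => by
    have h : s ^ (e - 1) * s = c := by rw [← pow_succ, Nat.sub_add_cancel he, hse]
    rw [hσa, hσa, hσa]
    simp only [← mul_assoc]
    rw [mul_assoc (s * q) _ s, h, mul_assoc s q c, (hqc q hq).2]
  have hpe : ∀ f, L.pe f ∈ L.poly := fun f => L.mem_poly_iff.mpr ⟨f, rfl⟩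
  have hy : L.y ∈ L.poly := L.pe_X ▸ hpe X
  obtain ⟨g1, hg1⟩ := L.mem_poly_iff.mp (hpoly _ hy)
  have hg10 : g1.coeff 0 = 0 := by
    refine L.coeff_zero_of_nilpotent ⟨L.N + 1, ?_⟩
    rw [hg1, ← L.pe_X]
    have hp : ∀ n, σ (L.pe X) ^ (n + 1) = σ (L.pe (X ^ (n + 1))) := fun n => by
      induction n with
      | zero => simp
      | succ n ih => rw [pow_succ, ih, ← hσmul _ (hpe _) _ (hpe _), L.pe_mul, ← pow_succ]
    rw [hp, show (X : Polynomial k) ^ (L.N + 1) = X ^ (L.N + 1) * 1 by rw [mul_one],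
      L.pe_mul_X_pow 1 (Nat.le_succ _), map_zero]
  set g0 := g1.divX
  have hσy : σ L.y = L.pe (X * g0) := by
    have h : g1 = X * g0 := by
      conv_lhs => rw [← Polynomial.X_mul_divX_add g1, hg10, map_zero, add_zero]
    rw [← hg1, h]
  set β := g0.coeff 0
  have hσy' : σ L.y = L.pe (β • X + X ^ 2 * g0.divX) := by
    rw [hσy]
    congr 1
    conv_lhs => rw [← Polynomial.X_mul_divX_add g0]
    rw [Polynomial.smul_eq_C_mul]
    ring
  have hstep : ∀ (γ : k) (g : Polynomial k), ∃ g', σ (L.pe (γ • X + X ^ 2 * g)) =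
      L.pe ((γ * β) • X + X ^ 2 * g') := by
    intro γ g
    obtain ⟨h, hh⟩ := L.mem_poly_iff.mp (hpoly _ (hpe g))
    refine ⟨γ • g0.divX + g0 ^ 2 * h, ?_⟩
    rw [L.pe_add, map_add, L.pe_smul, map_smul, L.pe_X, hσy', ← L.pe_mul, hσmul _ (hpe _) _ (hpe g),
      sq X, ← L.pe_mul, hσmul _ (hpe X) _ (hpe X), L.pe_X, hσy, ← hh, L.pe_mul, L.pe_mul,
      ← L.pe_smul, ← L.pe_add]
    congr 1
    simp only [Polynomial.smul_eq_C_mul, map_mul]
    ring
  have hiter : ∀ j : ℕ, ∃ g, (σ^[j]) L.y = L.pe (β ^ j • X + X ^ 2 * g) := fun j => by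
    induction j with
    | zero => exact ⟨0, by simp [L.pe_X]⟩
    | succ j ih =>
      obtain ⟨g, hg⟩ := ih
      obtain ⟨g', hg'⟩ := hstep (β ^ j) g
      exact ⟨g', by rw [Function.iterate_succ', Function.comp_apply, hg, hg', ← pow_succ β j]⟩
  have hfull : (σ^[e]) L.y = L.y := by
    have h : ∀ j, (σ^[j]) L.y = s ^ j * L.y * s ^ ((e - 1) * j) := fun j => by
      induction j with
      | zero => simp
      | succ j ih =>
        rw [Function.iterate_succ', Function.comp_apply, ih, hσa]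
        simp only [← mul_assoc]
        rw [← pow_succ' s j, mul_assoc (s ^ (j + 1) * L.y), ← pow_add]
        congr 2
    obtain ⟨hcy, hyc⟩ := hqc _ hy
    rw [h, mul_comm (e - 1) e, pow_mul, hse, hcy]
    rcases Nat.eq_zero_or_pos (e - 1) with h0 | h0
    · rw [h0, pow_zero, mul_one]
    · obtain ⟨m, hm⟩ := Nat.exists_eq_succ_of_ne_zero h0.ne'
      rw [hm, (show IsIdempotentElem c from L.U.idem).pow_succ_eq m, hyc]
  rcases (show L.N = 1 ∨ 2 ≤ L.N by have := L.hN; omega) with hN1 | hN2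
  · have hy0 : L.y = 0 := by
      have h := L.hyN
      rwa [hN1, pow_one] at h
    exact ⟨L, 1, one_pow e, rfl, by rw [hy0, mul_zero, zero_mul, smul_zero]⟩
  have hβ : β ^ e = 1 := by
    obtain ⟨g, hg⟩ := hiter e
    rw [hfull] at hg
    have h2 := congrArg (fun z => L.pe (X ^ (L.N - 2)) * z) hg
    simp only [← L.pe_X, L.pe_mul] at h2
    rw [mul_add, ← mul_assoc, ← pow_add, show L.N - 2 + 2 = L.N by omega, L.pe_add,
      L.pe_mul_X_pow g le_rfl, add_zero, mul_smul_comm, L.pe_smul, ← pow_succ,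
      show L.N - 2 + 1 = L.N - 1 by omega, L.pe_X_pow] at h2
    exact (smul_left_injective k L.hyN' (show (1 : k) • (L.eps * L.y ^ (L.N - 1)) = _ by
      rw [one_smul]; exact h2)).symm
  have hβ0 : β ≠ 0 := fun h => by rw [h, zero_pow he.ne'] at hβ; exact zero_ne_one hβ
  choose G hG using hiter
  set y₁ := (e : k)⁻¹ • ∑ j ∈ Finset.range e, (β ^ j)⁻¹ • (σ^[j]) L.y with hy₁
  have hy₁e : y₁ = L.pe (X + X ^ 2 * ((e : k)⁻¹ • ∑ j ∈ Finset.range e, (β ^ j)⁻¹ • G j)) := by
    have hsum : ∀ s : Finset ℕ, ∑ j ∈ s, (β ^ j)⁻¹ • L.pe (β ^ j • X + X ^ 2 * G j) =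
        L.pe (s.card • X + X ^ 2 * ∑ j ∈ s, (β ^ j)⁻¹ • G j) := fun s => by
      induction s using Finset.induction_on with
      | empty => simp [L.pe_zero]
      | insert a s ha ih =>
        rw [Finset.sum_insert ha, ih, ← L.pe_smul, ← L.pe_add, Finset.sum_insert ha,
          Finset.card_insert_of_notMem ha]
        congr 1
        simp only [smul_add, smul_smul, inv_mul_cancel₀ (pow_ne_zero a hβ0), one_smul, add_smul,
          mul_smul_comm, mul_add]
        abel
    rw [hy₁, Finset.sum_congr rfl fun j _ => by rw [hG j], hsum, Finset.card_range, ← L.pe_smul]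
    congr 1
    rw [smul_add, ← Nat.cast_smul_eq_nsmul k, smul_smul, inv_mul_cancel₀ hek, one_smul,
      mul_smul_comm]
  obtain ⟨L₁, hU, hL₁⟩ := L.exists_change hy₁e
  refine ⟨L₁, β, hβ, hU, ?_⟩
  have hσ1 : σ y₁ = β • y₁ := by
    rw [hy₁, map_smul, map_sum, smul_comm]
    congr 1
    obtain ⟨e', he'⟩ := Nat.exists_eq_succ_of_ne_zero he.ne'
    rw [he', Nat.succ_eq_add_one] at hβ hfull ⊢
    rw [Finset.smul_sum, Finset.sum_range_succ, Finset.sum_range_succ' (fun j => β • _), map_smul,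
      ← Function.comp_apply (f := σ) (g := σ^[e']), ← Function.iterate_succ' σ e', hfull]
    congr 1
    · refine Finset.sum_congr rfl fun j _ => ?_
      rw [map_smul, ← Function.comp_apply (f := σ) (g := σ^[j]), ← Function.iterate_succ' σ j,
        smul_smul]
      congr 1
      rw [pow_succ]
      field_simp
    · rw [pow_zero, inv_one, one_smul, Function.iterate_zero, id]
      congr 1
      rw [eq_comm, ← mul_left_inj' (pow_ne_zero e' hβ0), ← pow_succ', hβ,
        inv_mul_cancel₀ (pow_ne_zero e' hβ0)]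
  rw [hL₁]
  calc s * y₁ = σ y₁ * s := by
        rw [hσa, mul_assoc (s * y₁), ← pow_succ, Nat.sub_add_cancel he, hse, mul_assoc,
          (hqc _ (L.mem_poly_iff.mpr ⟨_, hy₁e.symm⟩)).2]
    _ = β • (y₁ * s) := by rw [hσ1, smul_mul_assoc]

/-- The data of a twist. -/
theorem exists_twistData {p : ℕ} [Fact p.Prime] [CharP k p] {H : Subgroup Γ} {e : ℕ} (he : 0 < e)
    (hek : (e : k) ≠ 0) (L : LocalCorner k Cc c) {t : Γ} (ht : t ∈ H) (hCH : Cc ≤ H)
    (hgen : ∀ h ∈ H, ∃ a ∈ Cc, ∃ m : ℕ, h = a * t ^ m) (hn : ∀ a ∈ Cc, t * a * t⁻¹ ∈ Cc)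
    (hn' : ∀ a ∈ Cc, t⁻¹ * a * t ∈ Cc) (hte : ∀ m : ℕ, t ^ m ∈ Cc ↔ e ∣ m)
    (hcomm : ∀ h ∈ H, c * of k Γ h = of k Γ h * c) {u v : MonoidAlgebra k Γ}
    (hu : u ∈ spanH k Cc) (huv : u * v = c) (hvu : v * u = c) (hcu : c * u = u) (huc : u * c = u)
    (hint : ∀ i j, u * (of k Γ t⁻¹ * L.U.E i j * of k Γ t) = L.U.E i j * u) :
    Nonempty (TwistData k H Cc c e) := by
  obtain ⟨s, hsd, hsE, hsc, hse⟩ := exists_twist_elem he hek L hn ((hte e).mpr dvd_rfl)
    (hcomm t ht) hu huv hvu hcu huc hint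
  obtain ⟨L₁, α, hα, hU, hy⟩ := exists_twist_eigen he hek L (fun q hq => by
    have h := (hsd.mul hn (deg_zero.mpr (L.poly_le hq))).mul hn (hsd.pow hn (e - 1))
    rw [show 1 + 0 + (e - 1) = e by omega] at h
    exact h.of_mem ((hte e).mpr dvd_rfl)) hsE hsc hse
  exact ⟨{
    L := L₁, t := t, he := he, ht := ht, CH := hCH, gen := hgen, norm := hn, norm' := hn',
    hte := hte, comm := hcomm, s := s, α := α, hα := hα
    s_comm := by rw [hU]; exact hsE
    s_c := hsc, s_pow := hse, s_y := hy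
    s_mem := by have := hsd; rwa [Deg, pow_one] at this }⟩

end CfsgLib.Blocks.CyclicDefect
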