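import Cfsg.Agent.Lib.Blocks.CyclicDefect.Uniserial
import Cfsg.Agent.Lib.Blocks.CyclicDefect.TwistExists
import Mathlib.GroupTheory.SpecificGroups.Cyclic
import Mathlib.GroupTheory.Subgroup.Centralizer
import Mathlib.RingTheory.ZMod.UnitsCyclic

/-!
# The twist at the subgroup of order `p` of a cyclic defect group

The inertial quotient is cyclic of order dividing `p - 1` and acts freely on the defect group; the
idempotent of the block below the maximal pair carries the data of a twist.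
-/

set_option autoImplicit false
set_option linter.unusedSectionVars false

noncomputable section

namespace CfsgLib.Blocks.CyclicDefect

open Cfsg CfsgLib.GrpRing
open MonoidAlgebra (of)
open scoped ComplexConjugate CfsgLib.Char

universe u

variable {p : ℕ} {M : Ideal AlgInt} [M.IsPrime] {G : Type u} [Group G] [Fintype G] {P : Subgroup G}
  {c : Set (IrrCharacter (Subgroup.centralizer (P : Set G)))} {B : Set (IrrCharacter G)}

/-- The inertial quotient acts freely on a cyclic defect group. -/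
theorem free_of_cyclic (hM : IsPModular p M) (hmax : IsMaximalBrauerPair p M B P c)
    (hcyc : IsCyclic P) : ∀ g ∈ blockT P c, ∀ x ∈ P, x ≠ 1 → g * x * g⁻¹ = x →
      g ∈ Subgroup.centralizer (P : Set G) := by
  have hp := hM.1
  have : Fact p.Prime := ⟨hp⟩
  have hPp : IsPGroup p P := hmax.1.1.1
  obtain ⟨-, hm⟩ := maximal_of_induced hM (isDefectGroup_of_maximal hM hmax) (comm_of_cyclic hcyc)
    (FreeQuot.induced_of_maximal hM hmax (comm_of_cyclic hcyc))
  intro g hg x hx hx1 hfix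
  obtain ⟨k, hk⟩ := IsPGroup.iff_orderOf.mp hPp ⟨x, hx⟩
  rw [Subgroup.orderOf_mk] at hk
  have hk1 : k ≠ 0 := fun h => hx1 (orderOf_eq_one_iff.mp (by rw [hk, h, pow_zero]))
  set z := x ^ p ^ (k - 1) with hzdef
  have hzo : orderOf z = p := by
    rw [hzdef, orderOf_pow_of_dvd (pow_ne_zero _ hp.ne_zero) (hk ▸ pow_dvd_pow p (Nat.sub_le k 1)),
      hk, Nat.pow_div (Nat.sub_le k 1) hp.pos, show k - (k - 1) = 1 by omega, pow_one]
  have hcomm : Commute g x := mul_inv_eq_iff_eq_mul.mp hfix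
  set v := (orderOf g).factorization p
  have hgp : g ^ p ^ v ∈ Subgroup.centralizer (P : Set G) :=
    mem_centralizer_of_fix hp hPp hcyc (pow_mem (blockT_le_normalizer hg) _) (by
      rw [orderOf_pow_of_dvd (pow_ne_zero _ hp.ne_zero) (Nat.ordProj_dvd _ p)]
      exact Nat.not_dvd_ordCompl hp (orderOf_pos g).ne') (pow_mem hx _) hzo
      (mul_inv_eq_iff_eq_mul.mpr (hcomm.pow_pow _ _).eq)
  set m := (Subgroup.centralizer (P : Set G)).relIndex (blockT P c)
  have hC : ((Subgroup.centralizer (P : Set G)).subgroupOf (blockT P c)).Normal :=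
    Subgroup.normal_subgroupOf_of_le_normalizer
      (blockT_le_normalizer.trans fun a ha => mem_normalizer_centralizer ha)
  have hgm : g ^ m ∈ Subgroup.centralizer (P : Set G) :=
    Subgroup.mem_subgroupOf.mp (Subgroup.pow_index_mem
      ((Subgroup.centralizer (P : Set G)).subgroupOf (blockT P c)) (⟨g, hg⟩ : blockT P c))
  obtain ⟨a, b, hab⟩ := Int.isCoprime_iff_nat_coprime.mpr
    (show Nat.Coprime (m : ℤ).natAbs ((p ^ v : ℕ) : ℤ).natAbs by
      rw [Int.natAbs_natCast, Int.natAbs_natCast]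
      exact Nat.Coprime.pow_right _ (hp.coprime_iff_not_dvd.mpr hm).symm)
  rw [← zpow_one g, ← hab, zpow_add, mul_comm a, mul_comm b, zpow_mul, zpow_mul, zpow_natCast,
    zpow_natCast]
  exact mul_mem (zpow_mem hgm a) (zpow_mem hgp b)

/-- A generator of the stabilizer over the centralizer. -/
theorem exists_stab_generator (hM : IsPModular p M) (hmax : IsMaximalBrauerPair p M B P c)
    (hcyc : IsCyclic P) {z : G} (hz : z ∈ P) (hzp : orderOf z = p) {e : ℕ}
    (he : (Subgroup.centralizer (P : Set G)).relIndex (blockT P c) = e) :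
    (∃ t ∈ blockT (Subgroup.zpowers z) (FreeQuot.bk p M P c z),
      (∀ h ∈ blockT (Subgroup.zpowers z) (FreeQuot.bk p M P c z),
        ∃ a ∈ cz z, ∃ m : ℕ, h = a * t ^ m) ∧ ∀ m : ℕ, t ^ m ∈ cz z ↔ e ∣ m) ∧
    (cz z).relIndex (blockT (Subgroup.zpowers z) (FreeQuot.bk p M P c z)) = e ∧ e ∣ p - 1 := by
  classical
  have hp := hM.1
  have : Fact p.Prime := ⟨hp⟩
  set Z := Subgroup.zpowers z with hZ
  set b := FreeQuot.bk p M P c z
  set H := blockT Z b
  set T := blockT P c
  have hcardZ : Nat.card Z = p := by rw [hZ, Nat.card_zpowers, hzp]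
  have hcycZ : IsCyclic Z := isCyclic_of_prime_card hcardZ
  have : IsCyclic (MulAut Z) := (IsCyclic.mulAutMulEquiv Z).isCyclic.mpr (by
    rw [hcardZ]
    exact ZMod.isCyclic_units_prime hp)
  set φ : H →* MulAut Z :=
    (Subgroup.normalizerMonoidHom Z).comp (Subgroup.inclusion blockT_le_normalizer)
  have hker : ∀ h : H, φ h = 1 ↔ (h : G) ∈ cz z := fun h => by
    rw [← MonoidHom.mem_ker]
    show Subgroup.inclusion blockT_le_normalizer h ∈ (Subgroup.normalizerMonoidHom Z).ker ↔ _
    rw [Subgroup.normalizerMonoidHom_ker, Subgroup.mem_subgroupOf]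
    rfl
  obtain ⟨⟨f, t, rfl⟩, hgen⟩ := (inferInstance : IsCyclic φ.range).exists_generator
  have hTH : T ≤ H := fun y hy => mem_blockT_bk hM hmax hz hy (by
    refine Subgroup.mem_normalizer_iff_map_conj_eq.mpr
      (Subgroup.eq_of_le_of_card_ge ?_ (card_map_conj _ _).ge)
    rw [MonoidHom.map_zpowers, Subgroup.zpowers_le]
    refine exists_pow_eq_of_mem hcyc hz
      ((Subgroup.mem_normalizer_iff.mp (blockT_le_normalizer hy) z).mp hz) ?_
    exact (Transfer.orderOf_conj y z).symm)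
  set ψ : T →* MulAut Z := φ.comp (Subgroup.inclusion hTH)
  have hrange : ψ.range = φ.range := by
    refine le_antisymm ?_ ?_
    · rintro _ ⟨y, rfl⟩
      exact ⟨_, rfl⟩
    · rintro _ ⟨⟨g, hg⟩, rfl⟩
      obtain ⟨y, hy, hyg⟩ := exists_agree_of_stab hM hmax (comm_of_cyclic hcyc) hz hg
      refine ⟨⟨y, hy⟩, ?_⟩
      have h1 : φ ⟨y⁻¹ * g, H.mul_mem (H.inv_mem (hTH hy)) hg⟩ = 1 := (hker _).mpr hyg
      rw [show (⟨g, hg⟩ : H) = ⟨y, hTH hy⟩ * ⟨y⁻¹ * g, H.mul_mem (H.inv_mem (hTH hy)) hg⟩ from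
        Subtype.ext (by simp), map_mul, h1, mul_one]
      rfl
  have hψker : ψ.ker = (Subgroup.centralizer (P : Set G)).subgroupOf T := by
    ext y
    rw [MonoidHom.mem_ker, Subgroup.mem_subgroupOf]
    show φ (Subgroup.inclusion hTH y) = 1 ↔ _
    rw [hker]
    constructor
    · intro h
      refine free_of_cyclic hM hmax hcyc y y.2 z hz (fun h1 => hp.ne_one ?_) ?_
      · rw [← hzp, h1, orderOf_one]
      · exact mul_inv_eq_iff_eq_mul.mpr (h z (Subgroup.mem_zpowers z)).symm
    · exact fun h => Subgroup.centralizer_le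
        (SetLike.coe_subset_coe.mpr (Subgroup.zpowers_le.mpr hz)) h
  have hcard : Nat.card φ.range = e := by
    rw [← hrange, ← Subgroup.index_ker, hψker]
    exact he
  have hord : orderOf (φ t) = e := by
    rw [← hcard, ← Subgroup.orderOf_mk (φ t) (MonoidHom.mem_range.mpr ⟨t, rfl⟩)]
    exact orderOf_eq_card_of_forall_mem_zpowers hgen
  refine ⟨⟨t, t.2, fun h hh => ?_, fun m => ?_⟩, ?_, ?_⟩
  · obtain ⟨m, hm⟩ := (mem_powers_iff_mem_zpowers.mpr (hgen ⟨φ ⟨h, hh⟩, _, rfl⟩))
    have hm' : φ t ^ m = φ ⟨h, hh⟩ := congrArg Subtype.val hm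
    refine ⟨h * ((t : G) ^ m)⁻¹, ?_, m, (inv_mul_cancel_right _ _).symm⟩
    have h1 : φ (⟨h, hh⟩ * (t ^ m)⁻¹) = 1 := by
      rw [map_mul, map_inv, map_pow, hm', mul_inv_cancel]
    exact (hker _).mp h1
  · rw [← Subgroup.coe_pow, ← hker, map_pow, ← orderOf_dvd_iff_pow_eq_one, hord]
  · rw [Subgroup.relIndex, ← hcard, ← Subgroup.index_ker]
    congr 1
    ext h
    rw [MonoidHom.mem_ker, Subgroup.mem_subgroupOf, hker]
  · rw [← hcard, ← Nat.totient_prime hp]
    have h := Subgroup.card_subgroup_dvd_card φ.range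
    rwa [IsCyclic.card_mulAut Z, hcardZ] at h

/-- Intertwining units of two systems of matrix units. -/
theorem CornerSys.exists_intertwiner {k A : Type*} [Field k] [Ring A] [Algebra k A] {e : A}
    (U : CornerSys e) {E' : Fin (U.n + 1) → Fin (U.n + 1) → A}
    (hmul : ∀ i j r l, E' i j * E' r l = if j = r then E' i l else 0) (hsum : ∑ i, E' i i = e)
    {x y : A} (hxy : x * y = U.eps) (hyx : y * x = E' 0 0) (hex : U.eps * x = x)
    (hxe : x * E' 0 0 = x) (hey : E' 0 0 * y = y) (hye : y * U.eps = y) :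
    ∃ u v : A, u * v = e ∧ v * u = e ∧ e * u = u ∧ u * e = u ∧
      ∀ i j, u * E' i j = U.E i j * u := by
  classical
  set u := ∑ i, U.E i 0 * x * E' 0 i with hu
  set v := ∑ i, E' i 0 * y * U.E 0 i with hv
  have hl : ∀ i, U.E i 0 * x * E' 0 0 * y * U.E 0 i = U.E i i := fun i => by
    rw [mul_assoc (U.E i 0) x, hxe, mul_assoc (U.E i 0) x y, hxy, U.mul_same, U.mul_same]
  have hr : ∀ i, E' i 0 * y * U.eps * x * E' 0 i = E' i i := fun i => by
    rw [mul_assoc (E' i 0) y, hye, mul_assoc (E' i 0) y x, hyx, hmul, if_pos rfl, hmul, if_pos rfl]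
  refine ⟨u, v, ?_, ?_, ?_, ?_, fun i j => ?_⟩
  · rw [← U.sum, hu, hv, Finset.sum_mul]
    refine Finset.sum_congr rfl fun i _ => ?_
    rw [Finset.mul_sum, Finset.sum_eq_single i]
    · rw [← hl i]
      simp only [mul_assoc]
      rw [← mul_assoc (E' 0 i), hmul, if_pos rfl]
    · intro j _ hj
      simp only [mul_assoc]
      rw [← mul_assoc (E' 0 i), hmul, if_neg (Ne.symm hj), zero_mul, mul_zero, mul_zero]
    · simp
  · rw [← hsum, hu, hv, Finset.sum_mul]
    refine Finset.sum_congr rfl fun i _ => ?_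
    rw [Finset.mul_sum, Finset.sum_eq_single i]
    · rw [← hr i]
      simp only [mul_assoc]
      rw [← mul_assoc (U.E 0 i), U.mul_same]
    · intro j _ hj
      simp only [mul_assoc]
      rw [← mul_assoc (U.E 0 i), U.mul, if_neg (Ne.symm hj), zero_mul, mul_zero, mul_zero]
    · simp
  · rw [hu, Finset.mul_sum]
    simp only [← mul_assoc, U.e_mul]
  · rw [hu, Finset.sum_mul]
    refine Finset.sum_congr rfl fun i _ => ?_
    rw [mul_assoc, show E' 0 i * e = E' 0 i * ∑ j, E' j j by rw [hsum], Finset.mul_sum,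
      Finset.sum_eq_single i]
    · rw [hmul, if_pos rfl]
    · intro j _ hj
      rw [hmul, if_neg (Ne.symm hj)]
    · simp
  · rw [hu, Finset.sum_mul, Finset.mul_sum, Finset.sum_eq_single i, Finset.sum_eq_single j]
    · rw [mul_assoc, hmul, if_pos rfl, ← mul_assoc, ← mul_assoc, U.mul_same]
    · intro r _ hr'
      rw [← mul_assoc, ← mul_assoc, U.mul, if_neg (Ne.symm hr'), zero_mul, zero_mul]
    · simp
    · intro r _ hr'
      rw [mul_assoc, hmul, if_neg hr', mul_zero]
    · simp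

/-- The data of a twist at the subgroup of order `p`. -/
theorem nonempty_twistData (hM : IsPModular p M) (hmax : IsMaximalBrauerPair p M B P c)
    (hcyc : IsCyclic P) {z : G} [Fintype (cz z)] (hz : z ∈ P) (hzp : orderOf z = p) {e : ℕ}
    (he : (Subgroup.centralizer (P : Set G)).relIndex (blockT P c) = e) :
    (e : ResField M) ≠ 0 ∧ Nonempty (TwistData (ResField M)
      (blockT (Subgroup.zpowers z) (FreeQuot.bk p M P c z)) (cz z)
      (mapK M (cz z).subtype (eB M (FreeQuot.bk p M P c z))) e) := by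
  classical
  have hp := hM.1
  have : Fact p.Prime := ⟨hp⟩
  have := charP_resField hM
  obtain ⟨⟨t, ht, hgen, hte⟩, -, hdvd⟩ := exists_stab_generator hM hmax hcyc hz hzp he
  have he0 : 0 < e := Nat.pos_of_dvd_of_pos hdvd (by have := hp.two_le; omega)
  have hek : (e : ResField M) ≠ 0 := fun h => by
    have h1 := Nat.le_of_dvd (by have := hp.two_le; omega) hdvd
    have h2 := Nat.le_of_dvd he0 ((CharP.cast_eq_zero_iff (ResField M) p e).mp h)
    have := hp.two_le
    omega
  refine ⟨hek, ?_⟩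
  have hab := comm_of_cyclic hcyc
  have hPK : P ≤ cz z := fun a ha b hb => hab b (Subgroup.zpowers_le.mpr hz hb) a ha
  set b := FreeQuot.bk p M P c z
  have hb := FreeQuot.bk_isBlock hM hmax.1.1 hz
  have hbD := isDefectGroup_bk hM hmax hab hz
  have hcycK : IsCyclic (P.subgroupOf (cz z)) :=
    (Subgroup.subgroupOfEquivOfLe hPK).isCyclic.mpr hcyc
  have hCIK : RegActsTrivially p (P.subgroupOf (cz z)) := fun g hg hreg => by
    refine mem_centralizer_of_fix hp (IsDefectGroup.isPGroup hM hbD) hcycK hg hreg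
      (z := (⟨z, hPK hz⟩ : cz z)) (Subgroup.mem_subgroupOf.mpr hz)
      (by rw [← Subgroup.orderOf_coe]; exact hzp) ?_
    refine Subtype.ext (mul_inv_eq_iff_eq_mul.mpr ?_)
    exact (g.2 z (Subgroup.mem_zpowers z)).symm
  have h1 := blockRank_eq_one_of_trivial hM hb hbD hcycK hCIK
  obtain ⟨UK⟩ := nonempty_matUnits hM hb h1 (eB_ne_zero hM hb)
  set cc := mapK M (cz z).subtype (eB M b) with hcc
  have hcomm : ∀ h ∈ blockT (Subgroup.zpowers z) b,
      cc * of (ResField M) G h = of (ResField M) G h * cc := fun h hh => by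
    obtain ⟨hn, hs⟩ := stabilizesBlock_iff.mp (mem_blockT.mp hh).2
    rw [hcc, mapK_eB]
    exact ((blkK_fixed_of_conjSet hn hs).eq).symm
  have hiff : ∀ g ∈ blockT (Subgroup.zpowers z) b, ∀ a, g * a * g⁻¹ ∈ cz z ↔ a ∈ cz z :=
    fun g hg => conj_mem_iff_of_mem_normalizer (mem_normalizer_centralizer (blockT_le_normalizer hg))
  have hn : ∀ a ∈ cz z, t * a * t⁻¹ ∈ cz z := fun a ha => (hiff t ht a).mpr ha
  have hn' : ∀ a ∈ cz z, t⁻¹ * a * t ∈ cz z := fun a ha => by
    have := (hiff t⁻¹ (inv_mem ht) a).mpr ha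
    rwa [inv_inv] at this
  let σ : cz z →* cz z :=
    { toFun := fun a => ⟨t⁻¹ * a * t, hn' _ a.2⟩
      map_one' := Subtype.ext (by simp)
      map_mul' := fun a a' => Subtype.ext (by simp [mul_assoc]) }
  have hσs : Function.Surjective σ := fun a =>
    ⟨⟨t * a * t⁻¹, hn _ a.2⟩, Subtype.ext (by simp [σ, mul_assoc])⟩
  have hσ : ∀ a : KG M (cz z), mapK M (cz z).subtype (mapK M σ a) =
      of (ResField M) G t⁻¹ * mapK M (cz z).subtype a * of (ResField M) G t := fun a => by
    induction a using MonoidAlgebra.induction_on with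
    | of g => rw [mapK_of, mapK_of, mapK_of, ← map_mul, ← map_mul]; rfl
    | add f g hf hg => simp only [map_add, mul_add, add_mul, hf, hg]
    | smul r f hf => simp only [map_smul, mul_smul_comm, smul_mul_assoc, hf]
  have hσe : mapK M σ (eB M b) = eB M b := mapK_injective (cz z) (by
    rw [hσ, mul_assoc, hcomm t ht, ← mul_assoc, ← map_mul, inv_mul_cancel, map_one, one_mul])
  set U' := UK.map (mapK M σ) (mapK_surjective hσs) (by rw [hσe]; exact eB_ne_zero hM hb)
  have hU'e : eB M b * U'.eps = U'.eps :=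
    (congrArg (· * U'.eps) hσe.symm).trans (U'.e_mul 0 0)
  obtain ⟨x, y, hxy, hyx, hex, hxe, hey, hye⟩ := Corner.Equiv'.exists_corner UK.isPrim.idem
    U'.isPrim.idem (equiv_of_rank_one hM hb h1 UK.isPrim U'.isPrim (UK.e_mul 0 0) hU'e)
  obtain ⟨u, v, huv, hvu, hcu, huc, hint⟩ := UK.toCornerSys.exists_intertwiner (k := ResField M)
    (E' := fun i j => mapK M σ (UK.E i j))
    (fun i j r l => U'.mul i j r l) (by rw [← map_sum, UK.sum, hσe]) hxy hyx hex hxe hey hye
  obtain ⟨L, hLU⟩ := exists_localCorner UK (eB_comm b) (exists_uniserial hM hb hbD hcycK hCIK UK)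
  let ι := mapK M (cz z).subtype
  refine exists_twistData (p := p) he0 hek L ht centralizer_le_blockT hgen hn hn' hte hcomm
    (u := ι u) (v := ι v) (mapK_mem_spanH _ u) (by rw [← map_mul, huv]) (by rw [← map_mul, hvu])
    (by rw [hcc, ← map_mul, hcu]) (by rw [hcc, ← map_mul, huc]) ?_
  rw [hLU]
  intro i j
  show ι u * (of (ResField M) G t⁻¹ * ι (UK.E i j) * of (ResField M) G t) = ι (UK.E i j) * ι u
  rw [← hσ, ← map_mul, ← map_mul]
  exact congrArg ι (hint i j)

end CfsgLib.Blocks.CyclicDefect
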