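import Cfsg.Agent.Lib.Blocks.CyclicDefect.FrobeniusBlock

/-!
# Columns of a group with a self-centralizing normal cyclic `p`-subgroup

The column at a non-identity element of the subgroup is the value there, so the constant weight one
serves; and a member that is not constant on the subgroup is exceptional, or the only such member.
-/

set_option autoImplicit false
set_option linter.unusedSectionVars false

namespace CfsgLib.Blocks.CyclicDefect

open Cfsg
open scoped ComplexConjugate CfsgLib.Char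

variable {p : ℕ} {M : Ideal AlgInt} [M.IsPrime] {F : Type*} [Group F] [Fintype F] {Q : Subgroup F}
  [Q.Normal] {c : Set (IrrCharacter (Subgroup.centralizer (Q : Set F)))}

/-- The stabilizer is the whole group. -/
theorem blockT_eq_top (hM : IsPModular p M) (hQ : IsPGroup p Q) (hcyc : IsCyclic Q)
    (hQC : Subgroup.centralizer (Q : Set F) = Q)
    (hpair : IsBrauerPairOf p M (Set.univ : Set (IrrCharacter F)) Q c) : blockT Q c = ⊤ := by
  classical
  have hp := hM.1
  have hab := comm_of_cyclic hcyc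
  refine eq_top_iff.mpr fun g _ => ?_
  have hg : g ∈ Subgroup.normalizer (Q : Set F) := by
    rw [Subgroup.normalizer_eq_top_iff.mpr inferInstance]; trivial
  refine mem_blockT.mpr ⟨hg, stabilizesBlock_iff.mpr ⟨mem_normalizer_centralizer hg, ?_⟩⟩
  have h := isBrauerPairOf_conjPair g (a := ⟨Q, c⟩) hpair
  rw [conjPair_of_mem_normalizer hg] at h
  let : Fintype (Subgroup.centralizer (Q : Set F)) := Fintype.ofFinite _
  obtain ⟨hbC, -⟩ := univ_isBlock_defectGroup (M := M) hM
    (F := Subgroup.centralizer (Q : Set F)) (Q := ⊤)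
    ((hQ.of_equiv (MulEquiv.subgroupCongr hQC.symm)).to_subgroup ⊤)
    (by rw [Subgroup.index_top]; exact hp.not_dvd_one) (by
      refine eq_top_iff.mpr fun a _ => Subgroup.mem_centralizer_iff.mpr fun b _ => ?_
      exact Subtype.ext (hab _ (hQC.le b.2) _ (hQC.le a.2)))
  have huniv : ∀ f : Set (IrrCharacter (Subgroup.centralizer (Q : Set F))),
      IsPBlock M f → f = Set.univ := fun f hf => by
    obtain ⟨ξ, hξ⟩ := IsPBlock.nonempty hf
    exact IsPBlock.eq_of_mem_of_mem hf hbC hξ (Set.mem_univ _)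
  exact (huniv _ h.1.2).trans (huniv _ hpair.1.2).symm

variable (hM : IsPModular p M)
  (hmax : IsMaximalBrauerPair p M (Set.univ : Set (IrrCharacter F)) Q c) (hcyc : IsCyclic Q)
  (hQC : Subgroup.centralizer (Q : Set F) = Q)
include hM hmax hcyc hQC

theorem cz_eq_self {x : F} (hx : x ∈ Q) (hx1 : x ≠ 1) : cz x = Q := by
  refine le_antisymm (fun g hg => hQC.le ?_) fun g hg => ?_
  · refine free_of_cyclic hM hmax hcyc g ?_ x hx hx1 ?_
    · rw [blockT_eq_top hM hmax.1.1.1 hcyc hQC hmax.1]; trivial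
    · rw [mem_cz_iff] at hg
      rw [hg, mul_inv_cancel_right]
  · rw [mem_cz_iff]
    exact comm_of_cyclic hcyc g hg x hx

variable [DecidablePred (· ∈ (Set.univ : Set (IrrCharacter F)))]

/-- The column is the value. -/
theorem col_eq_value (η : IrrCharacter F) {x : F} (hx : x ∈ Q) (hx1 : x ≠ 1) :
    FreeQuot.col p M Q c x η = (η : F → ℂ) x := by
  classical
  let := Fintype.ofFinite (cz x)
  have hab := comm_of_cyclic hcyc
  have hfree := free_of_cyclic hM hmax hcyc
  have hczp : IsPGroup p (cz x) := cz_eq_self hM hmax hcyc hQC hx hx1 ▸ hmax.1.1.1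
  have hczab : ∀ a b : cz x, a * b = b * a := fun a b => Subtype.ext
    (hab _ ((cz_eq_self hM hmax hcyc hQC hx hx1).le a.2) _
      ((cz_eq_self hM hmax hcyc hQC hx hx1).le b.2))
  obtain ⟨hU, -⟩ := univ_isBlock_defectGroup (M := M) hM (F := cz x) (Q := ⊤)
    (hczp.to_subgroup ⊤) (by rw [Subgroup.index_top]; exact hM.1.not_dvd_one)
    (eq_top_iff.mpr fun a _ => Subgroup.mem_centralizer_iff.mpr fun b _ => hczab b a)
  have hb := FreeQuot.bk_isBlock hM hmax.1.1 hx
  have hbu : FreeQuot.bk p M Q c x = Set.univ := by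
    obtain ⟨ξ, hξ⟩ := IsPBlock.nonempty hb
    exact IsPBlock.eq_of_mem_of_mem hb hU hξ (Set.mem_univ _)
  obtain ⟨huni, -⟩ := FreeQuot.bk_uni_card hM hmax hab hfree hx hx1
  have hξ : trivIrr (cz x) ∈ FreeQuot.bk p M Q c x := hbu ▸ Set.mem_univ _
  have h := FreeQuot.blockPart_secFun x huni hξ (η : F → ℂ) (FreeQuot.regular_one hM (H := cz x))
  rw [← FreeQuot.col_eq, show ((trivIrr (cz x) : cz x → ℂ) 1) = 1 from rfl, mul_one] at h
  rw [← h, hbu]
  have hcls : IsClassFunction (cz x) (FreeQuot.secFun (cz x) x (η : F → ℂ)) := fun a b => by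
    rw [hczab b a, mul_inv_cancel_right]
  have hexp := congrFun (Char.classFunction_expansion hcls) 1
  simp only [Finset.sum_apply, Pi.smul_apply, smul_eq_mul] at hexp
  rw [blockPart_eq_filter, Finset.filter_true_of_mem fun _ _ => Set.mem_univ _, ← hexp, FreeQuot.secFun,
    Subgroup.coe_one, mul_one]

variable [Fintype Q]

theorem isColWeight_one : FreeQuot.IsColWeight p M Q c (fun _ : Q => (1 : ℂ)) := by
  refine ⟨fun _ _ => by simp, fun _ => isIntegral_one, fun _ _ _ => rfl, fun η =>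
    ⟨fun u : Q => (η : F → ℂ) u, Char.isGeneralized_restrict Q (Char.isGeneralized_of_isIrr η.2),
      fun u hu => ?_⟩⟩
  rw [one_mul, col_eq_value hM hmax hcyc hQC η u.2 fun h => hu (Subtype.ext h)]

omit hmax hQC hM in
/-- A character constant off the identity of `Q` and not constant on `Q` has large degree. -/
theorem degree_ge (η : IrrCharacter F) {z : ℤ}
    (hc : ∀ u : Q, u ≠ 1 → (η : F → ℂ) u = (z : ℂ)) (hz : z = 1 ∨ z = -1)
    (hne : ∃ x ∈ Q, (η : F → ℂ) x ≠ (η : F → ℂ) 1) :
    Nat.card Q ≤ charDegree (η : F → ℂ) + 1 := by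
  classical
  have habQ : ∀ a b : Q, a * b = b * a := fun a b =>
    Subtype.ext (comm_of_cyclic hcyc _ a.2 _ b.2)
  obtain ⟨k, hk⟩ := Char.exists_multiplicities
    (Char.isCharacter_restrict Q (Char.isCharacter_of_isIrr η.2))
  obtain ⟨x, hx, hxne⟩ := hne
  set d := charDegree (η : F → ℂ)
  have hd : (η : F → ℂ) 1 = (d : ℂ) := (irr_degree_eq η).1
  have hx1 : x ≠ 1 := fun h => hxne (by rw [h])
  have hval : ∀ u : Q, (η : F → ℂ) u = ∑ ψ : IrrCharacter Q, (k ψ : ℂ) * (ψ : Q → ℂ) u := fun u => by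
    have h := congrFun hk u
    simpa [Finset.sum_apply] using h
  have hQ : (Nat.card Q : ℂ) ≠ 0 := Nat.cast_ne_zero.mpr Nat.card_pos.ne'
  have hcoef : ∀ ψ : IrrCharacter Q,
      (Nat.card Q : ℤ) * k ψ = (d : ℤ) - z + z * (if ψ = trivIrr Q then (Nat.card Q : ℤ) else 0) := by
    intro ψ
    apply Int.cast_injective (α := ℂ)
    push_cast
    have h1 : classInner (fun u : Q => (η : F → ℂ) u) (ψ : Q → ℂ) = (k ψ : ℂ) := by
      rw [hk, Char.classInner_sum_smul_irr]
    rw [← h1, classInner, mul_inv_cancel_left₀ hQ]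
    have h2 := Char.classInner_coe (trivIrr Q) ψ
    rw [classInner, inv_mul_eq_iff_eq_mul₀ hQ] at h2
    rw [← Finset.add_sum_erase _ _ (Finset.mem_univ (1 : Q))] at h2 ⊢
    rw [Finset.sum_congr (s₁ := Finset.univ.erase (1 : Q)) rfl fun u hu => by
      rw [hc u (Finset.mem_erase.mp hu).1], ← Finset.mul_sum]
    simp only [show ∀ u, (trivIrr Q : Q → ℂ) u = 1 from fun _ => rfl, one_mul,
      Char.degree_one_of_comm habQ, map_one, Subgroup.coe_one, hd, mul_one] at h2 ⊢
    rw [eq_sub_of_add_eq' h2]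
    split_ifs with h h' h' <;> first
      | exact absurd h.symm h'
      | exact absurd h'.symm h
      | (push_cast; ring)
  by_cases hdz : (d : ℤ) = z
  · exfalso
    refine hxne ?_
    rw [show x = ((⟨x, hx⟩ : Q) : F) from rfl, hc _ (fun h => hx1 (congrArg Subtype.val h)), hd,
      ← hdz, Int.cast_natCast]
  obtain ⟨ψ, hψ⟩ : ∃ ψ : IrrCharacter Q, ψ ≠ trivIrr Q := by
    by_contra hcon
    push Not at hcon
    have h := Char.sum_degree_mul_irr (⟨x, hx⟩ : Q)
    rw [Finset.sum_congr rfl (g := fun _ => (1 : ℂ)) fun ψ _ => by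
      rw [hcon ψ, show ∀ u, (trivIrr Q : Q → ℂ) u = 1 from fun _ => rfl,
        show ∀ u, (trivIrr Q : Q → ℂ) u = 1 from fun _ => rfl, mul_one],
      if_neg (fun h => hx1 (congrArg Subtype.val h)), Finset.sum_const, Finset.card_univ,
      nsmul_eq_mul, mul_one, Nat.cast_eq_zero, Fintype.card_eq_zero_iff] at h
    exact h.false (trivIrr Q)
  have h := hcoef ψ
  rw [if_neg hψ, mul_zero, add_zero] at h
  rcases Nat.eq_zero_or_pos (k ψ) with h0 | h0
  · rw [h0, Nat.cast_zero, mul_zero] at h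
    exact absurd (sub_eq_zero.mp h.symm) hdz
  · have h' : (Nat.card Q : ℤ) ≤ Nat.card Q * k ψ :=
      le_mul_of_one_le_right (by positivity) (by exact_mod_cast h0)
    omega

end CfsgLib.Blocks.CyclicDefect
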