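import Cfsg.Agent.Lib.Blocks.CyclicDefect.Counts

/-!
# Stabilizers described by the conjugates of the members
-/

set_option autoImplicit false
set_option linter.unusedSectionVars false

namespace CfsgLib.Blocks.CyclicDefect

open Cfsg
open scoped CfsgLib.Char

variable {G : Type*} [Group G] [Fintype G]

/-- The stabilizer described through the conjugates of the members. -/
theorem eq_blockT_of_mem_iff {D : Subgroup G}
    {b : Set (IrrCharacter (Subgroup.centralizer (D : Set G)))} {T : Subgroup G}
    (hT : ∀ g : G, g ∈ T ↔ (g ∈ Subgroup.normalizer (D : Set G) ∧ ∀ θ ∈ b,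
      ∀ θ' : IrrCharacter (Subgroup.centralizer (D : Set G)),
        (∀ h h' : Subgroup.centralizer (D : Set G), (h' : G) = g * h * g⁻¹ →
          (θ' : Subgroup.centralizer (D : Set G) → ℂ) h' =
            (θ : Subgroup.centralizer (D : Set G) → ℂ) h) → θ' ∈ b)) :
    T = blockT D b := by
  classical
  have := Fintype.ofFinite (Subgroup.centralizer (D : Set G))
  ext g
  rw [hT, mem_blockT]
  refine and_congr_right fun hg => ?_
  have hC := conj_mem_iff_of_mem_normalizer (mem_normalizer_centralizer hg)
  rw [stabilizesBlock_iff, and_iff_right (mem_normalizer_centralizer hg)]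
  constructor
  · intro h
    have hsub : conjSet g (Subgroup.centralizer (D : Set G)) (Subgroup.centralizer (D : Set G)) b ⊆ b :=
      fun θ' ⟨θ, hθ, hv⟩ => h θ hθ θ' hv
    refine Set.eq_of_subset_of_ncard_le hsub ?_ (Set.toFinite _)
    rw [conjSet_eq_image hC, Set.ncard_image_of_injective _ (conjIrr_injective hC)]
  · intro h θ hθ θ' hv
    rw [← h]
    exact ⟨θ, hθ, hv⟩

end CfsgLib.Blocks.CyclicDefect
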