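import Cfsg.Agent.Lib.Blocks.CyclicDefect.BlockIdem
import Cfsg.Agent.Lib.Blocks.ValReduction
import Cfsg.Agent.Lib.Blocks.BlockTwo
import Cfsg.Agent.Lib.Blocks.Sections
import Mathlib.LinearAlgebra.Matrix.Charpoly.Coeff

/-!
# The reduction of a character as a functional on the group algebra

It is a trace functional and vanishes on the nilpotent elements.
-/

set_option autoImplicit false
set_option linter.unusedSectionVars false
set_option linter.style.haveILetI false

noncomputable section

namespace CfsgLib.Blocks.CyclicDefect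

open Cfsg CfsgLib.GrpRing
open MonoidAlgebra (of single)
open scoped ComplexConjugate CfsgLib.Char

variable {p : ℕ} {M : Ideal AlgInt} [M.IsPrime] {G : Type*} [Group G] [Fintype G]
  {B : Set (IrrCharacter G)}

variable (M) in
/-- The functional. -/
def chiT (χ : G → ℂ) : KG M G →ₗ[ResField M] ResField M :=
  (MonoidAlgebra.basis G (ResField M)).constr (ResField M) fun g => res M (χ g)

theorem chiT_of (χ : G → ℂ) (g : G) : chiT M χ (of (ResField M) G g) = res M (χ g) := by
  have h : of (ResField M) G g = MonoidAlgebra.basis G (ResField M) g := by simp [of]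
  rw [chiT, h, Module.Basis.constr_basis]

theorem chiT_mul_comm {χ : G → ℂ} (hχ : IsClassFunction G χ) (a b : KG M G) :
    chiT M χ (a * b) = chiT M χ (b * a) := by
  induction a using MonoidAlgebra.induction_on with
  | of g =>
    induction b using MonoidAlgebra.induction_on with
    | of h =>
      rw [← map_mul, ← map_mul, chiT_of, chiT_of, ← hχ (g * h) h]
      congr 2
      group
    | add b b' hb hb' => rw [mul_add, add_mul, map_add, map_add, hb, hb']
    | smul r b hb => rw [mul_smul_comm, smul_mul_assoc, map_smul, map_smul, hb]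
  | add a a' ha ha' => rw [add_mul, mul_add, map_add, map_add, ha, ha']
  | smul r a ha => rw [smul_mul_assoc, mul_smul_comm, map_smul, map_smul, ha]

/-- It vanishes on the nilpotent elements. -/
theorem chiT_nilpotent (χ : IrrCharacter G) {a : KG M G} (ha : IsNilpotent a) :
    chiT M (χ : G → ℂ) a = 0 := by
  classical
  obtain ⟨V, hV, hI⟩ := ValRed.exists_valuation M
  let ι₀ : locRing M →+* V :=
    { toFun := fun z => ⟨z, hV _ z.2⟩
      map_one' := rfl
      map_mul' := fun _ _ => rfl
      map_zero' := rfl
      map_add' := fun _ _ => rfl }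
  let ι : ResField M →+* IsLocalRing.ResidueField V :=
    Ideal.Quotient.lift (locIdeal M) ((IsLocalRing.residue V).comp ι₀) fun z hz => by
      rw [RingHom.comp_apply, IsLocalRing.residue_eq_zero_iff]
      exact hI _ _ hz
  have hι : ∀ z : ℂ, (hz : MemLocalRing M z) →
      ι (res M z) = IsLocalRing.residue V ⟨z, hV _ hz⟩ := fun z hz => by
    rw [res_mk hz]
    rfl
  obtain ⟨n, ρ, hρ⟩ := Char.isCharacter_of_isIrr χ.2
  obtain ⟨κ, hκ, hκ', b, hb⟩ := ValRed.exists_integral_basis V ρ
  let RV : G →* Matrix κ κ V :=
    { toFun := fun g => Matrix.of fun i j => ⟨_, hb g i j⟩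
      map_one' := by
        ext i j
        simp [Matrix.one_apply]
        split_ifs <;> simp
      map_mul' := fun g h => by
        ext i j
        simp [LinearMap.toMatrix_mul, Matrix.mul_apply] }
  let R : G →* Matrix κ κ (IsLocalRing.ResidueField V) :=
    (IsLocalRing.residue V).mapMatrix.toMonoidHom.comp RV
  let Ψ : KG M G →+* Matrix κ κ (IsLocalRing.ResidueField V) :=
    MonoidAlgebra.liftNCRingHom
      ((algebraMap (IsLocalRing.ResidueField V) (Matrix κ κ (IsLocalRing.ResidueField V))).comp ι)
      R fun x y => Algebra.commutes (ι x) (R y)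
  have hΨ : ∀ (r : ResField M) (g : G), Ψ (r • of (ResField M) G g) = ι r • R g := fun r g => by
    simp [Ψ, of, MonoidAlgebra.liftNCRingHom, Algebra.smul_def]
  have hkey : ∀ x : KG M G, ι (chiT M (χ : G → ℂ) x) = (Ψ x).trace := by
    have hg : ∀ g, ι (res M ((χ : G → ℂ) g)) = (R g).trace := fun g => by
      rw [hι _ (memLocalRing_of_isIntegral (irr_isIntegral χ.2 g)), Matrix.trace]
      simp only [Matrix.diag, R, RV, MonoidHom.comp_apply, MonoidHom.coe_mk, OneHom.coe_mk,
        RingHom.toMonoidHom_eq_coe, MonoidHom.coe_coe, RingHom.mapMatrix_apply, Matrix.map_apply,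
        Matrix.of_apply, ← map_sum]
      congr 1
      refine Subtype.ext ?_
      rw [AddSubmonoidClass.coe_finsetSum]
      show (χ : G → ℂ) g = _
      exact (congrFun hρ g).symm.trans (LinearMap.trace_eq_matrix_trace ℂ b (ρ g))
    intro x
    rw [← BlockTwo.elt_coeff x]
    simp only [BlockTwo.elt, map_sum, Matrix.trace_sum]
    refine Finset.sum_congr rfl fun g _ => ?_
    rw [show (single g (x.coeff g) : KG M G) = x.coeff g • of (ResField M) G g by simp [of],
      map_smul, hΨ, Matrix.trace_smul, smul_eq_mul, map_mul, chiT_of, hg, smul_eq_mul]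
  have h := (Matrix.isNilpotent_trace_of_isNilpotent (ha.map Ψ)).eq_zero
  rw [← hkey] at h
  exact ι.injective (h.trans (map_zero ι).symm)

/-- On the part of the block it is the character. -/
theorem chiT_eB_mul (hB : IsPBlock M B) {χ : IrrCharacter G} (hχ : χ ∈ B) (g : G) :
    chiT M (χ : G → ℂ) (eB M B * of (ResField M) G g) = res M ((χ : G → ℂ) g) := by
  classical
  have hl := IsPBlock.memLocalRing_blockCoeff hB
  have hint : ∀ x, MemLocalRing M ((χ : G → ℂ) x) := fun x =>
    memLocalRing_of_isIntegral (irr_isIntegral χ.2 x)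
  have h0 : blockPart B (χ : G → ℂ) g = (χ : G → ℂ) g := by
    rw [blockPart_eq_filter, Finset.sum_eq_single χ]
    · rw [Char.classInner_coe, if_pos rfl, one_mul]
    · intro η _ hne
      rw [Char.classInner_coe, if_neg (Ne.symm hne), zero_mul]
    · intro h
      exact absurd (Finset.mem_filter.mpr ⟨Finset.mem_univ _, hχ⟩) h
  rw [← h0, blockPart_eq_sum _ (irr_classFunction χ),
    res_sum _ _ fun z _ => memLocalRing_mul (hl z) (hint _), ← BlockTwo.elt_coeff (eB M B)]
  simp only [BlockTwo.elt, Finset.sum_mul, map_sum]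
  refine Finset.sum_congr rfl fun z _ => ?_
  rw [res_mul (hl z) (hint _),
    show (single z ((eB M B).coeff z) : KG M G) = (eB M B).coeff z • of (ResField M) G z by
      simp [of],
    smul_mul_assoc, ← map_mul, map_smul, chiT_of, coeff_eB, smul_eq_mul]

end CfsgLib.Blocks.CyclicDefect
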