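import Cfsg.Agent.Lib.Blocks.CyclicDefect.SectionData
import Cfsg.Agent.Lib.Blocks.CyclicDefect.CentralStep
import Cfsg.Agent.Lib.Blocks.CyclicDefect.TraceLink
import Cfsg.Agent.Lib.Blocks.CyclicDefect.QuotientIdem

/-!
# The corner of a nilpotent block with cyclic defect group is uniserial

A block with cyclic defect group whose normalizer induces no automorphism of order prime to `p`
has a first corner generated by one nilpotent element.
-/

set_option autoImplicit false
set_option linter.unusedSectionVars false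

noncomputable section

namespace CfsgLib.Blocks.CyclicDefect

open Cfsg CfsgLib.GrpRing
open MonoidAlgebra (of)
open scoped ComplexConjugate CfsgLib.Char

universe u

variable {p : ℕ} {M : Ideal AlgInt} [M.IsPrime] {G : Type u} [Group G] [Fintype G]
  {B : Set (IrrCharacter G)}

theorem isDeriv_derivEnd {k Γ : Type*} [Field k] [IsAlgClosed k] [Group Γ] [Fintype Γ]
    {e : MonoidAlgebra k Γ} (U : MatUnits k e) (hc : ∀ a, e * a = a * e)
    {d : MonoidAlgebra k Γ →ₗ[k] k} (hd : U.IsEpsDeriv d) :
    IsDeriv (U.act hc) (U.derivEnd d) := fun a b => by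
  simp only [U.derivEnd_apply, U.act_apply, U.derivMat_mul hc hd, map_add, map_mul]

/-- A trace from the trivial subgroup has no derivations. -/
theorem rad_le_sq_of_trace_bot {k Γ : Type*} [Field k] [IsAlgClosed k] [Group Γ] [Fintype Γ]
    {e : MonoidAlgebra k Γ} (U : MatUnits k e) (hc : ∀ a, e * a = a * e) {β : MonoidAlgebra k Γ}
    (hβ : ∑ g, of k Γ g * β * of k Γ g⁻¹ = e) : U.rad ≤ U.rad * U.rad := by
  classical
  intro x hx
  refine U.mem_sq_of_deriv hx fun d hd => ?_
  set Φ := U.act hc
  set D := U.derivEnd d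
  have hD : IsDeriv Φ D := isDeriv_derivEnd U hc hd
  set h := ∑ g, D (of k Γ g) * Φ (β * of k Γ g⁻¹)
  refine U.deriv_eq_zero_of_inner hc hd h (fun z => ?_) x
  induction z using MonoidAlgebra.induction_on with
  | of y =>
    have key : h * Φ (of k Γ y) = Φ (of k Γ y) * h + D (of k Γ y) := by
      calc h * Φ (of k Γ y) = ∑ g, D (of k Γ g) * Φ (β * of k Γ (g⁻¹ * y)) := by
            simp only [h, Finset.sum_mul, mul_assoc, ← map_mul]
        _ = ∑ g, D (of k Γ (y * g)) * Φ (β * of k Γ g⁻¹) := by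
            refine (Fintype.sum_equiv (Equiv.mulLeft y) _ _ fun g => ?_).symm
            simp
        _ = ∑ g, (Φ (of k Γ y) * (D (of k Γ g) * Φ (β * of k Γ g⁻¹)) +
              D (of k Γ y) * Φ (of k Γ g * β * of k Γ g⁻¹)) :=
            Finset.sum_congr rfl fun g _ => by
              rw [map_mul (of k Γ) y g, hD, add_mul, map_mul Φ, map_mul Φ, map_mul Φ]
              simp only [mul_assoc]
        _ = _ := by
            rw [Finset.sum_add_distrib, ← Finset.mul_sum, ← Finset.mul_sum, ← map_sum Φ, hβ,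
              U.act_e, mul_one]
    show D (of k Γ y) = _
    rw [key, add_sub_cancel_left]
  | add a b ha hb => simp only [map_add, mul_add, add_mul, ha, hb]; abel
  | smul r a ha => simp only [map_smul, mul_smul_comm, smul_mul_assoc, ha, smul_sub]

theorem trQ_bot {k : Type*} [Field k] {A : Type*} [Ring A] [Algebra k A] (ρ : G →* A) (a : A) :
    trQ ρ (⊥ : Subgroup G) a = ∑ g, ρ g * a * ρ g⁻¹ := by
  classical
  let : Fintype (G ⧸ (⊥ : Subgroup G)) := Fintype.ofFinite _
  rw [trQ_eq]
  have hb : ∀ g : G, Quotient.out (g : G ⧸ (⊥ : Subgroup G)) = g := fun g => by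
    obtain ⟨s, hs⟩ := QuotientGroup.mk_out_eq_mul (⊥ : Subgroup G) g
    rw [hs, Subgroup.mem_bot.mp s.2, mul_one]
  refine Fintype.sum_equiv
    { toFun := Quotient.out, invFun := QuotientGroup.mk,
      left_inv := QuotientGroup.out_eq', right_inv := hb } _ _ fun q => ?_
  exact cj_apply ρ _ a

/-- A block of defect zero. -/
theorem rad_le_sq_of_defect_zero (hM : IsPModular p M) (hB : IsPBlock M B)
    (hP : IsDefectGroup p M B (⊥ : Subgroup G)) (U : MatUnits (ResField M) (eB M B)) :
    U.rad ≤ U.rad * U.rad := by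
  obtain ⟨β, -, hβ⟩ := exists_trQ_eq_eB hM hB hP
  rw [trQ_bot (k := ResField M)] at hβ
  exact rad_le_sq_of_trace_bot U (eB_comm B) hβ

theorem eB_ne_zero (hM : IsPModular p M) (hB : IsPBlock M B) : eB M B ≠ 0 := by
  obtain ⟨D, hD⟩ := exists_isDefectGroup hM hB
  exact fun h => trunc_eB_ne_zero hM hD (by rw [h, map_zero])

theorem mapK_surjective {G' : Type*} [Group G'] {f : G →* G'} (hf : Function.Surjective f) :
    Function.Surjective (mapK M f) := fun y => by
  induction y using MonoidAlgebra.induction_on with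
  | of g =>
    obtain ⟨x, rfl⟩ := hf g
    exact ⟨_, mapK_of f x⟩
  | add a b ha hb =>
    obtain ⟨x, rfl⟩ := ha
    obtain ⟨x', rfl⟩ := hb
    exact ⟨x + x', map_add _ _ _⟩
  | smul r a ha =>
    obtain ⟨x, rfl⟩ := ha
    exact ⟨r • x, map_smul _ _ _⟩

variable (p M G) in
/-- The conclusion for the blocks of `G`. -/
def Gen : Prop :=
  ∀ (B : Set (IrrCharacter G)) (P : Subgroup G), IsPBlock M B → IsDefectGroup p M B P → IsCyclic P →
    RegActsTrivially p P → ∀ e : KG M G, e = eB M B → ∀ U : MatUnits (ResField M) e,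
      ∃ y ∈ U.rad, U.rad ≤ Submodule.span (ResField M) {y} ⊔ U.rad * U.rad

/-- The step through the central subgroup of order `p`. -/
theorem gen_central_step (hM : IsPModular p M) (hB : IsPBlock M B) {P : Subgroup G}
    (hPD : IsDefectGroup p M B P) (hcyc : IsCyclic P) (hCI : RegActsTrivially p P) {w : G}
    (hwP : P = Subgroup.zpowers w) {r : ℕ} (hw : orderOf w = p ^ (r + 1))
    (hu : w ^ p ^ r ∈ Subgroup.center G)
    (ih : ∀ (G₂ : Type u) [Group G₂] [Fintype G₂], Nat.card G₂ < Nat.card G → Gen p M G₂)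
    (U : MatUnits (ResField M) (eB M B)) :
    ∃ y ∈ U.rad, U.rad ≤ Submodule.span (ResField M) {y} ⊔ U.rad * U.rad := by
  classical
  have hp := hM.1
  have : Fact p.Prime := ⟨hp⟩
  have := charP_resField hM
  set u := w ^ p ^ r with hudef
  set N := Subgroup.zpowers u with hN
  have hPp : IsPGroup p P := IsDefectGroup.isPGroup hM hPD
  have huo : orderOf u = p := by
    rw [hudef, orderOf_pow_of_dvd (pow_ne_zero _ hp.ne_zero) (hw ▸ pow_dvd_pow p (Nat.le_succ r)),
      hw, Nat.pow_div (Nat.le_succ r) hp.pos, Nat.succ_sub (le_refl r), Nat.sub_self, pow_one]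
  have hNP : N ≤ P := by
    rw [hN, hwP, Subgroup.zpowers_le]
    exact pow_mem (Subgroup.mem_zpowers w) _
  have hNc : ∀ k ∈ N, ∀ g : G, Commute k g := fun k hk g =>
    (Subgroup.mem_center_iff.mp ((Subgroup.zpowers_le.mpr hu) hk) g).symm
  have : N.Normal := ⟨fun k hk g => by rwa [(hNc k hk g).symm.eq, mul_inv_cancel_right]⟩
  have hNp : IsPGroup p N := hPp.to_le hNP
  let : Fintype (G ⧸ N) := Fintype.ofFinite _
  set π := QuotientGroup.mk' N
  have hπs : Function.Surjective π := QuotientGroup.mk'_surjective N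
  have hker : π.ker = N := QuotientGroup.ker_mk' N
  set B₂ := CentralQuot.pre π hπs B
  have hB₂ : IsPBlock M B₂ :=
    CentralQuot.isPBlock_pre π hπs hM (by rw [hker]; exact hNp) (by rw [hker]; exact hNc) hB
  have hD₂ : IsDefectGroup p M B₂ (P.map π) := isDefectGroup_pre hM hNp hNc hB hPD
  have hψe : mapK M π (eB M B) = eB M B₂ := mapK_eB_pre π hπs hB
  have hψne : mapK M π (eB M B) ≠ 0 := hψe ▸ eB_ne_zero hM hB₂
  set U₂ := U.map (mapK M π) (mapK_surjective hπs) hψne
  have hu1 : π u = 1 := (QuotientGroup.eq_one_iff u).mpr (Subgroup.mem_zpowers u)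
  have hkeru : ∀ g, π g = 1 → g ∈ Subgroup.zpowers u := fun g hg =>
    (QuotientGroup.eq_one_iff g).mp hg
  have hun : ∃ j : ℕ, u ^ p ^ j = 1 := ⟨1, by rw [pow_one, ← huo, pow_orderOf_eq_one]⟩
  have hlt : Nat.card (G ⧸ N) < Nat.card G := by
    rw [Subgroup.card_eq_card_quotient_mul_card_subgroup N,
      show Nat.card N = p by rw [hN, Nat.card_zpowers, huo]]
    exact lt_mul_of_one_lt_right Nat.card_pos hp.one_lt
  -- the quotient
  have key : ∃ y₂ ∈ U₂.rad, U₂.rad ≤ Submodule.span (ResField M) {y₂} ⊔ U₂.rad * U₂.rad ∧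
      (r = 0 → y₂ = 0) := by
    rcases Nat.eq_zero_or_pos r with hr | hr
    · refine ⟨0, zero_mem _, ?_, fun _ => rfl⟩
      have hbot : P.map π = ⊥ := by
        rw [Subgroup.map_eq_bot_iff, hker, hN, hudef, hr, pow_zero, pow_one, hwP]
      have hD₀ : IsDefectGroup p M B₂ ⊥ := hbot ▸ hD₂
      have key0 : ∀ e : KG M (G ⧸ N), e = eB M B₂ → ∀ U' : MatUnits (ResField M) e,
          U'.rad ≤ U'.rad * U'.rad := by
        rintro e rfl U'
        exact rad_le_sq_of_defect_zero hM hB₂ hD₀ U'
      exact (key0 _ hψe U₂).trans le_sup_right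
    · have hcyc₂ : IsCyclic (P.map π) := by
        have := hcyc
        exact isCyclic_of_surjective (π.subgroupMap P) (π.subgroupMap_surjective P)
      have hCI₂ : RegActsTrivially p (P.map π) := by
        intro gq hgq hreg
        obtain ⟨g, rfl⟩ := hπs gq
        obtain ⟨m, -, -, hm3, hm4⟩ := CentralQuot.exists_exponent hp G
        have hgm : π (g ^ m) = π g := by
          rw [map_pow]
          calc π g ^ m = π g ^ 1 := pow_eq_pow_iff_modEq.mpr (hm4 _
                ((orderOf_dvd_natCard _).trans (Subgroup.card_dvd_of_surjective π hπs)) hreg)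
            _ = π g := pow_one _
        have hmem : ∀ x, x ∈ P ↔ π x ∈ P.map π := fun x => by
          rw [← Subgroup.mem_comap, Subgroup.comap_map_eq_self (by rw [hker]; exact hNP)]
        have hn : g ^ m ∈ Subgroup.normalizer (P : Set G) :=
          Subgroup.mem_normalizer_iff.mpr fun x => by
            rw [hmem x, hmem (g ^ m * x * (g ^ m)⁻¹), map_mul, map_mul, map_inv, hgm]
            exact Subgroup.mem_normalizer_iff.mp hgq (π x)
        have hc' := mem_centralizer_of_fix hp hPp hcyc hn (hm3 g) (hNP (Subgroup.mem_zpowers u))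
          huo (by rw [← (hNc u (Subgroup.mem_zpowers u) (g ^ m)).eq, mul_inv_cancel_right])
        rintro _ ⟨x, hx, rfl⟩
        rw [← hgm, ← map_mul, ← map_mul, hc' x hx]
      obtain ⟨y₂, hy₂, hgen⟩ := ih (G ⧸ N) hlt B₂ (P.map π) hB₂ hD₂ hcyc₂ hCI₂ _ hψe U₂
      exact ⟨y₂, hy₂, hgen, fun h => absurd h hr.ne'⟩
  obtain ⟨y₂, hy₂, hgen, hy0⟩ := key
  refine exists_gen_of_quotient U hkeru hu1 hu hun (U₂.isNilpotent_of_mem_rad hy₂) hπs hy₂.1
    (fun a => ?_) ?_ ?_
  · rw [map_mul, map_mul]
    exact U₂.corner_mem_span hy₂ hgen _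
  · exact U₂.ne
  rcases Nat.eq_zero_or_pos r with hr | hr
  · exact Or.inl (hy0 hr)
  refine Or.inr fun d hd => ?_
  obtain ⟨χ, hχ, hχ0⟩ := exists_blockHeight_eq_zero hM hB
  obtain ⟨g, hg, hsyl⟩ := isDefectGroup_iff.mp hPD
  have hwg : Commute w g :=
    Subgroup.mem_centralizer_singleton_iff.mp (hsyl.1 (hwP ▸ Subgroup.mem_zpowers w))
  have hne : res M ((χ : G → ℂ) g) ≠ 0 := fun h =>
    not_memLocalIdeal_value_of_height_zero hM hB hχ hχ0 hg
      ((res_eq_zero_iff (memLocalRing_of_isIntegral (irr_isIntegral χ.2 g))).mp h)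
  refine deriv_central_eq_zero U (eB_comm B) hr hu hun rfl hwg
    (IsDefectClass.isPRegular hM hB hg) (fun h => hne ?_) hd
  rw [← chiT_eB_mul hB hχ g, U.trace_functional (eB_comm B) (chiT M (χ : G → ℂ))
    (chiT_mul_comm (irr_classFunction χ)) (fun a => chiT_nilpotent χ), h, mul_zero]

/-- The step from the centralizer of the subgroup of order `p`. -/
theorem gen_section_step (hM : IsPModular p M) (hB : IsPBlock M B) {P : Subgroup G}
    (hPD : IsDefectGroup p M B P) (hcyc : IsCyclic P) (hCI : RegActsTrivially p P) {z : G}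
    [Fintype (cz z)] (hz : z ∈ P) (hzp : orderOf z = p) (ih : Gen p M (cz z))
    (U : MatUnits (ResField M) (eB M B)) :
    ∃ y ∈ U.rad, U.rad ≤ Submodule.span (ResField M) {y} ⊔ U.rad * U.rad := by
  classical
  have hp := hM.1
  have : Fact p.Prime := ⟨hp⟩
  have := charP_resField hM
  obtain ⟨c, hc⟩ := exists_pair_of_defectGroup hM hB hPD
  have hmax := isMaximalBrauerPair_of_defectGroup hM hPD hc
  have hab := comm_of_cyclic hcyc
  have hPK : P ≤ cz z := fun a ha b hb => hab b (Subgroup.zpowers_le.mpr hz hb) a ha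
  set b := FreeQuot.bk p M P c z
  have hb := FreeQuot.bk_isBlock hM hmax.1.1 hz
  have hbD := isDefectGroup_bk hM hmax hab hz
  have hcycK : IsCyclic (P.subgroupOf (cz z)) :=
    (Subgroup.subgroupOfEquivOfLe hPK).isCyclic.mpr hcyc
  have hCIK : RegActsTrivially p (P.subgroupOf (cz z)) := by
    intro g hg hreg x hx
    have hn : (g : G) ∈ Subgroup.normalizer (P : Set G) :=
      Subgroup.mem_normalizer_iff.mpr fun y => by
        constructor
        · intro hy
          exact Subgroup.mem_subgroupOf.mp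
            ((Subgroup.mem_normalizer_iff.mp hg ⟨y, hPK hy⟩).mp (Subgroup.mem_subgroupOf.mpr hy))
        · intro hy
          have hyK : y ∈ cz z := by
            have := mul_mem (mul_mem (inv_mem g.2) (hPK hy)) g.2
            simpa [mul_assoc] using this
          exact Subgroup.mem_subgroupOf.mp ((Subgroup.mem_normalizer_iff.mp hg ⟨y, hyK⟩).mpr
            (Subgroup.mem_subgroupOf.mpr hy))
    exact Subtype.ext (hCI g hn (by rwa [Subgroup.orderOf_coe]) x (Subgroup.mem_subgroupOf.mp hx))
  obtain ⟨UK⟩ := nonempty_matUnits hM hb (blockRank_eq_one_of_trivial hM hb hbD hcycK hCIK)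
    (eB_ne_zero hM hb)
  obtain ⟨L, -⟩ := exists_localCorner UK (eB_comm b) (ih b _ hb hbD hcycK hCIK _ rfl UK)
  have hT := blockT_le_centralizer hM hmax hcyc hCI
  have hH := blockT_bk_eq hM hmax hcyc hT hz
  obtain ⟨β, D⟩ := traceData_section hM hmax hcyc hz hzp (by
    rw [hH, Subgroup.relIndex_self, Nat.cast_one]
    exact one_ne_zero)
  rw [hH, ← mapK_eB] at D
  set cc := mapK M (cz z).subtype (eB M b)
  set tr := trQ (of (ResField M) G) (cz z) cc
  have htr : ∀ a, tr * a = a * tr := fun a => by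
    induction a using MonoidAlgebra.induction_on with
    | of g => exact trQ_commute _ D.fixc g
    | add f g hf hg => rw [mul_add, add_mul, hf, hg]
    | smul t f hf => rw [mul_smul_comm, smul_mul_assoc, hf]
  have htrue : ¬ IsNilpotent (tr * eB M B) := by
    intro hnil
    set Z := Subgroup.zpowers z
    have hZp : IsPGroup p Z := (IsDefectGroup.isPGroup hM hPD).to_le (Subgroup.zpowers_le.mpr hz)
    have hcfix : cc ∈ fixAlg (ResField M) (Z : Set G) :=
      mem_fixAlg.mpr fun s hs => (D.fixc s (D.PH (Subgroup.zpowers_le.mpr hz hs))).symm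
    have hcsupp : trunc Z cc = cc := trunc_eq_self fun g hg => by
      simp only [cc, mapK_eB]
      exact coeff_blkK_of_notMem b hg
    obtain ⟨a, ha⟩ := D.exists_trace (ResField M) (π := cc) D.fixc D.idem D.idem
    have hX : tr * eB M B * cc = eB M B * cc + eB M B * ∑ h : G with h ∈ cz z, cj (of (ResField M) G) h a := by
      rw [← mul_add, ← ha, htr (eB M B), mul_assoc]
      congr 1
      rw [← htr cc, mul_assoc, D.idem]
    have hzero : trunc Z (eB M B * ∑ h : G with h ∈ cz z, cj (of (ResField M) G) h a) = 0 := by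
      refine MonoidAlgebra.ext (Finsupp.ext fun y => ?_)
      by_cases hy : y ∈ Subgroup.centralizer (Z : Set G)
      swap
      · rw [coeff_trunc_of_notMem _ hy]; rfl
      rw [coeff_trunc_of_mem _ hy, Finset.mul_sum, MonoidAlgebra.coeff_sum, Finsupp.finsetSum_apply,
        Finset.sum_subtype (p := (· ∈ cz z)) _ (fun h => by simp)]
      have hterm : ∀ h : G, (eB M B * cj (of (ResField M) G) h a).coeff y =
          (eB M B * a).coeff (h⁻¹ * y * h) := fun h => by
        rw [cj_apply, ← mul_assoc, ← mul_assoc, eB_comm B (of (ResField M) G h),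
          mul_assoc (of (ResField M) G h)]
        generalize eB M B * a = q
        simp [of, mul_assoc]
      simp only [hterm]
      let f : cz z ⧸ Z.subgroupOf (cz z) → ResField M := Quotient.lift
        (fun h : cz z => (eB M B * a).coeff ((h : G)⁻¹ * y * h)) (fun h h' hhh => by
          obtain ⟨s, hs, rfl⟩ : ∃ s ∈ Z.subgroupOf (cz z), h' = h * s :=
            ⟨h⁻¹ * h', QuotientGroup.leftRel_apply.mp hhh, (mul_inv_cancel_left h h').symm⟩
          have hsc : (s : G) * h = h * s := ((h : cz z).2 s (Subgroup.mem_subgroupOf.mp hs))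
          have hsy : (s : G) * y = y * s := hy s (Subgroup.mem_subgroupOf.mp hs)
          congr 1
          rw [Subgroup.coe_mul, ← hsc, mul_inv_rev]
          calc (h : G)⁻¹ * y * h = (h : G)⁻¹ * (s : G)⁻¹ * ((s : G) * y) * h := by group
            _ = _ := by rw [hsy]; group)
      let : Fintype (cz z ⧸ Z.subgroupOf (cz z)) := Fintype.ofFinite _
      have hcard : Nat.card (Z.subgroupOf (cz z)) = p := by
        rw [Nat.card_congr (Subgroup.subgroupOfEquivOfLe
          ((Subgroup.zpowers_le.mpr hz).trans hPK)).toEquiv, Nat.card_zpowers, hzp]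
      rw [← Finset.sum_fiberwise Finset.univ (QuotientGroup.mk (s := Z.subgroupOf (cz z))),
        Finset.sum_congr rfl (g := fun q => (p : ResField M) * f q) fun q _ => ?_]
      · simp
      · rw [Finset.sum_congr rfl (g := fun _ => f q) fun h hh => by
          rw [← (Finset.mem_filter.mp hh).2]; rfl, Finset.sum_const, ← Fintype.card_subtype,
          ← Nat.card_eq_fintype_card, nsmul_eq_mul]
        obtain ⟨h₀, rfl⟩ := QuotientGroup.mk_surjective q
        congr 2
        rw [← hcard]
        exact Nat.card_congr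
          { toFun := fun h => ⟨h₀⁻¹ * h.1, QuotientGroup.eq.mp h.2.symm⟩
            invFun := fun s => ⟨h₀ * s.1, QuotientGroup.mk_mul_of_mem _ s.2⟩
            left_inv := fun h => by simp
            right_inv := fun s => by simp }
    have hmain : trunc Z (tr * eB M B * cc) = cc := by
      rw [hX, map_add, hzero, add_zero,
        trunc_mul hZp (fixAlg_anti (Set.subset_univ _) (eB_mem_fixAlg B _)) hcfix, hcsupp]
      simp only [cc, mapK_eB]
      exact trunc_eB_mul hM (FreeQuot.bk_pairOf hM hmax hz)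
    have hXfix : tr * eB M B * cc ∈ fixAlg (ResField M) (Z : Set G) :=
      mul_mem (mul_mem (mem_fixAlg.mpr fun s _ => (htr _).symm)
        (fixAlg_anti (Set.subset_univ _) (eB_mem_fixAlg B _))) hcfix
    have hnil' : IsNilpotent (tr * eB M B * cc) :=
      (show Commute (tr * eB M B) cc by
        show tr * eB M B * cc = cc * (tr * eB M B)
        rw [mul_assoc, eB_comm B cc, ← mul_assoc, htr cc, mul_assoc]).isNilpotent_mul_right hnil
    have hne : cc ≠ 0 := fun h => eB_ne_zero hM hb (mapK_injective (cz z) (h.trans (map_zero _).symm))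
    obtain ⟨m, hm⟩ := hnil'
    have hpow : ∀ j, trunc Z ((tr * eB M B * cc) ^ (j + 1)) = cc := fun j => by
      induction j with
      | zero => rw [pow_one, hmain]
      | succ j ihj => rw [pow_succ, trunc_mul hZp (pow_mem hXfix _) hXfix, ihj, hmain, D.idem]
    exact hne (by rw [← hpow m, pow_succ, hm, zero_mul, map_zero])
  -- the inverse of the trace under the block
  set X := tr * eB M B with hXdef
  have hXc : ∀ a, X * a = a * X := fun a => by
    rw [hXdef, mul_assoc, eB_comm B a, ← mul_assoc, htr a, mul_assoc]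
  obtain ⟨lam, hlam⟩ := U.loc X
  have hnilX : IsNilpotent (X - lam • eB M B) := by
    have hC : ∀ a, Commute (X - lam • (1 : KG M G)) a := fun a => by
      rw [Commute, SemiconjBy, sub_mul, mul_sub, hXc, smul_mul_assoc, mul_smul_comm, one_mul, mul_one]
    have he : (X - lam • (1 : KG M G)) * eB M B = X - lam • eB M B := by
      rw [sub_mul, smul_mul_assoc, one_mul, hXdef, mul_assoc, (isIdempotentElem_eB hB).eq]
    obtain ⟨m, hm⟩ := hlam
    refine ⟨m + 1, ?_⟩
    rw [← he, (hC _).mul_pow, (isIdempotentElem_eB hB).pow_succ_eq m, ← U.sum, Finset.mul_sum]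
    refine Finset.sum_eq_zero fun i _ => ?_
    have h1 : (X - lam • (1 : KG M G)) ^ (m + 1) * U.eps = 0 := by
      rw [← (show IsIdempotentElem U.eps from U.eps_idem).pow_succ_eq m, ← (hC _).mul_pow,
        show (X - lam • (1 : KG M G)) * U.eps = U.eps * X * U.eps - lam • U.eps by
          rw [sub_mul, smul_mul_assoc, one_mul, ← hXc U.eps, mul_assoc X, U.eps_idem],
        pow_succ, hm, zero_mul]
    rw [← U.mul_same i 0 i, ← U.mul_same i 0 0, ← mul_assoc, ← mul_assoc,
      ((hC (U.E i 0)).pow_left _).eq, mul_assoc (U.E i 0), h1, mul_zero, zero_mul]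
  have hlam0 : lam ≠ 0 := fun h => htrue (by simpa [h] using hnilX)
  obtain ⟨w, hw⟩ : ∃ w, tr * eB M B * w = eB M B := by
    set n := lam⁻¹ • (X - lam • eB M B)
    have hn : IsNilpotent n := hnilX.smul _
    obtain ⟨v, hv⟩ := hn.isUnit_one_add
    refine ⟨lam⁻¹ • (eB M B * ((v⁻¹ : (KG M G)ˣ) : KG M G)), ?_⟩
    have h1 : eB M B * (v : KG M G) = lam⁻¹ • X := by
      rw [hv, mul_add, mul_one, mul_smul_comm, mul_sub, mul_smul_comm,
        (isIdempotentElem_eB hB).eq, ← hXc, hXdef, mul_assoc, (isIdempotentElem_eB hB).eq,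
        smul_sub, smul_smul, inv_mul_cancel₀ hlam0, one_smul, add_sub_cancel]
    show X * _ = _
    rw [mul_smul_comm, ← mul_assoc, show X * eB M B = X by
      rw [hXdef, mul_assoc, (isIdempotentElem_eB hB).eq], ← smul_mul_assoc, ← h1, mul_assoc,
      Units.mul_inv, mul_one]
  refine U.exists_rad_gen fun d₁ d₂ hd₁ hd₂ => ?_
  obtain ⟨a, b', hab', h, hh⟩ := exists_inner_combination (U.act_surjective (eB_comm B)) L D
    (isIdempotentElem_eB hB).eq (U.act_e (eB_comm B)) hw
    (isDeriv_derivEnd U (eB_comm B) hd₁) (isDeriv_derivEnd U (eB_comm B) hd₂)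
  refine ⟨a, b', hab', fun x => ?_⟩
  have hd : U.IsEpsDeriv (a • d₁ + b' • d₂) :=
    ⟨fun y => by simp [← hd₁.corner y, ← hd₂.corner y], fun y y' hy hy' => by
      simp only [LinearMap.add_apply, LinearMap.smul_apply, smul_eq_mul, hd₁.leibniz y y' hy hy',
        hd₂.leibniz y y' hy hy']
      ring⟩
  have := U.deriv_eq_zero_of_inner (eB_comm B) hd h (fun y => by
    rw [← hh y, U.derivEnd_apply, U.derivEnd_apply, U.derivEnd_apply]
    simp only [← map_smul, ← map_add]
    congr 1
    ext i j
    simp [MatUnits.derivMat]) x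
  simpa using this

theorem gen_of_card_le (hM : IsPModular p M) : ∀ (n : ℕ) (G : Type u) [Group G] [Fintype G],
    Nat.card G ≤ n → Gen p M G := by
  intro n
  induction n with
  | zero => intro G _ _ h; exact absurd h (Nat.card_pos (α := G)).not_ge
  | succ n ihn =>
    intro G _ _ hn B P hB hPD hcyc hCI e he U
    subst he
    classical
    have hp := hM.1
    have : Fact p.Prime := ⟨hp⟩
    obtain ⟨⟨w, hwmem⟩, hgen⟩ := hcyc.exists_generator
    have hwP : P = Subgroup.zpowers w := le_antisymm (fun x hx => by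
      obtain ⟨i, hi⟩ := Subgroup.mem_zpowers_iff.mp (hgen ⟨x, hx⟩)
      exact Subgroup.mem_zpowers_iff.mpr ⟨i, by simpa using congrArg Subtype.val hi⟩)
      (Subgroup.zpowers_le.mpr hwmem)
    obtain ⟨a, ha⟩ := IsPGroup.iff_orderOf.mp (IsDefectGroup.isPGroup hM hPD) ⟨w, hwmem⟩
    rw [Subgroup.orderOf_mk] at ha
    rcases a with - | r
    · rw [pow_zero, orderOf_eq_one_iff] at ha
      rw [ha, Subgroup.zpowers_one_eq_bot] at hwP
      exact ⟨0, zero_mem _, (rad_le_sq_of_defect_zero hM hB (hwP ▸ hPD) U).trans le_sup_right⟩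
    by_cases hu : w ^ p ^ r ∈ Subgroup.center G
    · exact gen_central_step hM hB hPD hcyc hCI hwP ha hu
        (fun G₂ _ _ h => ihn G₂ (by omega)) U
    have huo : orderOf (w ^ p ^ r) = p := by
      rw [orderOf_pow_of_dvd (pow_ne_zero _ hp.ne_zero) (ha ▸ pow_dvd_pow p (Nat.le_succ r)),
        ha, Nat.pow_div (Nat.le_succ r) hp.pos, Nat.succ_sub (le_refl r), Nat.sub_self, pow_one]
    let : Fintype (cz (w ^ p ^ r)) := Fintype.ofFinite _
    refine gen_section_step hM hB hPD hcyc hCI (pow_mem hwmem _) huo (ihn _ ?_) U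
    have hlt : Nat.card (cz (w ^ p ^ r)) < Nat.card G := by
      refine lt_of_le_of_ne (Subgroup.card_le_card_group _) fun h => hu ?_
      have htop := Subgroup.card_eq_iff_eq_top (cz (w ^ p ^ r)) |>.mp h
      refine Subgroup.mem_center_iff.mpr fun g => ?_
      exact ((htop ▸ Subgroup.mem_top g : g ∈ cz (w ^ p ^ r)) _ (Subgroup.mem_zpowers _)).symm
    omega

/-- The corner of such a block is generated by one nilpotent element. -/
theorem exists_uniserial (hM : IsPModular p M) (hB : IsPBlock M B) {P : Subgroup G}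
    (hPD : IsDefectGroup p M B P) (hcyc : IsCyclic P) (hCI : RegActsTrivially p P)
    (U : MatUnits (ResField M) (eB M B)) :
    ∃ y ∈ U.rad, U.rad ≤ Submodule.span (ResField M) {y} ⊔ U.rad * U.rad :=
  gen_of_card_le hM (Nat.card G) G le_rfl B P hB hPD hcyc hCI _ rfl U

end CfsgLib.Blocks.CyclicDefect
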